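import Cfsg.Agent.Lib.MathieuTwentyTwo.Core

/-!
An elementary group of order nine acting on 2-subgroups.
-/

set_option autoImplicit false

namespace CfsgLib.MathieuTwentyTwo

open Subgroup

universe u

variable {G : Type u} [Group G] [Finite G]

/-- A subgroup mapped into itself by conjugation with `g` is normalised by `g`. -/
theorem mem_normalizer_of_conj_mem {B : Subgroup G} {g : G} (hg : ∀ b ∈ B, g * b * g⁻¹ ∈ B) :
    g ∈ normalizer (B : Set G) := by
  refine Subgroup.mem_normalizer_iff.2 fun b => ⟨hg b, fun hb => ?_⟩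
  have hsub : (fun c => g * c * g⁻¹) '' (B : Set G) ⊆ (B : Set G) := by
    rintro _ ⟨c, hc, rfl⟩; exact hg c hc
  have heq := Set.eq_of_subset_of_ncard_le hsub
    (by rw [Set.ncard_image_of_injective _ (fun a b e => mul_left_cancel (mul_right_cancel e))])
    (Set.toFinite _)
  obtain ⟨c, hc, e⟩ := heq.symm ▸ (show g * b * g⁻¹ ∈ (B : Set G) from hb)
  rwa [mul_left_cancel (mul_right_cancel e)] at hc

omit [Finite G] in
theorem conj_mem_of_mem_normalizer {B : Subgroup G} {g b : G} (hg : g ∈ normalizer (B : Set G))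
    (hb : b ∈ B) : g * b * g⁻¹ ∈ B :=
  (Subgroup.mem_normalizer_iff.1 hg b).1 hb

/-- Size of a class under a subgroup. -/
theorem ncard_conj_image (R : Subgroup G) (w : G) :
    ((fun r => r * w * r⁻¹) '' (R : Set G)).ncard *
      Nat.card (R ⊓ centralizer ({w} : Set G) : Subgroup G) = Nat.card R := by
  classical
  let act : MulAction R G :=
    { smul := fun r a => (r : G) * a * (r : G)⁻¹
      one_smul := fun a => by
        show ((1 : R) : G) * a * ((1 : R) : G)⁻¹ = a
        simp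
      mul_smul := fun r s a => by
        show ((r * s : R) : G) * a * ((r * s : R) : G)⁻¹ =
          (r : G) * ((s : G) * a * (s : G)⁻¹) * (r : G)⁻¹
        simp [mul_assoc] }
  have horb : @MulAction.orbit R G act.toSMul w = (fun r => r * w * r⁻¹) '' (R : Set G) := by
    ext a
    constructor
    · rintro ⟨r, rfl⟩; exact ⟨r, r.2, rfl⟩
    · rintro ⟨r, hr, rfl⟩; exact ⟨⟨r, hr⟩, rfl⟩
  have hst : @MulAction.stabilizer R G _ act w =
      (R ⊓ centralizer ({w} : Set G)).subgroupOf R := by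
    ext r
    show (r : G) * w * (r : G)⁻¹ = w ↔ _
    rw [Subgroup.mem_subgroupOf, Subgroup.mem_inf, mem_centralizer_singleton_iff, mul_inv_eq_iff_eq_mul]
    exact ⟨fun e => ⟨r.2, e⟩, fun e => e.2⟩
  have e := @MulAction.index_stabilizer R G _ act w
  rw [horb, hst] at e
  rw [← e, ← Nat.card_congr (Subgroup.subgroupOfEquivOfLe
    (inf_le_left : R ⊓ centralizer ({w} : Set G) ≤ R)).toEquiv]
  exact Subgroup.index_mul_card _

/-- Normalisers grow in p-groups. -/
theorem exists_normalizing_notMem {p : ℕ} [Fact p.Prime] {B R : Subgroup G} (hR : IsPGroup p R)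
    (hle : B ≤ R) (hne : B ≠ R) : ∃ g ∈ R, g ∉ B ∧ g ∈ normalizer (B : Set G) := by
  have := hR.isNilpotent
  have hlt : B.subgroupOf R < ⊤ := by
    refine lt_top_iff_ne_top.2 fun e => hne (le_antisymm hle ?_)
    exact Subgroup.subgroupOf_eq_top.1 e
  obtain ⟨g, hg, hg'⟩ := SetLike.exists_of_lt (Group.normalizerCondition_of_isNilpotent _ hlt)
  refine ⟨g, g.2, fun hm => hg' hm, mem_normalizer_of_conj_mem fun b hb => ?_⟩
  exact (Subgroup.mem_normalizer_iff.1 hg ⟨b, hle hb⟩).1 hb

namespace NseRoute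

variable {G : Type u} [Group G] [Finite G]

/-- A commuting pair of elements of order three, the second moving the four group of the first. -/
structure Pair (x y : G) : Prop where
  comm : Commute y x
  ox : orderOf x = 3
  oy : orderOf y = 3
  moves : ∀ v ∈ fourOf x, v ≠ 1 → ¬ Commute y v

theorem orderOf_three_of {z : G} (hz : z * z * z = 1) (hne : z ≠ 1) : orderOf z = 3 :=
  orderOf_eq_prime (by rw [pow_succ, pow_succ, pow_one, hz]) hne

theorem mul_three_of {z : G} (hz : orderOf z = 3) : z * z * z = 1 := by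
  rw [← pow_orderOf_eq_one z, hz]; simp [pow_succ]

theorem zpow_three_cases {x : G} (hx : orderOf x = 3) (i : ℤ) :
    x ^ i = 1 ∨ x ^ i = x ∨ x ^ i = x⁻¹ := by
  rw [← zpow_mod_orderOf, hx]
  have h1 := Int.emod_nonneg i (show (3 : ℤ) ≠ 0 by norm_num)
  have h2 := Int.emod_lt_of_pos i (show (0 : ℤ) < 3 by norm_num)
  have : i % ((3 : ℕ) : ℤ) = 0 ∨ i % ((3 : ℕ) : ℤ) = 1 ∨ i % ((3 : ℕ) : ℤ) = 2 := by omega
  rcases this with e | e | e <;> rw [e]
  · simp
  · simp
  · refine Or.inr (Or.inr (eq_inv_of_mul_eq_one_left ?_))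
    rw [show (2 : ℤ) = ((2 : ℕ) : ℤ) by norm_num, zpow_natCast, pow_two]
    exact mul_three_of hx

/-- The subgroup generated by a commuting pair. -/
def pairSpan {x y : G} (hc : Commute y x) : Subgroup G where
  carrier := {g | ∃ i j : ℤ, g = x ^ i * y ^ j}
  one_mem' := ⟨0, 0, by simp⟩
  mul_mem' := by
    rintro _ _ ⟨i, j, rfl⟩ ⟨i', j', rfl⟩
    refine ⟨i + i', j + j', ?_⟩
    rw [zpow_add, zpow_add]
    calc x ^ i * y ^ j * (x ^ i' * y ^ j') = x ^ i * (y ^ j * x ^ i') * y ^ j' := by group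
      _ = x ^ i * (x ^ i' * y ^ j) * y ^ j' := by rw [(hc.zpow_zpow j i').eq]
      _ = _ := by group
  inv_mem' := by
    rintro _ ⟨i, j, rfl⟩
    refine ⟨-i, -j, ?_⟩
    rw [mul_inv_rev, ← zpow_neg, ← zpow_neg, (hc.zpow_zpow (-j) (-i)).eq]

namespace Pair

variable {x y : G} (p : Pair x y)
include p

theorem isPGroup_span : IsPGroup 3 (pairSpan p.comm) := by
  rintro ⟨g, i, j, rfl⟩
  refine ⟨1, Subtype.ext ?_⟩
  show (x ^ i * y ^ j) ^ 3 = 1
  rw [(p.comm.zpow_zpow j i).symm.mul_pow, ← zpow_natCast, ← zpow_natCast, ← zpow_mul, ← zpow_mul,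
    mul_comm i, mul_comm j, zpow_mul, zpow_mul, zpow_natCast, zpow_natCast]
  rw [show x ^ 3 = 1 from p.ox ▸ pow_orderOf_eq_one x, show y ^ 3 = 1 from p.oy ▸ pow_orderOf_eq_one y]
  simp

theorem left_mem_span : x ∈ pairSpan p.comm := ⟨1, 0, by simp⟩

theorem right_mem_span : y ∈ pairSpan p.comm := ⟨0, 1, by simp⟩

theorem ne_zpow (h : Local G) (i : ℤ) : y ≠ x ^ i := by
  intro e
  have hx := p.ox
  obtain ⟨v, hv, hv1⟩ : ∃ v ∈ fourOf x, v ≠ 1 := by
    by_contra hc
    push Not at hc
    have : fourOf x = ⊥ := (Subgroup.eq_bot_iff_forall _).2 hc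
    have h4 := h.card_fourOf hx
    rw [this, Subgroup.card_bot] at h4
    omega
  refine p.moves v hv hv1 ?_
  rw [e]
  exact ((h.mem_fourOf hx).1 hv).1.zpow_left i

theorem nine_dvd_span (h : Local G) : 9 ∣ Nat.card (pairSpan p.comm) := by
  have : Fact (Nat.Prime 3) := ⟨Nat.prime_three⟩
  obtain ⟨n, hn⟩ := IsPGroup.iff_card.1 p.isPGroup_span
  have hz : zpowers x < pairSpan p.comm := by
    refine lt_of_le_of_ne (zpowers_le.2 p.left_mem_span) fun e => ?_
    have := p.right_mem_span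
    rw [← e, Subgroup.mem_zpowers_iff] at this
    obtain ⟨i, hi⟩ := this
    exact p.ne_zpow h i hi.symm
  have h3 : 3 < Nat.card (pairSpan p.comm) := by
    by_contra hle
    push Not at hle
    refine hz.ne (Subgroup.eq_of_le_of_card_ge hz.le ?_)
    rw [Nat.card_zpowers, p.ox]; exact hle
  rw [hn] at h3 ⊢
  rcases n with _ | _ | n
  · simp at h3
  · simp at h3
  · exact ⟨3 ^ n, by ring⟩

/-- A set of size prime to nine invariant under the pair meets the fixed points of one of the lines. -/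
theorem exists_commute (h : Local G) (A : Set G) (hxA : ∀ a ∈ A, x * a * x⁻¹ ∈ A)
    (hyA : ∀ a ∈ A, y * a * y⁻¹ ∈ A) (hc : ¬ 9 ∣ A.ncard) :
    ∃ a ∈ A, Commute x a ∨ Commute y a ∨ Commute (x * y) a ∨ Commute (x * y⁻¹) a := by
  classical
  by_contra hno
  push Not at hno
  have hzp : ∀ {z : G}, (∀ a ∈ A, z * a * z⁻¹ ∈ A) → orderOf z = 3 →
      ∀ (i : ℤ), ∀ a ∈ A, z ^ i * a * (z ^ i)⁻¹ ∈ A := by
    intro z hzA hz i a ha
    rcases zpow_three_cases hz i with e | e | e <;> rw [e]
    · simpa using ha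
    · exact hzA a ha
    · rw [show z⁻¹ = z * z from (eq_inv_of_mul_eq_one_left (mul_three_of hz)).symm]
      have := hzA _ (hzA a ha)
      simpa [mul_assoc] using this
  let act : MulAction (pairSpan p.comm) A :=
    { smul := fun g a => ⟨(g : G) * a.1 * (g : G)⁻¹, by
        obtain ⟨i, j, e⟩ := g.2
        rw [e]
        have := hzp hxA p.ox i _ (hzp hyA p.oy j a.1 a.2)
        simpa [mul_assoc] using this⟩
      one_smul := fun a => Subtype.ext (by
        show ((1 : pairSpan p.comm) : G) * a.1 * ((1 : pairSpan p.comm) : G)⁻¹ = a.1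
        simp)
      mul_smul := fun g g' a => Subtype.ext (by
        show ((g * g' : pairSpan p.comm) : G) * a.1 * ((g * g' : pairSpan p.comm) : G)⁻¹ =
          (g : G) * ((g' : G) * a.1 * (g' : G)⁻¹) * (g : G)⁻¹
        simp [mul_assoc]) }
  have hfree : ∀ a : A, @MulAction.stabilizer _ _ _ act a = ⊥ := by
    intro a
    rw [Subgroup.eq_bot_iff_forall]
    intro g hg
    have hc' : Commute (g : G) a.1 := mul_inv_eq_iff_eq_mul.1 (congrArg Subtype.val hg)
    obtain ⟨n1, n2, n3, n4⟩ := hno a.1 a.2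
    obtain ⟨i, j, e⟩ := g.2
    rw [e] at hc'
    refine Subtype.ext ?_
    show (g : G) = 1
    rw [e]
    have hcinv : ∀ {w : G}, Commute w⁻¹ a.1 → Commute w a.1 := fun {w} hw => by
      simpa using hw.inv_left
    rcases zpow_three_cases p.ox i with ei | ei | ei <;>
      rcases zpow_three_cases p.oy j with ej | ej | ej <;> rw [ei, ej] at hc' ⊢
    · simp
    · exact absurd (by simpa using hc') n2
    · exact absurd (hcinv (by simpa using hc')) n2
    · exact absurd (by simpa using hc') n1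
    · exact absurd hc' n3
    · exact absurd hc' n4
    · exact absurd (hcinv (by simpa using hc')) n1
    · refine absurd (hcinv ?_) n4
      rw [mul_inv_rev, inv_inv, (p.comm.inv_right).eq]
      exact hc'
    · refine absurd (hcinv ?_) n3
      rw [mul_inv_rev, (p.comm.inv_inv).eq]
      exact hc'
  refine hc ?_
  rw [← Nat.card_coe_set_eq,
    Nat.card_congr (@MulAction.selfEquivOrbitsQuotientProd _ _ _ act hfree), Nat.card_prod]
  exact Dvd.dvd.mul_left (p.nine_dvd_span h) _

theorem mul (h : Local G) : Pair x (x * y) := by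
  refine ⟨(Commute.refl x).mul_left p.comm, p.ox, orderOf_three_of ?_ ?_, ?_⟩
  · calc x * y * (x * y) * (x * y) = x * (y * x) * (y * (x * y)) := by group
      _ = x * (x * y) * (y * (y * x)) := by rw [p.comm.eq]
      _ = x * x * (y * y * y) * x := by group
      _ = x * x * x := by rw [mul_three_of p.oy, mul_one]
      _ = 1 := mul_three_of p.ox
  · intro e
    exact p.ne_zpow h (-1) (by rw [zpow_neg_one]; exact eq_inv_of_mul_eq_one_right e)
  · intro v hv hv1 hxy
    refine p.moves v hv hv1 ?_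
    have := (((h.mem_fourOf p.ox).1 hv).1.inv_left).mul_left hxy
    simpa using this

theorem inv_right (h : Local G) : Pair x y⁻¹ := by
  refine ⟨p.comm.inv_left, p.ox, by rw [orderOf_inv, p.oy], ?_⟩
  intro v hv hv1 hc
  exact p.moves v hv hv1 (by simpa using hc.inv_left)

theorem symm (h : Local G) : Pair y x := by
  refine ⟨p.comm.symm, p.oy, p.ox, ?_⟩
  intro v hv hv1 hc
  have hv' := (h.mem_fourOf p.oy).1 hv
  exact p.moves v ((h.mem_fourOf p.ox).2 ⟨hc, hv'.2⟩) hv1 hv'.1

/-- The lines of the pair other than that of `x`. -/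
theorem exists_line (h : Local G) (A : Set G) (hxA : ∀ a ∈ A, x * a * x⁻¹ ∈ A)
    (hyA : ∀ a ∈ A, y * a * y⁻¹ ∈ A) (hx : ∀ a ∈ A, ¬ Commute x a) (hc : ¬ 9 ∣ A.ncard) :
    ∃ z a, Pair x z ∧ z ∈ pairSpan p.comm ∧ a ∈ A ∧ Commute z a := by
  obtain ⟨a, ha, h1 | h2 | h3 | h4⟩ := p.exists_commute h A hxA hyA hc
  · exact absurd h1 (hx a ha)
  · exact ⟨y, a, p, p.right_mem_span, ha, h2⟩
  · exact ⟨x * y, a, p.mul h, mul_mem p.left_mem_span p.right_mem_span, ha, h3⟩
  · exact ⟨x * y⁻¹, a, (p.inv_right h).mul h,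
      mul_mem p.left_mem_span (inv_mem p.right_mem_span), ha, h4⟩

theorem span_le_normalizer {B : Subgroup G} (hx : x ∈ normalizer (B : Set G))
    (hy : y ∈ normalizer (B : Set G)) : pairSpan p.comm ≤ normalizer (B : Set G) := by
  rintro g ⟨i, j, rfl⟩
  exact mul_mem (zpow_mem hx i) (zpow_mem hy j)

end Pair

end NseRoute

end CfsgLib.MathieuTwentyTwo
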