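import Cfsg.Agent.Lib.MathieuTwentyTwo.ModelDefs

/-!
Kernel checks: centralisers of elements of prime order in the model.
-/

set_option autoImplicit false
set_option maxRecDepth 100000

namespace CfsgLib.MathieuTwentyTwo.Model

open Cfsg CfsgLib.Golay CfsgLib.FusionMathieu CfsgLib.MathieuBlocks CfsgLib.MathieuBlocks.Data

theorem z_block0_check : commOK m22AZ zBlock0 = true := by
  decide +kernel

theorem z_block1_check : commOK m22AZ zBlock1 = true := by
  decide +kernel

theorem z_block2_check : commOK m22AZ zBlock2 = true := by
  decide +kernel

theorem z_block3_check : commOK m22AZ zBlock3 = true := by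
  decide +kernel

theorem z_block4_check : commOK m22AZ zBlock4 = true := by
  decide +kernel

theorem z_block5_check : commOK m22AZ zBlock5 = true := by
  decide +kernel

theorem z_block6_check : commOK m22AZ zBlock6 = true := by
  decide +kernel

theorem z_block7_check : commOK m22AZ zBlock7 = true := by
  decide +kernel

theorem z_length : zList.length = 384 := by decide +kernel

theorem z_nodup : (zList.map key).Nodup := by decide +kernel

theorem z_ord : hasOrd m22AZ 2 = true := by decide +kernel

theorem x_list_check :
    (commOK m22X xList && Nat.beq xList.length 36 && decide (xList.map key).Nodup) = true := by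
  decide +kernel

theorem x_order_check :
    (xList.all fun l => [1, 2, 3, 6].any (hasOrd l)) = true := by
  decide +kernel

theorem x_root_check :
    Nat.beq (xList.filter fun l => hasOrd l 3 && powIs l 1 m22X).length 1
      = true := by
  decide +kernel

/-- No involution centralising `x` centralises the Sylow subgroup around it. -/

theorem x_nine_check :
    (m22Syl3.contains m22X && xList.all fun l => !(hasOrd l 2) ||
      m22Syl3.any fun s => !(comp l s == comp s l)) = true := by
  decide +kernel

theorem five_check :
    (valid fiveY && inG22 fiveY && hasOrd fiveY 5 && Schur.GolaySearch.stagesOK fiveY 0 fiveSt &&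
      candOK (okFix fiveY) fiveSt && decide (cosearch inG22 fiveY fiveSt).Nodup &&
      Nat.beq (cosearch inG22 fiveY fiveSt).length 5) = true := by
  decide +kernel

theorem seven_check :
    (valid sevenY && inG22 sevenY && hasOrd sevenY 7 && Schur.GolaySearch.stagesOK sevenY 0 sevenSt &&
      candOK (okFix sevenY) sevenSt && decide (cosearch inG22 sevenY sevenSt).Nodup &&
      Nat.beq (cosearch inG22 sevenY sevenSt).length 7) = true := by
  decide +kernel

theorem eleven_check :
    (valid elevenY && inG22 elevenY && hasOrd elevenY 11 &&
      Schur.GolaySearch.stagesOK elevenY 0 elevenSt &&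
      candOK (okFix elevenY) elevenSt && decide (cosearch inG22 elevenY elevenSt).Nodup &&
      Nat.beq (cosearch inG22 elevenY elevenSt).length 11) = true := by
  decide +kernel

end CfsgLib.MathieuTwentyTwo.Model
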