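import Cfsg.Agent.Lib.MathieuTwentyTwo.ModelDefs

/-!
Kernel checks: element orders in the centraliser of an involution of the model.
-/

set_option autoImplicit false
set_option maxRecDepth 100000

namespace CfsgLib.MathieuTwentyTwo.Model

open Cfsg CfsgLib.Golay CfsgLib.FusionMathieu CfsgLib.MathieuBlocks CfsgLib.MathieuBlocks.Data

theorem z_order_check :
    (zList.all fun l => [1, 2, 3, 4, 6, 8].any (hasOrd l)) = true := by
  decide +kernel

theorem z_root_check :
    (Nat.beq (zList.filter fun l => hasOrd l 2 && powIs l 1 m22AZ).length 1 &&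
      Nat.beq (zList.filter fun l => hasOrd l 4 && powIs l 2 m22AZ).length 36 &&
      Nat.beq (zList.filter fun l => hasOrd l 6 && powIs l 3 m22AZ).length 32 &&
      Nat.beq (zList.filter fun l => hasOrd l 8 && powIs l 4 m22AZ).length 48) = true := by
  decide +kernel

end CfsgLib.MathieuTwentyTwo.Model
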