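import Cfsg.Agent.Lib.MathieuTwentyTwo.ModelLists
import Cfsg.Agent.Lib.MathieuTwentyTwo.ModelChecks
import Cfsg.Agent.Lib.MathieuTwentyTwo.ModelChecksOrd
import Cfsg.Agent.Lib.MathieuTwentyTwo.Lines

/-!
The numbers of elements of each order in the stabiliser of two points.
-/

set_option autoImplicit false

namespace CfsgLib.MathieuTwentyTwo.Model

open Cfsg CfsgLib.Golay CfsgLib.FusionMathieu CfsgLib.MathieuBlocks CfsgLib.MathieuBlocks.Data
open CfsgLib.Recog.OrderCounts Subgroup

universe u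

section General

variable {G : Type u} [Group G] [Finite G]

/-- Conjugating generators of Sylow subgroups of prime order. -/
theorem exists_conj_zpowers {p : ℕ} (hp : p.Prime) (hd : ¬ p * p ∣ Nat.card G) {y w : G}
    (hy : orderOf y = p) (hw : orderOf w = p) :
    ∃ c, zpowers (c * w * c⁻¹) = zpowers y := by
  have := Fact.mk hp
  have key : ∀ a : G, orderOf a = p → ∃ P : Sylow p G, (P : Subgroup G) = zpowers a := by
    intro a ha
    obtain ⟨P, hP⟩ := (IsPGroup.of_card (n := 1) (by rw [Nat.card_zpowers, ha, pow_one] :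
      Nat.card (zpowers a) = p ^ 1)).exists_le_sylow
    exact ⟨P, (Subgroup.eq_of_le_of_card_ge hP (le_of_eq (by
      rw [Nat.card_zpowers, ha]
      exact card_sylow_eq_prime (ha ▸ orderOf_dvd_natCard a) hd P))).symm⟩
  obtain ⟨P, hP⟩ := key y hy
  obtain ⟨Q, hQ⟩ := key w hw
  obtain ⟨c, hc⟩ := MulAction.exists_smul_eq G Q P
  refine ⟨c, Subgroup.eq_of_le_of_card_ge (zpowers_le.2 ?_)
    (by rw [Nat.card_zpowers, Nat.card_zpowers, orderOf_conj, hw, hy])⟩
  rw [← hP, ← hc, Sylow.coe_subgroup_smul]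
  exact ⟨w, by show w ∈ (Q : Subgroup G); rw [hQ]; exact mem_zpowers w, rfl⟩

/-- All elements of the same prime order have centralisers of the same order. -/
theorem card_centralizer_prime {p : ℕ} (hp : p.Prime) (hd : ¬ p * p ∣ Nat.card G) {y w : G}
    (hy : orderOf y = p) (hw : orderOf w = p) :
    Nat.card (centralizer ({w} : Set G)) = Nat.card (centralizer ({y} : Set G)) := by
  obtain ⟨c, hc⟩ := exists_conj_zpowers hp hd hy hw
  rw [← card_centralizer_conj c w, ← Subgroup.centralizer_closure {c * w * c⁻¹},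
    ← zpowers_eq_closure, hc, zpowers_eq_closure, Subgroup.centralizer_closure]

/-- The number of elements of order `p`, from the centraliser of one of them. -/
theorem exists_cnt_prime {p : ℕ} (hp : p.Prime) (hd : ¬ p * p ∣ Nat.card G) {y : G} (hy : orderOf y = p)
    (hC : Nat.card (centralizer ({y} : Set G)) = p) :
    ∃ n i, n % p = 1 ∧ i < p ∧ n * (i * p) = Nat.card G ∧ cntOrd G p = n * (p - 1) := by
  have := Fact.mk hp
  have hG : p ∣ Nat.card G := hy ▸ orderOf_dvd_natCard y
  have hn := NseRoute.card_normalizer_zpowers hp hd hy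
  set N := normalizer (zpowers y : Set G) with hN
  have e := ncard_conj_image N y
  rw [inf_eq_right.2 (NseRoute.centralizer_le_normalizer_zpowers y), hC] at e
  have hle : ((fun r => r * y * r⁻¹) '' (N : Set G)).ncard ≤ p - 1 := by
    have hsub : (fun r => r * y * r⁻¹) '' (N : Set G) ⊆ (zpowers y : Set G) \ {1} := by
      rintro _ ⟨r, hr, rfl⟩
      refine ⟨conj_mem_of_mem_normalizer hr (mem_zpowers y), fun e1 => hp.ne_one ?_⟩
      have e2 : r * y * r⁻¹ = 1 := e1
      rw [← hy, ← orderOf_conj r y, e2, orderOf_one]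
    have := Set.ncard_le_ncard hsub (Set.toFinite _)
    rw [Set.ncard_sdiff_singleton_of_mem (one_mem _), ← Nat.card_coe_set_eq] at this
    exact this.trans (le_of_eq (congrArg (· - 1) ((Nat.card_zpowers y).trans hy)))
  refine ⟨Nat.card (Sylow p G), ((fun r => r * y * r⁻¹) '' (N : Set G)).ncard, ?_, ?_, ?_, ?_⟩
  · have := card_sylow_modEq_one p G
    rw [Nat.ModEq, Nat.one_mod_eq_one.2 hp.ne_one] at this
    exact this
  · have := hp.two_le
    omega
  · rw [e]; exact hn
  · exact cntOrd_prime_eq (card_sylow_eq_prime (G := G) hG hd)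

/-- Elements of order `p * m` over one class of elements of order `p`. -/
theorem cnt_mul_card_centralizer {p m : ℕ} (hp : 0 < p) (hm : m ≠ 0) {u : G} (hu : orderOf u = p)
    (hconj : ∀ v : G, orderOf v = p → IsConj u v) :
    cntOrd G (p * m) * Nat.card (centralizer ({u} : Set G)) = Nat.card G *
      Nat.card {g : G // g ∈ centralizer ({u} : Set G) ∧ (orderOf g = p * m ∧ g ^ m = u)} := by
  classical
  have := Fintype.ofFinite G
  set r := Nat.card {g : G // g ∈ centralizer ({u} : Set G) ∧ (orderOf g = p * m ∧ g ^ m = u)} with hr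
  have hfib : ∀ v : {v : G // orderOf v = p},
      Nat.card {g : G // orderOf g = p * m ∧ g ^ m = v.1} = r := by
    intro v
    obtain ⟨c, hc⟩ := isConj_iff.1 (hconj v.1 v.2)
    refine (Nat.card_congr ((MulAut.conj c).toEquiv.subtypeEquiv fun g => ?_)).symm
    show _ ↔ orderOf (c * g * c⁻¹) = p * m ∧ (c * g * c⁻¹) ^ m = v.1
    rw [orderOf_conj, conj_pow, ← hc]
    constructor
    · rintro ⟨-, h1, h2⟩
      exact ⟨h1, by rw [h2]⟩
    · rintro ⟨h1, h2⟩
      have h3 : g ^ m = u := mul_left_cancel (mul_right_cancel h2)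
      exact ⟨mem_centralizer_singleton_iff.2 (h3 ▸ (Commute.self_pow g m).eq), h1, h3⟩
  have hsig : cntOrd G (p * m) = Nat.card (Σ v : {v : G // orderOf v = p},
      {g : G // orderOf g = p * m ∧ g ^ m = v.1}) := by
    refine Nat.card_congr
      { toFun := fun g => ⟨⟨g.1 ^ m, by
          rw [orderOf_pow' g.1 hm, g.2, Nat.gcd_mul_left_left, Nat.mul_div_cancel _ (Nat.pos_of_ne_zero hm)]⟩,
          ⟨g.1, g.2, rfl⟩⟩
        invFun := fun q => ⟨q.2.1, q.2.2.1⟩
        left_inv := fun g => rfl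
        right_inv := ?_ }
    rintro ⟨⟨v, hv⟩, ⟨g, hg, hgm⟩⟩
    exact Sigma.subtype_ext (Subtype.ext hgm) rfl
  have := Fintype.ofFinite {v : G // orderOf v = p}
  rw [hsig, Nat.card_sigma, Finset.sum_congr rfl (fun v _ => hfib v), Finset.sum_const, Finset.card_univ,
    smul_eq_mul, ← Nat.card_eq_fintype_card]
  have hcls : Nat.card {v : G // orderOf v = p} * Nat.card (centralizer ({u} : Set G)) = Nat.card G := by
    have e := ncard_conj_image (⊤ : Subgroup G) u
    rw [top_inf_eq, Subgroup.card_top] at e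
    rw [← e]
    congr 1
    show Nat.card ({v : G | orderOf v = p} : Set G) = _
    rw [Nat.card_coe_set_eq]
    congr 1
    ext v
    constructor
    · intro hv
      obtain ⟨c, hc⟩ := isConj_iff.1 (hconj v hv)
      exact ⟨c, trivial, hc⟩
    · rintro ⟨c, -, rfl⟩
      exact (orderOf_conj c u).trans hu
  calc Nat.card {v : G // orderOf v = p} * r * Nat.card (centralizer ({u} : Set G))
      = Nat.card {v : G // orderOf v = p} * Nat.card (centralizer ({u} : Set G)) * r := by ring
    _ = Nat.card G * r := by rw [hcls]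

end General

local notation "M" => Cfsg.Spor.M22

theorem prime_elem {Y : List ℕ} {ss : List Schur.GolaySearch.Stage} {p : ℕ} (hp : 0 < p)
    (h : (valid Y && inG22 Y && hasOrd Y p && Schur.GolaySearch.stagesOK Y 0 ss &&
      candOK (okFix Y) ss && decide (cosearch inG22 Y ss).Nodup &&
      Nat.beq (cosearch inG22 Y ss).length p) = true) :
    ∃ y : M, orderOf y = p ∧ Nat.card (centralizer ({y} : Set M)) = p := by
  simp only [Bool.and_eq_true, Nat.beq_eq, decide_eq_true_eq] at h
  obtain ⟨⟨⟨⟨⟨⟨hv, hin⟩, hord⟩, hst⟩, hcand⟩, hnd⟩, hlen⟩ := h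
  obtain ⟨y, hy⟩ := exists_elem Twenty22.tested (l := Y) (by simp [hv, hin])
  subst hy
  exact ⟨y, (hasOrd_coe hp).1 hord, by rw [natCard_centralizer_okFix y hst hcand hnd, hlen]⟩

theorem five_elem : ∃ y : M, orderOf y = 5 ∧ Nat.card (centralizer ({y} : Set M)) = 5 :=
  prime_elem (Y := fiveY) (ss := fiveSt) (p := 5) (by norm_num) five_check

theorem seven_elem : ∃ y : M, orderOf y = 7 ∧ Nat.card (centralizer ({y} : Set M)) = 7 :=
  prime_elem (Y := sevenY) (ss := sevenSt) (p := 7) (by norm_num) seven_check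

theorem eleven_elem : ∃ y : M, orderOf y = 11 ∧ Nat.card (centralizer ({y} : Set M)) = 11 :=
  prime_elem (Y := elevenY) (ss := elevenSt) (p := 11) (by norm_num) eleven_check

theorem not_sq {p : ℕ} (hp : p = 5 ∨ p = 7 ∨ p = 11) : ¬ p * p ∣ Nat.card M := by
  rw [card_M22]; rcases hp with rfl | rfl | rfl <;> norm_num

theorem centralizer_prime {p : ℕ} (hp : p = 5 ∨ p = 7 ∨ p = 11) {w : M} (hw : orderOf w = p) :
    Nat.card (centralizer ({w} : Set M)) = p := by
  obtain ⟨y, hy, hC⟩ : ∃ y : M, orderOf y = p ∧ Nat.card (centralizer ({y} : Set M)) = p := by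
    rcases hp with rfl | rfl | rfl
    exacts [five_elem, seven_elem, eleven_elem]
  rw [card_centralizer_prime (by rcases hp with rfl | rfl | rfl <;> norm_num) (not_sq hp) hy hw, hC]

theorem cnt_five : cntOrd M 5 = 88704 := by
  obtain ⟨y, hy, hC⟩ := five_elem
  obtain ⟨n, i, h1, h2, h3, h4⟩ := exists_cnt_prime (by norm_num) (not_sq (by simp)) hy hC
  rw [card_M22] at h3
  interval_cases i <;> omega

theorem cnt_seven : cntOrd M 7 = 126720 := by
  obtain ⟨y, hy, hC⟩ := seven_elem
  obtain ⟨n, i, h1, h2, h3, h4⟩ := exists_cnt_prime (by norm_num) (not_sq (by simp)) hy hC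
  rw [card_M22] at h3
  interval_cases i <;> omega

theorem cnt_eleven : cntOrd M 11 = 80640 := by
  obtain ⟨y, hy, hC⟩ := eleven_elem
  obtain ⟨n, i, h1, h2, h3, h4⟩ := exists_cnt_prime (by norm_num) (not_sq (by simp)) hy hC
  rw [card_M22] at h3
  interval_cases i <;> omega

/-- The chosen element of order three and its centraliser list. -/
theorem three_data : ∃ x : M, toList x.1 = m22X ∧ orderOf x = 3 ∧
    (∀ v : M, orderOf v = 3 → IsConj x v) ∧ Nat.card (centralizer ({x} : Set M)) = 36 ∧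
    (∀ g : M, g ∈ centralizer ({x} : Set M) ↔ toList g.1 ∈ xList) := by
  have h := Twenty22.three_check
  simp only [Bool.and_eq_true, Nat.beq_eq] at h
  obtain ⟨⟨⟨hreal, hlist⟩, hlen⟩, hcov⟩ := h
  obtain ⟨x, hx⟩ := exists_elem Twenty22.tested Twenty22.x_check
  rw [← hx] at hreal
  obtain ⟨hx3, -⟩ := real_three Twenty22.tested hreal
  have hc := Twenty22.three_cent
  simp only [Bool.and_eq_true, Nat.beq_eq, decide_eq_true_eq] at hc
  obtain ⟨⟨⟨hst, hcand⟩, hnd⟩, hcard⟩ := hc
  rw [← hx] at hst hnd hcard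
  have hcand' : candOK (okFix (toList x.1)) m22XSt = true := by rw [hx]; exact hcand
  have hC : Nat.card (centralizer ({x} : Set M)) = 36 := by
    rw [natCard_centralizer_okFix x hst hcand' hnd, hcard]
  refine ⟨x, hx, hx3, fun v hv => ?_, hC, ?_⟩
  · rcases exists_three_rep Twenty22.tested Twenty22.fac_three hlist hlen hcov ⟨1, hv.trans (pow_one 3).symm⟩
      with rfl | ⟨k, hk, hrep⟩
    · rw [orderOf_one] at hv; omega
    · have hk0 : k = 0 := by simpa using hk
      subst hk0
      exact hrep x hx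
  · have hl := x_list_check
    simp only [Bool.and_eq_true, Nat.beq_eq, decide_eq_true_eq] at hl
    obtain ⟨⟨hok, hlen'⟩, hnd'⟩ := hl
    rw [← hx] at hok
    exact mem_list_iff hok hnd' (by rw [hC, hlen'])

theorem z_commOK : commOK m22AZ zList = true := by
  simp only [commOK, zList, List.all_append]
  have h0 := z_block0_check
  have h1 := z_block1_check
  have h2 := z_block2_check
  have h3 := z_block3_check
  have h4 := z_block4_check
  have h5 := z_block5_check
  have h6 := z_block6_check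
  have h7 := z_block7_check
  simp only [commOK] at h0 h1 h2 h3 h4 h5 h6 h7
  rw [h0, h1, h2, h3, h4, h5, h6, h7]
  rfl

/-- The chosen involution and its centraliser list. -/
theorem two_data : ∃ z : M, toList z.1 = m22AZ ∧ orderOf z = 2 ∧
    (∀ v : M, orderOf v = 2 → IsConj z v) ∧ Nat.card (centralizer ({z} : Set M)) = 384 ∧
    (∀ g : M, g ∈ centralizer ({z} : Set M) ↔ toList g.1 ∈ zList) := by
  classical
  have : Fact (Nat.Prime 3) := ⟨Nat.prime_three⟩
  obtain ⟨z, hz⟩ := exists_elem Twenty22.tested Twenty22.inv_check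
  have hz2 : orderOf z = 2 := (hasOrd_coe two_pos).1 (hz.symm ▸ z_ord)
  have hconj : ∀ v : M, orderOf v = 2 → IsConj z v := by
    intro v hv
    have h := Twenty22.inv_cover
    simp only [Bool.and_eq_true, Nat.beq_eq] at h
    obtain ⟨⟨⟨hgens, hchain⟩, hlen⟩, hcov⟩ := h
    obtain ⟨k, hk, hrep⟩ := exists_involution_rep Twenty22.tested Twenty22.fac_two hlen hgens hchain hcov hv
    have hk0 : k = 0 := by simpa using hk
    subst hk0
    exact hrep z hz
  have hok : commOK (toList z.1) zList = true := hz.symm ▸ z_commOK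
  set C := centralizer ({z} : Set M) with hC
  have hge : 384 ≤ Nat.card C := z_length ▸ length_le hok z_nodup
  have hnp : ∀ p, (p = 5 ∨ p = 7 ∨ p = 11) → ¬ p ∣ Nat.card C := by
    intro p hp hd
    have hpp : p.Prime := by rcases hp with rfl | rfl | rfl <;> norm_num
    have := Fact.mk hpp
    obtain ⟨⟨y, hy⟩, hyo⟩ := exists_prime_orderOf_dvd_card' p hd
    rw [Subgroup.orderOf_mk] at hyo
    have hm : z ∈ centralizer ({y} : Set M) :=
      mem_centralizer_singleton_iff.2 (mem_centralizer_singleton_iff.1 hy).symm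
    have := Subgroup.orderOf_dvd_natCard _ hm
    rw [centralizer_prime hp hyo, hz2] at this
    rcases hp with rfl | rfl | rfl <;> norm_num at this
  have h9 : ¬ 9 ∣ Nat.card C := by
    intro hd
    obtain ⟨Q, hQ⟩ := Sylow.exists_subgroup_card_pow_prime (G := C) 3 (n := 2) (by simpa using hd)
    obtain ⟨x, hx, -, -, -, hmem⟩ := three_data
    have h3 := Twenty22.three_check
    simp only [Bool.and_eq_true, Nat.beq_eq] at h3
    obtain ⟨⟨⟨-, hlist⟩, hlen⟩, -⟩ := h3
    obtain ⟨P0, hP0, hP0c⟩ := exists_subgroup_of_list Twenty22.tested hlist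
    have hpow : (3 : ℕ) ^ (Nat.card M).factorization 3 = 9 := by rw [Twenty22.fac_three]; norm_num
    let S0 : Sylow 3 M := Sylow.ofCard P0 (by rw [hP0c, hlen, hpow])
    let S1 : Sylow 3 M := Sylow.ofCard (Q.map C.subtype)
      (by rw [Subgroup.card_map_of_injective C.subtype_injective, hQ, hpow]; norm_num)
    obtain ⟨c, hc⟩ := MulAction.exists_smul_eq M S1 S0
    set v := c * z * c⁻¹ with hv
    have hcomm : ∀ s ∈ P0, s * v = v * s := by
      intro s hs
      have hs' : s ∈ (c • S1 : Sylow 3 M).toSubgroup := by rw [hc]; exact hs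
      rw [Sylow.coe_subgroup_smul] at hs'
      obtain ⟨q, hq, rfl⟩ := hs'
      obtain ⟨⟨q', hq'⟩, -, rfl⟩ := (hq : q ∈ Q.map C.subtype)
      show c * q' * c⁻¹ * v = v * (c * q' * c⁻¹)
      have := mem_centralizer_singleton_iff.1 hq'
      calc c * q' * c⁻¹ * v = c * (q' * z) * c⁻¹ := by rw [hv]; group
        _ = c * (z * q') * c⁻¹ := by rw [this]
        _ = v * (c * q' * c⁻¹) := by rw [hv]; group
    have hchk := x_nine_check
    simp only [Bool.and_eq_true, List.all_eq_true, Bool.or_eq_true, Bool.not_eq_true',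
      List.any_eq_true] at hchk
    obtain ⟨hxP, hall⟩ := hchk
    have hxP0 : x ∈ P0 := by
      rw [hP0, hx]
      simpa using hxP
    have hvx : v ∈ centralizer ({x} : Set M) := mem_centralizer_singleton_iff.2 (hcomm x hxP0).symm
    rcases hall _ ((hmem v).1 hvx) with e | ⟨s, hs, hne⟩
    · have : hasOrd (toList v.1) 2 = true := (hasOrd_coe two_pos).2 (by rw [hv, orderOf_conj, hz2])
      rw [this] at e; exact absurd e (by simp)
    · have hgl := hlist
      simp only [groupListOK, Bool.and_eq_true, List.all_eq_true] at hgl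
      obtain ⟨⟨hsv, hsin⟩, -⟩ := hgl.2 s hs
      obtain ⟨σ, rfl⟩ := exists_perm_of_valid hsv
      have := congrArg (fun g : M => toList g.1)
        (hcomm ⟨σ, (mem_M22_iff σ).mpr hsin⟩ ((hP0 _).2 hs))
      simp only [Subgroup.coe_mul, toList_mul] at this
      rw [this] at hne
      simp at hne
  have h384 : Nat.card C = 384 := by
    have hd : Nat.card C ∣ 1152 * (5 * 7 * 11) := by
      rw [show 1152 * (5 * 7 * 11) = Nat.card M by rw [card_M22]]
      exact card_subgroup_dvd_card C
    have hcop : ∀ p, (p = 5 ∨ p = 7 ∨ p = 11) → Nat.Coprime (Nat.card C) p := fun p hp =>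
      ((Nat.Prime.coprime_iff_not_dvd (by rcases hp with rfl | rfl | rfl <;> norm_num)).2 (hnp p hp)).symm
    have hd' : Nat.card C ∣ 1152 :=
      (((hcop 5 (by simp)).mul_right (hcop 7 (by simp))).mul_right (hcop 11 (by simp))).dvd_of_dvd_mul_right hd
    obtain ⟨k, hk⟩ := hd'
    have hk3 : k ≤ 3 := by
      by_contra hlt
      push Not at hlt
      have := Nat.mul_le_mul hge hlt
      omega
    interval_cases k <;> omega
  refine ⟨z, hz, hz2, hconj, h384, mem_list_iff hok z_nodup (by rw [h384, z_length])⟩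

theorem orderOf_mem (g : M) : orderOf g ∈ ({1, 2, 3, 4, 5, 6, 7, 8, 11} : Finset ℕ) := by
  obtain ⟨z, hz, hz2, hzc, -, hzmem⟩ := two_data
  obtain ⟨x, hx, hx3, hxc, -, hxmem⟩ := three_data
  by_cases h1 : orderOf g = 1
  · simp [h1]
  obtain ⟨q, hq, hqd⟩ := Nat.exists_prime_and_dvd h1
  set n := orderOf g with hn
  have hn0 : n ≠ 0 := (orderOf_pos g).ne'
  have hv : orderOf (g ^ (n / q)) = q := by
    rw [orderOf_pow' g (Nat.div_pos (Nat.le_of_dvd (orderOf_pos g) hqd) hq.pos).ne', ← hn,
      Nat.gcd_eq_right (Nat.div_dvd_of_dvd hqd), Nat.div_div_self hqd hn0]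
  have hgv : g ∈ centralizer ({g ^ (n / q)} : Set M) :=
    mem_centralizer_singleton_iff.2 (Commute.self_pow g _).eq
  have hq5 : q = 2 ∨ q = 3 ∨ q = 5 ∨ q = 7 ∨ q = 11 := by
    have hd : q ∣ 2 ^ 7 * 3 ^ 2 * 5 * 7 * 11 := by
      rw [show 2 ^ 7 * 3 ^ 2 * 5 * 7 * 11 = Nat.card M by rw [card_M22]; norm_num]
      exact hv ▸ orderOf_dvd_natCard _
    rcases (Nat.Prime.dvd_mul hq).1 hd with h | h
    · rcases (Nat.Prime.dvd_mul hq).1 h with h | h
      · rcases (Nat.Prime.dvd_mul hq).1 h with h | h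
        · rcases (Nat.Prime.dvd_mul hq).1 h with h | h
          · exact Or.inl ((Nat.prime_dvd_prime_iff_eq hq Nat.prime_two).1 (hq.dvd_of_dvd_pow h))
          · exact Or.inr (Or.inl ((Nat.prime_dvd_prime_iff_eq hq Nat.prime_three).1 (hq.dvd_of_dvd_pow h)))
        · exact Or.inr (Or.inr (Or.inl ((Nat.prime_dvd_prime_iff_eq hq (by norm_num)).1 h)))
      · exact Or.inr (Or.inr (Or.inr (Or.inl ((Nat.prime_dvd_prime_iff_eq hq (by norm_num)).1 h))))
    · exact Or.inr (Or.inr (Or.inr (Or.inr ((Nat.prime_dvd_prime_iff_eq hq (by norm_num)).1 h))))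
  rcases hq5 with rfl | rfl | hq'
  · obtain ⟨c, hc⟩ := isConj_iff.1 (hzc _ hv).symm
    have hm := mem_centralizer_conj (g := c) hgv
    rw [hc, hzmem] at hm
    have hall := z_order_check
    simp only [List.all_eq_true, List.any_eq_true] at hall
    obtain ⟨k, hk, hord⟩ := hall _ hm
    have hk0 : 0 < k := by fin_cases hk <;> norm_num
    rw [hasOrd_coe hk0, orderOf_conj] at hord
    rw [hn, hord]
    fin_cases hk <;> decide
  · obtain ⟨c, hc⟩ := isConj_iff.1 (hxc _ hv).symm
    have hm := mem_centralizer_conj (g := c) hgv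
    rw [hc, hxmem] at hm
    have hall := x_order_check
    simp only [List.all_eq_true, List.any_eq_true] at hall
    obtain ⟨k, hk, hord⟩ := hall _ hm
    have hk0 : 0 < k := by fin_cases hk <;> norm_num
    rw [hasOrd_coe hk0, orderOf_conj] at hord
    rw [hn, hord]
    fin_cases hk <;> decide
  · have hd := Subgroup.orderOf_dvd_natCard _ hgv
    rw [centralizer_prime hq' hv, ← hn] at hd
    rcases (Nat.dvd_prime hq).1 hd with e | e
    · exact absurd e h1
    · rw [e]; rcases hq' with rfl | rfl | rfl <;> decide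

/-- Elements of order `2m` with a given root count. -/
theorem cnt_two_mul (n m r : ℕ) (hn : n = 2 * m) (hm : m ≠ 0)
    (hr : (zList.filter fun l => hasOrd l n && powIs l m m22AZ).length = r) :
    cntOrd M n * 384 = 443520 * r := by
  subst hn
  obtain ⟨z, hz, hz2, hzc, hC, hmem⟩ := two_data
  have e := cnt_mul_card_centralizer (m := m) two_pos hm hz2 hzc
  rw [hC, card_M22] at e
  rw [e, natCard_filter z_nodup hmem (hz.symm ▸ z_commOK) _
    (fun l => hasOrd l (2 * m) && powIs l m m22AZ) ?_, hr]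
  intro g
  rw [Bool.and_eq_true, hasOrd_coe (by omega), ← hz, powIs_coe]

theorem cnt_three : cntOrd M 3 = 12320 := by
  obtain ⟨x, hx, hx3, hxc, hC, hmem⟩ := three_data
  have e := cnt_mul_card_centralizer (m := 1) (by norm_num : 0 < 3) one_ne_zero hx3 hxc
  have hl := x_list_check
  simp only [Bool.and_eq_true, Nat.beq_eq, decide_eq_true_eq] at hl
  rw [hC, card_M22, natCard_filter hl.2 hmem (hx.symm ▸ hl.1.1) _
    (fun l => hasOrd l 3 && powIs l 1 m22X) ?_, Nat.eq_of_beq_eq_true x_root_check, mul_one] at e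
  · omega
  intro g
  rw [Bool.and_eq_true, ← hx, powIs_coe, hasOrd_coe (by norm_num)]

end CfsgLib.MathieuTwentyTwo.Model

namespace CfsgLib.MathieuTwentyTwo.NseRoute

open CfsgLib.Recog.OrderCounts CfsgLib.FusionMathieu

/-- The model satisfies the count hypothesis. -/
theorem nse_model : Nse ↥Cfsg.Spor.M22 := by
  refine ⟨card_M22, fun n hn => ?_⟩
  obtain ⟨g, hg⟩ := (cntOrd_ne_zero_iff n).1 hn
  have hmem := hg ▸ Model.orderOf_mem g
  have hr := Model.z_root_check
  simp only [Bool.and_eq_true, Nat.beq_eq] at hr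
  obtain ⟨⟨⟨r1, r2⟩, r3⟩, r4⟩ := hr
  have e2 : cntOrd Cfsg.Spor.M22 2 = 1155 := by
    have e := Model.cnt_two_mul 2 1 1 (by norm_num) (by norm_num) r1
    exact Nat.eq_of_mul_eq_mul_right (by norm_num : 0 < 384) e
  have e4 : cntOrd Cfsg.Spor.M22 4 = 41580 := by
    have e := Model.cnt_two_mul 4 2 36 (by norm_num) (by norm_num) r2
    exact Nat.eq_of_mul_eq_mul_right (by norm_num : 0 < 384) e
  have e6 : cntOrd Cfsg.Spor.M22 6 = 36960 := by
    have e := Model.cnt_two_mul 6 3 32 (by norm_num) (by norm_num) r3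
    exact Nat.eq_of_mul_eq_mul_right (by norm_num : 0 < 384) e
  have e8 : cntOrd Cfsg.Spor.M22 8 = 55440 := by
    have e := Model.cnt_two_mul 8 4 48 (by norm_num) (by norm_num) r4
    exact Nat.eq_of_mul_eq_mul_right (by norm_num : 0 < 384) e
  simp only [Finset.mem_insert, Finset.mem_singleton] at hmem
  rcases hmem with rfl | rfl | rfl | rfl | rfl | rfl | rfl | rfl | rfl
  · rw [cntOrd_one]; simp [Value]
  · rw [e2]; simp [Value]
  · rw [Model.cnt_three]; simp [Value]
  · rw [e4]; simp [Value]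
  · rw [Model.cnt_five]; simp [Value]
  · rw [e6]; simp [Value]
  · rw [Model.cnt_seven]; simp [Value]
  · rw [e8]; simp [Value]
  · rw [Model.cnt_eleven]; simp [Value]

end CfsgLib.MathieuTwentyTwo.NseRoute
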