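import Cfsg.Agent.Lib.MathieuTwentyTwo.Lines

/-!
The four group of an element of order three inside the 2-core of an involution centraliser.
-/

set_option autoImplicit false

namespace CfsgLib.MathieuTwentyTwo.NseRoute

open Subgroup CfsgLib.Recog.OrderCounts

universe u

variable {G : Type u} [Group G] [Finite G]

/-- An involution, an element of order three commuting with it, and the core of its centraliser. -/
structure Setting (t x : G) (R : Subgroup G) : Prop where
  ht : orderOf t = 2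
  hx : orderOf x = 3
  hc : Commute x t
  core : IsCore t R

/-- The centraliser in `R` of the four group of `x`. -/
def eOf (R : Subgroup G) (x : G) : Subgroup G := R ⊓ centralizer (fourOf x : Set G)

omit [Finite G] in
theorem mem_eOf {R : Subgroup G} {x r : G} :
    r ∈ eOf R x ↔ r ∈ R ∧ ∀ v ∈ fourOf x, Commute v r := by
  rw [eOf, Subgroup.mem_inf, Subgroup.mem_centralizer_iff]
  rfl

omit [Finite G] in
theorem Setting.x_mem {t x : G} {R : Subgroup G} (S : Setting t x R) :
    x ∈ centralizer ({t} : Set G) := mem_centralizer_singleton_iff.2 S.hc.eq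

theorem Setting.x_mem_normalizer {t x : G} {R : Subgroup G} (S : Setting t x R) :
    x ∈ normalizer (R : Set G) :=
  mem_normalizer_of_conj_mem fun r hr => S.core.conj_mem x S.x_mem r hr

namespace Local

variable (h : Local G)
include h

theorem exists_ne_one_fourOf {x : G} (hx : orderOf x = 3) : ∃ v ∈ fourOf x, v ≠ 1 := by
  by_contra hc
  push Not at hc
  have : fourOf x = ⊥ := (Subgroup.eq_bot_iff_forall _).2 hc
  have h4 := h.card_fourOf hx
  rw [this, Subgroup.card_bot] at h4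
  omega

theorem fourOf_inv {x : G} (hx : orderOf x = 3) : fourOf x⁻¹ = fourOf x := by
  ext s
  rw [h.mem_fourOf hx, h.mem_fourOf (by rw [orderOf_inv, hx])]
  exact ⟨fun e => ⟨by simpa using e.1.inv_left, e.2⟩, fun e => ⟨e.1.inv_left, e.2⟩⟩

theorem mem_fourOf_conj {x : G} (hx : orderOf x = 3) (g s : G) :
    s ∈ fourOf (g * x * g⁻¹) ↔ g⁻¹ * s * g ∈ fourOf x := by
  rw [h.mem_fourOf hx, h.mem_fourOf (by rw [orderOf_conj, hx])]
  refine and_congr ⟨fun hc => ?_, fun hc => ?_⟩ ⟨fun e => ?_, fun e => ?_⟩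
  · simpa [mul_assoc] using hc.map (MulAut.conj g⁻¹).toMonoidHom
  · simpa [mul_assoc] using hc.map (MulAut.conj g).toMonoidHom
  · rw [show g⁻¹ * s * g * (g⁻¹ * s * g) = g⁻¹ * (s * s) * g by group, e]; group
  · have := congrArg (fun w => g * w * g⁻¹) e
    simpa [mul_assoc] using this

theorem conj_mem_fourOf_self {x v : G} (hx : orderOf x = 3) (hv : v ∈ fourOf x) :
    x * v * x⁻¹ = v := by
  rw [((h.mem_fourOf hx).1 hv).1.eq, mul_inv_cancel_right]

theorem fourOf_le_core {t x : G} {R : Subgroup G} (S : Setting t x R) : fourOf x ≤ R :=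
  S.core.absorb x S.hx S.hc _ (h.fourOf_le_centralizer S.hx S.ht S.hc) (h.isPGroup_fourOf S.hx)
    fun b hb => by rwa [h.conj_mem_fourOf_self S.hx hb]

theorem mem_fourOf_of_core {t x : G} {R : Subgroup G} (S : Setting t x R) {r : G} (hr : r ∈ R)
    (hc : Commute x r) : r ∈ fourOf x :=
  h.mem_fourOf_of_commute S.hx (h.pow_eight_of_isPGroup S.core.isPGroup hr) hc

theorem card_mod_three {z : G} (hz : orderOf z = 3) {B : Subgroup G} (hB : IsPGroup 2 B)
    (hV : fourOf z ≤ B) (hn : z ∈ normalizer (B : Set G)) : Nat.card B % 3 = 1 := by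
  have h4 : 4 ≤ Nat.card B := h.card_fourOf hz ▸ Nat.le_of_dvd Nat.card_pos (Subgroup.card_dvd_of_le hV)
  by_contra hne
  have hcard : ((B : Set G) \ (fourOf z : Set G)).ncard = Nat.card B - 4 := by
    rw [Set.ncard_sdiff hV (Set.toFinite _), ← Nat.card_coe_set_eq, ← Nat.card_coe_set_eq]
    exact congrArg (Nat.card B - ·) (h.card_fourOf hz)
  obtain ⟨a, ⟨ha, haV⟩, hza⟩ := exists_commute_of_not_dvd Nat.prime_three hz
    ((B : Set G) \ (fourOf z : Set G)) (by
      rintro a ⟨ha, haV⟩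
      refine ⟨conj_mem_of_mem_normalizer hn ha, fun hm => haV ?_⟩
      have e := h.conj_mem_fourOf_self hz hm
      have : z * a * z⁻¹ = a := by
        have := congrArg (fun w => z⁻¹ * w * z) e
        simpa [mul_assoc] using this
      exact this ▸ hm) (by rw [hcard]; omega)
  exact haV (h.mem_fourOf_of_commute hz (h.pow_eight_of_isPGroup hB ha) hza)

theorem card_sub_core {t x z : G} {R : Subgroup G} (S : Setting t x R) (hz : orderOf z = 3)
    {B : Subgroup G} (hB : B ≤ R) (hV : fourOf z ≤ B) (hne : B ≠ fourOf z)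
    (hn : z ∈ normalizer (B : Set G)) : Nat.card B = 16 ∨ Nat.card B = 64 := by
  have hd := Subgroup.card_dvd_of_le hB
  rw [S.core.card] at hd
  have hm := h.card_mod_three hz (S.core.isPGroup.to_le hB) hV hn
  obtain ⟨k, hk, e⟩ := (Nat.dvd_prime_pow Nat.prime_two).1 (show Nat.card B ∣ 2 ^ 6 by simpa using hd)
  have h4 : 4 < Nat.card B := by
    by_contra hle
    push Not at hle
    exact hne (Subgroup.eq_of_le_of_card_ge hV (by rw [h.card_fourOf hz]; exact hle)).symm
  rw [e] at hm h4 ⊢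
  interval_cases k <;> simp_all

theorem no_swap {z : G} (hz : orderOf z = 3) {R : Subgroup G} (hR : IsPGroup 2 R)
    (hn : z ∈ normalizer (R : Set G)) {r u v : G} (hr : r ∈ R) (hu : u ∈ fourOf z)
    (hv : v ∈ fourOf z) (e : r * u * r⁻¹ = v) : u = v := by
  classical
  have : Fact (Nat.Prime 2) := ⟨Nat.prime_two⟩
  set A : Set G := {a | a ∈ R ∧ a * u * a⁻¹ = v} with hA
  have hAeq : A = (fun c => r * c) '' ((R ⊓ centralizer ({u} : Set G) : Subgroup G) : Set G) := by
    ext a
    constructor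
    · rintro ⟨ha, hau⟩
      refine ⟨r⁻¹ * a, ⟨R.mul_mem (R.inv_mem hr) ha, ?_⟩, mul_inv_cancel_left r a⟩
      refine mem_centralizer_singleton_iff.2 (mul_inv_eq_iff_eq_mul.1 ?_)
      rw [show r⁻¹ * a * u * (r⁻¹ * a)⁻¹ = r⁻¹ * (a * u * a⁻¹) * r by group, hau, ← e]
      group
    · rintro ⟨c, ⟨hc, hcu⟩, rfl⟩
      refine ⟨mul_mem hr hc, ?_⟩
      have hcu' : c * u * c⁻¹ = u := by
        rw [mem_centralizer_singleton_iff.1 hcu, mul_inv_cancel_right]
      rw [show r * c * u * (r * c)⁻¹ = r * (c * u * c⁻¹) * r⁻¹ by group, hcu', e]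
  have hcard : A.ncard = Nat.card (R ⊓ centralizer ({u} : Set G) : Subgroup G) := by
    rw [hAeq, Set.ncard_image_of_injective _ (mul_right_injective r), ← Nat.card_coe_set_eq]
    rfl
  obtain ⟨a, ⟨haR, hau⟩, hza⟩ := exists_commute_of_not_dvd Nat.prime_three hz A (by
    rintro a ⟨haR, hau⟩
    refine ⟨conj_mem_of_mem_normalizer hn haR, ?_⟩
    have eu := h.conj_mem_fourOf_self hz hu
    have ev := h.conj_mem_fourOf_self hz hv
    calc z * a * z⁻¹ * u * (z * a * z⁻¹)⁻¹ = z * a * z⁻¹ * (z * u * z⁻¹) * (z * a * z⁻¹)⁻¹ := by rw [eu]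
      _ = z * (a * u * a⁻¹) * z⁻¹ := by group
      _ = v := by rw [hau, ev]) (by
    rw [hcard]
    obtain ⟨k, hk⟩ := IsPGroup.iff_card.1 (hR.to_le (inf_le_left :
      R ⊓ centralizer ({u} : Set G) ≤ R))
    rw [hk]
    intro hd
    exact absurd ((Nat.prime_dvd_prime_iff_eq Nat.prime_three Nat.prime_two).1
      (Nat.prime_three.dvd_of_dvd_pow hd)) (by norm_num))
  have ha4 := h.mem_fourOf_of_commute hz (h.pow_eight_of_isPGroup hR haR) hza
  rw [(h.fourOf_comm hz ha4 hu).eq, mul_inv_cancel_right] at hau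
  exact hau

theorem fourOf_le_eOf {t x : G} {R : Subgroup G} (S : Setting t x R) : fourOf x ≤ eOf R x :=
  fun _ hv => mem_eOf.2 ⟨h.fourOf_le_core S hv, fun _ hw => h.fourOf_comm S.hx hw hv⟩

theorem x_mem_normalizer_eOf {t x : G} {R : Subgroup G} (S : Setting t x R) :
    x ∈ normalizer (eOf R x : Set G) := mem_normalizer_of_conj_mem fun r hr => by
  rw [mem_eOf] at hr ⊢
  refine ⟨conj_mem_of_mem_normalizer S.x_mem_normalizer hr.1, fun v hv => ?_⟩
  have := (hr.2 v hv).map (MulAut.conj x).toMonoidHom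
  simpa [h.conj_mem_fourOf_self S.hx hv] using this

theorem card_eOf {t x : G} {R : Subgroup G} (S : Setting t x R) :
    Nat.card (eOf R x) = 16 ∨ Nat.card (eOf R x) = 64 := by
  have : Fact (Nat.Prime 2) := ⟨Nat.prime_two⟩
  refine h.card_sub_core S S.hx inf_le_left (h.fourOf_le_eOf S) ?_ (h.x_mem_normalizer_eOf S)
  intro e
  have hne : fourOf x ≠ R := fun e' => by
    have := h.card_fourOf S.hx
    rw [e', S.core.card] at this
    omega
  obtain ⟨g, hg, hgV, hgn⟩ := exists_normalizing_notMem S.core.isPGroup (h.fourOf_le_core S) hne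
  refine hgV (e ▸ mem_eOf.2 ⟨hg, fun v hv => ?_⟩)
  have hv' := conj_mem_of_mem_normalizer hgn hv
  have := h.no_swap S.hx S.core.isPGroup S.x_mem_normalizer hg hv hv' rfl
  exact (mul_inv_eq_iff_eq_mul.1 this.symm).symm

/-- A subgroup of order 16 of the core containing the four group of one of its lines is normal. -/
theorem core_le_normalizer {t x z : G} {R : Subgroup G} (S : Setting t x R) (hz : orderOf z = 3)
    (hzR : z ∈ normalizer (R : Set G))
    {B : Subgroup G} (hB : B ≤ R) (hc : Nat.card B = 16) (hV : fourOf z ≤ B)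
    (hn : z ∈ normalizer (B : Set G)) : R ≤ normalizer (B : Set G) := by
  have : Fact (Nat.Prime 2) := ⟨Nat.prime_two⟩
  set N := R ⊓ normalizer (B : Set G) with hN
  have hBN : B ≤ N := le_inf hB Subgroup.le_normalizer
  have hne : B ≠ R := fun e => by rw [e, S.core.card] at hc; omega
  obtain ⟨g, hg, hgB, hgn⟩ := exists_normalizing_notMem S.core.isPGroup hB hne
  have hlt : 16 < Nat.card N := by
    by_contra hle
    push Not at hle
    exact hgB (Subgroup.eq_of_le_of_card_ge hBN (by rw [hc]; exact hle) ▸ ⟨hg, hgn⟩)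
  have h4 : N ≠ fourOf z := fun e => by rw [e, h.card_fourOf hz] at hlt; omega
  rcases h.card_sub_core S hz (B := N) inf_le_left (hV.trans hBN) h4
    (mem_normalizer_of_conj_mem fun b hb => ⟨conj_mem_of_mem_normalizer hzR hb.1,
      (normalizer (B : Set G)).mul_mem ((normalizer (B : Set G)).mul_mem hn hb.2) ((normalizer (B : Set G)).inv_mem hn)⟩) with e | e
  · omega
  · exact (Subgroup.eq_of_le_of_card_ge (inf_le_left : N ≤ R) (by rw [e, S.core.card])).symm.le.trans
      inf_le_right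

/-- The elements of order three of the centraliser of the involution, up to conjugation by the core. -/
theorem three_conj {t x : G} {R : Subgroup G} (S : Setting t x R) {z : G} (hz : orderOf z = 3)
    (hzt : Commute z t) : ∃ r ∈ R, z = r * x * r⁻¹ ∨ z = r * x⁻¹ * r⁻¹ := by
  classical
  have hcard : ∀ w : G, orderOf w = 3 → Commute w t → fourOf w = fourOf x →
      ((fun r => r * w * r⁻¹) '' (R : Set G)).ncard = 16 := by
    intro w hw hwt hfour
    have e := ncard_conj_image R w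
    have hI : R ⊓ centralizer ({w} : Set G) = fourOf w := by
      refine le_antisymm (fun r hr => ?_) (fun v hv => ⟨hfour ▸ h.fourOf_le_core S |>.trans le_rfl <| hfour ▸ hv,
        mem_centralizer_singleton_iff.2 ((h.mem_fourOf hw).1 hv).1.eq.symm⟩)
      exact h.mem_fourOf_of_commute hw (h.pow_eight_of_isPGroup S.core.isPGroup hr.1)
        (mem_centralizer_singleton_iff.1 hr.2).symm
    rw [hI, h.card_fourOf hw, S.core.card] at e
    omega
  set U : Set G := (fun r => r * x * r⁻¹) '' (R : Set G) ∪ (fun r => r * x⁻¹ * r⁻¹) '' (R : Set G) with hU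
  have hsub : U ⊆ {z : G | orderOf z = 3 ∧ Commute z t} := by
    have key : ∀ w : G, orderOf w = 3 → Commute w t → ∀ r ∈ R,
        orderOf (r * w * r⁻¹) = 3 ∧ Commute (r * w * r⁻¹) t := by
      intro w hw hwt r hr
      refine ⟨by rw [orderOf_conj, hw], ?_⟩
      have hrt : Commute r t := mem_centralizer_singleton_iff.1 (S.core.le hr)
      exact (hrt.mul_left hwt).mul_left hrt.inv_left
    rintro w (⟨r, hr, rfl⟩ | ⟨r, hr, rfl⟩)
    · exact key x S.hx S.hc r hr
    · exact key x⁻¹ (by rw [orderOf_inv, S.hx]) S.hc.inv_left r hr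
  have hdisj : Disjoint ((fun r => r * x * r⁻¹) '' (R : Set G))
      ((fun r => r * x⁻¹ * r⁻¹) '' (R : Set G)) := by
    rw [Set.disjoint_left]
    rintro _ ⟨r, hr, rfl⟩ ⟨r', hr', e⟩
    simp only at e
    have hs : r'⁻¹ * r ∈ R := mul_mem (inv_mem hr') hr
    have hsx : r'⁻¹ * r * x * (r'⁻¹ * r)⁻¹ = x⁻¹ := by
      calc r'⁻¹ * r * x * (r'⁻¹ * r)⁻¹ = r'⁻¹ * (r * x * r⁻¹) * r' := by group
        _ = x⁻¹ := by rw [← e]; group
    have hxR : x ∈ R := by
      have hm : r'⁻¹ * r * (x * (r'⁻¹ * r)⁻¹ * x⁻¹) ∈ R :=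
        mul_mem hs (conj_mem_of_mem_normalizer S.x_mem_normalizer (inv_mem hs))
      rw [show r'⁻¹ * r * (x * (r'⁻¹ * r)⁻¹ * x⁻¹) = r'⁻¹ * r * x * (r'⁻¹ * r)⁻¹ * x⁻¹ by group,
        hsx] at hm
      have : x = x⁻¹ * x⁻¹ := by
        rw [← mul_inv_rev, eq_comm, inv_eq_of_mul_eq_one_left]
        rw [← mul_assoc]; exact mul_three_of S.hx
      rwa [this]
    have hd := Subgroup.orderOf_dvd_natCard _ hxR
    rw [S.hx, S.core.card] at hd
    norm_num at hd
  have hUeq : U = {z : G | orderOf z = 3 ∧ Commute z t} := by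
    refine Set.eq_of_subset_of_ncard_le hsub ?_ (Set.toFinite _)
    rw [h.ncard_three_commute S.ht, hU, Set.ncard_union_eq hdisj (Set.toFinite _) (Set.toFinite _),
      hcard x S.hx S.hc rfl, hcard x⁻¹ (by rw [orderOf_inv, S.hx]) S.hc.inv_left (h.fourOf_inv S.hx)]
  have hzU : z ∈ U := hUeq ▸ (⟨hz, hzt⟩ : orderOf z = 3 ∧ Commute z t)
  rcases hzU with ⟨r, hr, e⟩ | ⟨r, hr, e⟩
  · exact ⟨r, hr, Or.inl e.symm⟩
  · exact ⟨r, hr, Or.inr e.symm⟩

/-- An element commuting with `x` and of order three normalises the centraliser in the core. -/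
theorem mem_normalizer_eOf {t x y : G} {R : Subgroup G} (S : Setting t x R) (hyx : Commute y x) :
    y ∈ normalizer (eOf R x : Set G) := by
  have hsub : (eOf R x).map (MulAut.conj y).toMonoidHom ≤ centralizer (fourOf x : Set G) := by
    rintro _ ⟨b, hb, rfl⟩
    rw [Subgroup.mem_centralizer_iff]
    intro v hv
    have hv' : y⁻¹ * v * y⁻¹⁻¹ ∈ fourOf x := h.conj_mem_fourOf S.hx hyx.inv_left hv
    have := ((mem_eOf.1 hb).2 _ hv').map (MulAut.conj y).toMonoidHom
    simpa [mul_assoc] using this.eq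
  have hC : centralizer (fourOf x : Set G) ≤ centralizer ({t} : Set G) := fun g hg =>
    mem_centralizer_singleton_iff.2
      (Subgroup.mem_centralizer_iff.1 hg t (h.mem_fourOf_of_involution S.hx S.ht S.hc)).symm
  have hle := S.core.absorb x S.hx S.hc _ (hsub.trans hC)
    ((S.core.isPGroup.to_le (inf_le_left : eOf R x ≤ R)).map _) (by
      rintro _ ⟨b, hb, rfl⟩
      refine ⟨x * b * x⁻¹, conj_mem_of_mem_normalizer (h.x_mem_normalizer_eOf S) hb, ?_⟩
      show y * (x * b * x⁻¹) * y⁻¹ = x * (y * b * y⁻¹) * x⁻¹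
      calc y * (x * b * x⁻¹) * y⁻¹ = (y * x) * b * (y * x)⁻¹ := by group
        _ = (x * y) * b * (x * y)⁻¹ := by rw [hyx.eq]
        _ = _ := by group)
  exact mem_normalizer_of_conj_mem fun b hb =>
    ⟨hle (Subgroup.mem_map_of_mem _ hb), hsub (Subgroup.mem_map_of_mem _ hb)⟩

/-- 2-groups centralising the four group and normalised by `x` lie in the core. -/
theorem le_eOf {t x : G} {R : Subgroup G} (S : Setting t x R) {B : Subgroup G} (hB : IsPGroup 2 B)
    (hcent : ∀ v ∈ fourOf x, ∀ b ∈ B, Commute v b) (hn : ∀ b ∈ B, x * b * x⁻¹ ∈ B) :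
    B ≤ eOf R x := fun b hb =>
  mem_eOf.2 ⟨S.core.absorb x S.hx S.hc B (fun c hc => mem_centralizer_singleton_iff.2
    (hcent t (h.mem_fourOf_of_involution S.hx S.ht S.hc) c hc).eq.symm) hB hn hb,
    fun v hv => hcent v hv b hb⟩

theorem eq_one_of_mem_both {x z a : G} (p : Pair x z) (ha : a ∈ fourOf x) (ha' : a ∈ fourOf z) :
    a = 1 := by
  by_contra hne
  exact p.moves a ha hne ((h.mem_fourOf p.oy).1 ha').1

/-- An invariant subgroup meeting the second four group contains it. -/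
theorem fourOf_le_of_mem {x z a : G} (p : Pair x z) {B : Subgroup G}
    (hxB : x ∈ normalizer (B : Set G)) (ha : a ∈ fourOf z) (haB : a ∈ B) (ha1 : a ≠ 1) :
    fourOf z ≤ B := by
  classical
  have hxa : x * a * x⁻¹ ∈ fourOf z := h.conj_mem_fourOf p.oy p.comm.symm ha
  have hne : a ≠ x * a * x⁻¹ := fun e => ha1 (h.eq_one_of_mem_both p
    ((h.mem_fourOf p.ox).2 ⟨mul_inv_eq_iff_eq_mul.1 e.symm, ((h.mem_fourOf p.oy).1 ha).2⟩) ha)
  have hxa1 : x * a * x⁻¹ ≠ 1 := fun e => ha1 (by simpa using e)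
  have h3 : 3 ≤ Nat.card (fourOf z ⊓ B : Subgroup G) := by
    have hsub : ({1, a, x * a * x⁻¹} : Set G) ⊆ ((fourOf z ⊓ B : Subgroup G) : Set G) := by
      rintro w (rfl | rfl | rfl)
      exacts [one_mem _, ⟨ha, haB⟩, ⟨hxa, conj_mem_of_mem_normalizer hxB haB⟩]
    have := Set.ncard_le_ncard hsub (Set.toFinite _)
    rwa [Set.ncard_insert_of_notMem (by simp [ha1.symm, hxa1.symm]) (Set.toFinite _),
      Set.ncard_pair hne, ← Nat.card_coe_set_eq] at this
  have hd := Subgroup.card_dvd_of_le (inf_le_left : fourOf z ⊓ B ≤ fourOf z)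
  rw [h.card_fourOf p.oy] at hd
  have h4 : Nat.card (fourOf z ⊓ B : Subgroup G) = 4 := by
    rcases (Nat.dvd_prime_pow Nat.prime_two).1 (show Nat.card (fourOf z ⊓ B : Subgroup G) ∣ 2 ^ 2 by
      simpa using hd) with ⟨k, hk, e⟩
    interval_cases k <;> omega
  exact inf_eq_left.1 (Subgroup.eq_of_le_of_card_ge inf_le_left (by rw [h4, h.card_fourOf p.oy]))

/-- The further line inside an invariant subgroup. -/
theorem exists_line_sub {x y : G} (p : Pair x y) {B : Subgroup G} (hB : IsPGroup 2 B)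
    (hV : fourOf x ≤ B) (hxB : x ∈ normalizer (B : Set G)) (hyB : y ∈ normalizer (B : Set G))
    (hc : ¬ 9 ∣ Nat.card B - 4) :
    ∃ z, Pair x z ∧ z ∈ pairSpan p.comm ∧ fourOf z ≤ B := by
  classical
  have hcard : ((B : Set G) \ (fourOf x : Set G)).ncard = Nat.card B - 4 := by
    rw [Set.ncard_sdiff hV (Set.toFinite _), ← Nat.card_coe_set_eq, ← Nat.card_coe_set_eq]
    exact congrArg (Nat.card B - ·) (h.card_fourOf p.ox)
  have hback : ∀ g : G, Commute g x → ∀ a : G, g * a * g⁻¹ ∈ fourOf x → a ∈ fourOf x := by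
    intro g hg a ha
    have := h.conj_mem_fourOf p.ox hg.inv_left ha
    simpa [mul_assoc] using this
  obtain ⟨z, a, pz, hzP, ⟨haB, haV⟩, hza⟩ := p.exists_line h ((B : Set G) \ (fourOf x : Set G))
    (fun a ha => ⟨conj_mem_of_mem_normalizer hxB ha.1, fun hm => ha.2 (hback x (Commute.refl x) a hm)⟩)
    (fun a ha => ⟨conj_mem_of_mem_normalizer hyB ha.1, fun hm => ha.2 (hback y p.comm a hm)⟩)
    (fun a ha hxa => ha.2 (h.mem_fourOf_of_commute p.ox (h.pow_eight_of_isPGroup hB ha.1) hxa))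
    (by rw [hcard]; exact hc)
  refine ⟨z, pz, hzP, ?_⟩
  have ha4 : a ∈ fourOf z := h.mem_fourOf_of_commute pz.oy (h.pow_eight_of_isPGroup hB haB) hza
  exact h.fourOf_le_of_mem pz hxB ha4 haB (fun e => haV (e ▸ one_mem _))

/-- A group of order 16 with two central four groups is elementary abelian. -/
theorem elementary_of_two {t x z : G} {R : Subgroup G} (S : Setting t x R) (p : Pair x z)
    {E : Subgroup G} (hE : E ≤ R) (hc : Nat.card E = 16) (hx : fourOf x ≤ E) (hz : fourOf z ≤ E)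
    (hcx : ∀ v ∈ fourOf x, ∀ e ∈ E, Commute v e) (hcz : ∀ v ∈ fourOf z, ∀ e ∈ E, Commute v e)
    (hn : x ∈ normalizer (E : Set G)) : ∀ e ∈ E, e * e = 1 ∧ ∀ f ∈ E, Commute e f := by
  let B : Subgroup G :=
    { carrier := {e | e ∈ E ∧ e * e = 1 ∧ ∀ f ∈ E, Commute e f}
      one_mem' := ⟨one_mem _, one_mul 1, fun f _ => Commute.one_left f⟩
      mul_mem' := by
        rintro a b ⟨ha, ha2, hac⟩ ⟨hb, hb2, hbc⟩
        refine ⟨mul_mem ha hb, ?_, fun f hf => (hac f hf).mul_left (hbc f hf)⟩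
        rw [mul_assoc, ← mul_assoc b a b, (hbc a ha).eq, mul_assoc a b b, hb2, mul_one, ha2]
      inv_mem' := by
        rintro a ⟨ha, ha2, hac⟩
        have : a⁻¹ = a := inv_eq_of_mul_eq_one_right ha2
        rw [Set.mem_ofPred_eq, this]
        exact ⟨ha, ha2, hac⟩ }
  have hxB : fourOf x ≤ B := fun v hv => ⟨hx hv, ((h.mem_fourOf p.ox).1 hv).2, hcx v hv⟩
  have hzB : fourOf z ≤ B := fun v hv => ⟨hz hv, ((h.mem_fourOf p.oy).1 hv).2, hcz v hv⟩
  have hne : B ≠ fourOf x := by
    intro e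
    obtain ⟨v, hv, hv1⟩ := h.exists_ne_one_fourOf p.oy
    exact hv1 (h.eq_one_of_mem_both p (e ▸ hzB hv) hv)
  have hBx : x ∈ normalizer (B : Set G) := mem_normalizer_of_conj_mem fun b hb => by
    refine ⟨conj_mem_of_mem_normalizer hn hb.1, ?_, fun f hf => ?_⟩
    · rw [show x * b * x⁻¹ * (x * b * x⁻¹) = x * (b * b) * x⁻¹ by group, hb.2.1]; group
    · have := (hb.2.2 (x⁻¹ * f * x⁻¹⁻¹) (conj_mem_of_mem_normalizer (inv_mem hn) hf)).map
        (MulAut.conj x).toMonoidHom
      simpa [mul_assoc] using this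
  have hBE : B ≤ E := fun b hb => hb.1
  have h16 : Nat.card B = 16 := by
    have := Nat.le_of_dvd Nat.card_pos (Subgroup.card_dvd_of_le hBE)
    rcases h.card_sub_core S p.ox (hBE.trans hE) hxB hne hBx with e | e
    · exact e
    · rw [hc] at this; omega
  have hBeq : B = E := Subgroup.eq_of_le_of_card_ge hBE (by rw [h16, hc])
  intro e he
  rw [← hBeq] at he
  exact ⟨he.2.1, he.2.2⟩

end Local

end CfsgLib.MathieuTwentyTwo.NseRoute
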