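import Cfsg.Agent.Lib.Recog.OrderCounts
import Cfsg.Agent.Lib.Recog.NSEMathieuEleven
import Cfsg.Agent.Lib.Order7920.Edge

/-!
A group of order 443520 whose numbers of elements of each order are among those of the Mathieu group
of degree 22: the order spectrum, the centralisers of elements of order 5, 7, 11 and simplicity.
-/

set_option autoImplicit false

namespace CfsgLib.MathieuTwentyTwo.NseRoute

open Subgroup CfsgLib.Recog.OrderCounts

universe u

/-- The numbers of elements of a given order in the Mathieu group of degree 22. -/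
def Value (v : ℕ) : Prop :=
  v = 1 ∨ v = 1155 ∨ v = 12320 ∨ v = 36960 ∨ v = 41580 ∨ v = 55440 ∨ v = 80640 ∨ v = 88704 ∨
    v = 126720

/-- The hypothesis of the recognition. -/
structure Nse (G : Type u) [Group G] : Prop where
  card : Nat.card G = 443520
  value : ∀ n, cntOrd G n ≠ 0 → Value (cntOrd G n)

variable {G : Type u} [Group G] [Finite G]

omit [Finite G] in
theorem centralizer_le_normalizer_zpowers (y : G) :
    centralizer ({y} : Set G) ≤ normalizer (zpowers y : Set G) := fun g hg h => by
  have hc : Commute g y := mem_centralizer_singleton_iff.1 hg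
  constructor
  · intro hh
    obtain ⟨k, rfl⟩ := mem_zpowers_iff.1 hh
    rw [(hc.zpow_right k).eq, mul_inv_cancel_right]
    exact zpow_mem (mem_zpowers y) k
  · intro hh
    obtain ⟨k, hk⟩ := mem_zpowers_iff.1 hh
    refine mem_zpowers_iff.2 ⟨k, ?_⟩
    calc y ^ k = g⁻¹ * (g * y ^ k) := by group
      _ = g⁻¹ * (y ^ k * g) := by rw [(hc.zpow_right k).eq]
      _ = g⁻¹ * ((g * h * g⁻¹) * g) := by rw [hk]
      _ = h := by group

omit [Finite G] in
theorem orderOf_dvd_card_centralizer [Finite G] {x g : G} (h : g ∈ centralizer ({x} : Set G)) :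
    orderOf g ∣ Nat.card (centralizer ({x} : Set G)) :=
  Subgroup.orderOf_dvd_natCard _ h

/-- The order of the normaliser of a subgroup of prime order dividing the group order once. -/
theorem card_normalizer_zpowers {p : ℕ} (hp : p.Prime) (hd : ¬ p * p ∣ Nat.card G) {y : G}
    (hy : orderOf y = p) :
    Nat.card (Sylow p G) * Nat.card (normalizer (zpowers y : Set G)) = Nat.card G := by
  have := Fact.mk hp
  have hdvd : p ∣ Nat.card G := hy ▸ orderOf_dvd_natCard y
  obtain ⟨P, hP⟩ := (IsPGroup.of_card (n := 1)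
    (by rw [Nat.card_zpowers, hy, pow_one] : Nat.card (zpowers y) = p ^ 1)).exists_le_sylow
  have he : zpowers y = (P : Subgroup G) := Subgroup.eq_of_le_of_card_ge hP
    (le_of_eq (by rw [Nat.card_zpowers, hy]; exact card_sylow_eq_prime hdvd hd P))
  rw [he, Sylow.card_eq_index_normalizer P]
  exact Subgroup.index_mul_card _

/-- Frattini for a normal subgroup containing an element of prime order. -/
theorem index_dvd_card_normalizer_of_mem {q : ℕ} (hq : q.Prime) (hd : ¬ q * q ∣ Nat.card G)
    (K : Subgroup G) [K.Normal] {z : G} (hzK : z ∈ K) (hz : orderOf z = q) :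
    K.index ∣ Nat.card (normalizer (zpowers z : Set G)) := by
  have := Fact.mk hq
  have hle : zpowers z ≤ K := zpowers_le.2 hzK
  have hdK : q ∣ Nat.card K := hz ▸ Subgroup.orderOf_dvd_natCard _ hzK
  have hd' : ¬ q * q ∣ Nat.card K := fun h => hd (h.trans (card_subgroup_dvd_card K))
  obtain ⟨P, hP⟩ := (IsPGroup.of_card (n := 1) (by
    rw [Nat.card_congr (subgroupOfEquivOfLe hle).toEquiv, Nat.card_zpowers, hz, pow_one] :
      Nat.card ((zpowers z).subgroupOf K) = q ^ 1)).exists_le_sylow
  have he : (zpowers z).subgroupOf K = (P : Subgroup K) := Subgroup.eq_of_le_of_card_ge hP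
    (le_of_eq (by
      rw [Nat.card_congr (subgroupOfEquivOfLe hle).toEquiv, Nat.card_zpowers, hz]
      exact card_sylow_eq_prime hdK hd' P))
  have htop : normalizer ((zpowers z : Subgroup G) : Set G) ⊔ K = ⊤ := by
    have h := Sylow.normalizer_sup_eq_top P
    rwa [← he, map_subgroupOf_eq_of_le hle] at h
  have hmap : (normalizer (zpowers z : Set G)).map (QuotientGroup.mk' K) = ⊤ := by
    rw [← Subgroup.map_top_of_surjective _ (QuotientGroup.mk'_surjective K), ← htop, Subgroup.map_sup,
      QuotientGroup.map_mk'_self, sup_bot_eq]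
  have h := (normalizer (zpowers z : Set G)).card_map_dvd (QuotientGroup.mk' K)
  rwa [hmap, Subgroup.card_top] at h

/-- An element whose subgroup is centralised by its normaliser gives a normal complement, which
is impossible when another prime has normalisers of order prime to it. -/
theorem not_normalizer_le_centralizer {p q : ℕ} (hp : p.Prime) (hq : q.Prime) (hpq : p ≠ q)
    (hdp : ¬ p * p ∣ Nat.card G) (hdq : ¬ q * q ∣ Nat.card G) (hqG : q ∣ Nat.card G)
    (hN : ∀ z : G, orderOf z = q → ¬ p ∣ Nat.card (normalizer (zpowers z : Set G))) {y : G}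
    (hy : orderOf y = p) :
    ¬ normalizer (zpowers y : Set G) ≤ centralizer ({y} : Set G) := by
  have := Fact.mk hp
  intro hle
  have hdvd : p ∣ Nat.card G := hy ▸ orderOf_dvd_natCard y
  obtain ⟨P, hP⟩ := (IsPGroup.of_card (n := 1)
    (by rw [Nat.card_zpowers, hy, pow_one] : Nat.card (zpowers y) = p ^ 1)).exists_le_sylow
  have he : zpowers y = (P : Subgroup G) := Subgroup.eq_of_le_of_card_ge hP
    (le_of_eq (by rw [Nat.card_zpowers, hy]; exact card_sylow_eq_prime hdvd hdp P))
  have hle' : normalizer ((P : Subgroup G) : Set G) ≤ centralizer ((P : Subgroup G) : Set G) := by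
    rw [← he]
    intro g hg h hh
    obtain ⟨k, rfl⟩ := mem_zpowers_iff.1 hh
    have hc : Commute g y := mem_centralizer_singleton_iff.1 (hle hg)
    exact (hc.zpow_right k).eq.symm
  set f := MonoidHom.transferSylow P hle'
  have hidx : f.ker.index = p := by
    rw [(MonoidHom.ker_transferSylow_isComplement' P hle').symm.index_eq_card]
    exact card_sylow_eq_prime hdvd hdp P
  have := Fact.mk hq
  obtain ⟨z, hz⟩ := exists_prime_orderOf_dvd_card' q hqG
  have hzK : z ∈ f.ker := by
    by_contra hzK
    have h := orderOf_map_dvd (QuotientGroup.mk' f.ker) z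
    rw [hz, Nat.dvd_prime hq] at h
    rcases h with h | h
    · exact hzK ((QuotientGroup.eq_one_iff z).1 (orderOf_eq_one_iff.1 h))
    · have h' := orderOf_dvd_natCard (QuotientGroup.mk' f.ker z)
      rw [h, ← Subgroup.index_eq_card, hidx] at h'
      exact hpq ((Nat.prime_dvd_prime_iff_eq hq hp).1 h').symm
  exact hN z hz (hidx ▸ index_dvd_card_normalizer_of_mem hq hdq f.ker hzK hz)

namespace Nse

variable (h : Nse G)
include h

theorem not_sq_dvd {p : ℕ} (hp : p = 5 ∨ p = 7 ∨ p = 11) : ¬ p * p ∣ Nat.card G := by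
  rw [h.card]; rcases hp with rfl | rfl | rfl <;> norm_num

theorem cnt_value {n : ℕ} (hn : cntOrd G n ≠ 0) :
    cntOrd G n = 1 ∨ cntOrd G n = 1155 ∨ cntOrd G n = 12320 ∨ cntOrd G n = 36960 ∨
      cntOrd G n = 41580 ∨ cntOrd G n = 55440 ∨ cntOrd G n = 80640 ∨ cntOrd G n = 88704 ∨
      cntOrd G n = 126720 := h.value n hn

theorem card_sylow_five : Nat.card (Sylow 5 G) = 22176 := by
  have : Fact (Nat.Prime 5) := ⟨by norm_num⟩
  have hd : 5 ∣ Nat.card G := by rw [h.card]; norm_num
  have h1 := cntOrd_prime_eq (card_sylow_eq_prime (G := G) hd (h.not_sq_dvd (by simp)))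
  have h2 := h.cnt_value (cntOrd_prime_ne_zero (by norm_num : Nat.Prime 5) hd)
  have h3 := card_sylow_modEq_one 5 G
  rw [Nat.ModEq] at h3
  omega

theorem card_sylow_seven : Nat.card (Sylow 7 G) = 21120 := by
  have : Fact (Nat.Prime 7) := ⟨by norm_num⟩
  have hd : 7 ∣ Nat.card G := by rw [h.card]; norm_num
  have h1 := cntOrd_prime_eq (card_sylow_eq_prime (G := G) hd (h.not_sq_dvd (by simp)))
  have h2 := h.cnt_value (cntOrd_prime_ne_zero (by norm_num : Nat.Prime 7) hd)
  have h3 := card_sylow_modEq_one 7 G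
  rw [Nat.ModEq] at h3
  omega

theorem card_sylow_eleven : Nat.card (Sylow 11 G) = 8064 := by
  have : Fact (Nat.Prime 11) := ⟨by norm_num⟩
  have hd : 11 ∣ Nat.card G := by rw [h.card]; norm_num
  have h1 := cntOrd_prime_eq (card_sylow_eq_prime (G := G) hd (h.not_sq_dvd (by simp)))
  have h2 := h.cnt_value (cntOrd_prime_ne_zero (by norm_num : Nat.Prime 11) hd)
  have h3 := card_sylow_modEq_one 11 G
  rw [Nat.ModEq] at h3
  omega

theorem normalizer_five {y : G} (hy : orderOf y = 5) :
    Nat.card (normalizer (zpowers y : Set G)) = 20 := by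
  have e := card_normalizer_zpowers (by norm_num) (h.not_sq_dvd (by simp)) hy
  rw [h.card_sylow_five, h.card] at e; omega

theorem normalizer_seven {y : G} (hy : orderOf y = 7) :
    Nat.card (normalizer (zpowers y : Set G)) = 21 := by
  have e := card_normalizer_zpowers (by norm_num) (h.not_sq_dvd (by simp)) hy
  rw [h.card_sylow_seven, h.card] at e; omega

theorem normalizer_eleven {y : G} (hy : orderOf y = 11) :
    Nat.card (normalizer (zpowers y : Set G)) = 55 := by
  have e := card_normalizer_zpowers (by norm_num) (h.not_sq_dvd (by simp)) hy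
  rw [h.card_sylow_eleven, h.card] at e; omega

theorem card_centralizer_aux {p n : ℕ} {y : G} (hy : orderOf y = p)
    (hn : Nat.card (normalizer (zpowers y : Set G)) = n)
    (hne : ¬ normalizer (zpowers y : Set G) ≤ centralizer ({y} : Set G)) :
    p ∣ Nat.card (centralizer ({y} : Set G)) ∧ Nat.card (centralizer ({y} : Set G)) ∣ n ∧
      Nat.card (centralizer ({y} : Set G)) ≠ n := by
  refine ⟨hy ▸ orderOf_dvd_card_centralizer (mem_centralizer_singleton_iff.2 rfl),
    hn ▸ Subgroup.card_dvd_of_le (centralizer_le_normalizer_zpowers y), fun e => hne ?_⟩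
  exact (Subgroup.eq_of_le_of_card_ge (centralizer_le_normalizer_zpowers y) (by rw [e, hn])).ge

theorem centralizer_eleven {y : G} (hy : orderOf y = 11) :
    Nat.card (centralizer ({y} : Set G)) = 11 := by
  obtain ⟨h1, h2, h3⟩ := h.card_centralizer_aux hy (h.normalizer_eleven hy)
    (not_normalizer_le_centralizer (by norm_num) (by norm_num : Nat.Prime 7) (by norm_num)
      (h.not_sq_dvd (by simp)) (h.not_sq_dvd (by simp)) (by rw [h.card]; norm_num)
      (fun z hz => by rw [h.normalizer_seven hz]; norm_num) hy)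
  have := Nat.le_of_dvd (by norm_num) h2
  obtain ⟨k, hk⟩ := h1
  rw [hk] at h2 h3 this ⊢
  have hk5 : k ≤ 5 := by omega
  interval_cases k <;> simp_all

theorem centralizer_seven {y : G} (hy : orderOf y = 7) :
    Nat.card (centralizer ({y} : Set G)) = 7 := by
  obtain ⟨h1, h2, h3⟩ := h.card_centralizer_aux hy (h.normalizer_seven hy)
    (not_normalizer_le_centralizer (by norm_num) (by norm_num : Nat.Prime 11) (by norm_num)
      (h.not_sq_dvd (by simp)) (h.not_sq_dvd (by simp)) (by rw [h.card]; norm_num)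
      (fun z hz => by rw [h.normalizer_eleven hz]; norm_num) hy)
  have := Nat.le_of_dvd (by norm_num) h2
  obtain ⟨k, hk⟩ := h1
  rw [hk] at h2 h3 this ⊢
  have hk3 : k ≤ 3 := by omega
  interval_cases k <;> simp_all

theorem centralizer_five_dvd {y : G} (hy : orderOf y = 5) :
    Nat.card (centralizer ({y} : Set G)) ∣ 10 := by
  obtain ⟨h1, h2, h3⟩ := h.card_centralizer_aux hy (h.normalizer_five hy)
    (not_normalizer_le_centralizer (by norm_num) (by norm_num : Nat.Prime 7) (by norm_num)
      (h.not_sq_dvd (by simp)) (h.not_sq_dvd (by simp)) (by rw [h.card]; norm_num)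
      (fun z hz => by rw [h.normalizer_seven hz]; norm_num) hy)
  have := Nat.le_of_dvd (by norm_num) h2
  obtain ⟨k, hk⟩ := h1
  rw [hk] at h2 h3 this ⊢
  have hk4 : k ≤ 4 := by omega
  interval_cases k <;> simp_all

theorem isSimple : IsSimpleGroup G := by
  have : Nontrivial G := Finite.one_lt_card_iff_nontrivial.1 (by rw [h.card]; norm_num)
  constructor
  intro N hN
  by_cases h11 : 11 ∣ Nat.card N
  · right
    have : Fact (Nat.Prime 11) := ⟨by norm_num⟩
    have : Fact (Nat.Prime 7) := ⟨by norm_num⟩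
    obtain ⟨⟨z, hzN⟩, hz⟩ := exists_prime_orderOf_dvd_card' 11 h11
    rw [Subgroup.orderOf_mk] at hz
    have hi := index_dvd_card_normalizer_of_mem (by norm_num) (h.not_sq_dvd (by simp)) N hzN hz
    rw [h.normalizer_eleven hz] at hi
    have h7 : 7 ∣ Nat.card N := by
      have e : 7 ∣ Nat.card N * N.index := by rw [N.card_mul_index, h.card]; norm_num
      refine ((Nat.Prime.dvd_mul (by norm_num)).1 e).resolve_right fun e7 => ?_
      have := e7.trans hi; norm_num at this
    obtain ⟨⟨w, hwN⟩, hw⟩ := exists_prime_orderOf_dvd_card' 7 h7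
    rw [Subgroup.orderOf_mk] at hw
    have hi' := index_dvd_card_normalizer_of_mem (by norm_num) (h.not_sq_dvd (by simp)) N hwN hw
    rw [h.normalizer_seven hw] at hi'
    exact Subgroup.index_eq_one.1 (Nat.dvd_one.1 ((Nat.dvd_gcd hi hi').trans (by norm_num)))
  · left
    by_contra hne
    obtain ⟨q, hq, hqN⟩ := Nat.exists_prime_and_dvd (fun e => hne (Subgroup.card_eq_one.1 e))
    have := Fact.mk hq
    have hqG : q ∣ 2 ^ 7 * 3 ^ 2 * 5 * 7 * 11 := by
      simpa [h.card] using hqN.trans (card_subgroup_dvd_card N)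
    obtain ⟨T⟩ : Nonempty (Sylow q N) := inferInstance
    obtain ⟨i, hi⟩ := IsPGroup.iff_card.1 T.isPGroup'
    set R := ((T : Subgroup N).map N.subtype : Subgroup G) with hR
    have hRc : Nat.card R = q ^ i := by
      rw [hR, Subgroup.card_map_of_injective N.subtype_injective, hi]
    have h11i : 11 ∣ N.index := by
      have e : 11 ∣ Nat.card N * N.index := by rw [N.card_mul_index, h.card]; norm_num
      exact ((Nat.Prime.dvd_mul (by norm_num)).1 e).resolve_left h11
    have : Fact (Nat.Prime 11) := ⟨by norm_num⟩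
    obtain ⟨⟨y, hyR⟩, hy⟩ := exists_prime_orderOf_dvd_card' 11
      (h11i.trans (CfsgLib.Order7920.index_dvd_card_normalizer N T))
    rw [Subgroup.orderOf_mk] at hy
    have hm := CfsgLib.Order7920.card_modEq_card_inf_centralizer (R := R)
      (IsPGroup.of_card (n := 1) (by rw [Nat.card_zpowers, hy, pow_one] :
        Nat.card (zpowers y) = 11 ^ 1)) (zpowers_le.2 hyR)
    have hc : Nat.card (R ⊓ centralizer (zpowers y : Set G) : Subgroup G) = 1 := by
      refine Nat.eq_one_of_dvd_coprimes ?_ (hRc ▸ Subgroup.card_dvd_of_le inf_le_left)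
        ((Subgroup.card_dvd_of_le (le_trans inf_le_right (centralizer_le
          (Set.singleton_subset_iff.2 (mem_zpowers y))))).trans (h.centralizer_eleven hy).dvd)
      refine ((Nat.coprime_primes hq (by norm_num)).2 ?_).pow_left i
      rintro rfl
      exact h11 hqN
    rw [hc, hRc, Nat.ModEq] at hm
    have hid : q ^ i ∣ 443520 := by
      rw [← hRc, ← h.card]; exact card_subgroup_dvd_card R
    have hi0 : i ≠ 0 := by
      rintro rfl
      have := T.dvd_card_of_dvd_card hqN
      rw [hi, pow_zero] at this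
      exact hq.one_lt.ne' (Nat.dvd_one.1 this)
    have hq11 : q = 2 ∨ q = 3 ∨ q = 5 ∨ q = 7 := by
      have key : ∀ r : ℕ, r.Prime → ∀ a, q ∣ r ^ a → q = r := fun r hr a ha =>
        (Nat.prime_dvd_prime_iff_eq hq hr).1 (hq.dvd_of_dvd_pow ha)
      rcases hq.dvd_mul.1 hqG with hh | hh
      · rcases hq.dvd_mul.1 hh with hh | hh
        · rcases hq.dvd_mul.1 hh with hh | hh
          · rcases hq.dvd_mul.1 hh with hh | hh
            · exact Or.inl (key 2 Nat.prime_two 7 hh)
            · exact Or.inr (Or.inl (key 3 Nat.prime_three 2 hh))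
          · exact Or.inr (Or.inr (Or.inl (key 5 (by norm_num) 1 (by simpa using hh))))
        · exact Or.inr (Or.inr (Or.inr (key 7 (by norm_num) 1 (by simpa using hh))))
      · exact absurd ((key 11 (by norm_num) 1 (by simpa using hh)) ▸ hqN) h11
    have hi8 : i < 8 := by
      by_contra hi8
      have h3 : q ^ 8 ∣ 443520 := (pow_dvd_pow q (not_lt.1 hi8)).trans hid
      rcases hq11 with hh | hh | hh | hh <;> rw [hh] at h3 <;> norm_num at h3
    rcases hq11 with rfl | rfl | rfl | rfl <;> interval_cases i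
    all_goals (first | (exfalso; omega) | (norm_num at hm hid))

theorem cnt_two : cntOrd G 2 = 1155 := by
  have h2 : 2 ∣ Nat.card G := by rw [h.card]; norm_num
  have hd := dvd_sum_cntOrd (G := G) h2
  rw [show (2 : ℕ).divisors = {1, 2} by decide] at hd
  simp only [Finset.sum_insert, Finset.mem_singleton, OfNat.one_ne_ofNat, not_false_eq_true,
    Finset.sum_singleton, cntOrd_one] at hd
  have hne := cntOrd_prime_ne_zero (G := G) Nat.prime_two h2
  have hne1 : cntOrd G 2 ≠ 1 := by
    intro e
    rw [cntOrd, Nat.card_eq_one_iff_unique] at e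
    obtain ⟨hsub, ⟨⟨z, hz⟩⟩⟩ := e
    have : Fact (Nat.Prime 11) := ⟨by norm_num⟩
    obtain ⟨y, hy⟩ := exists_prime_orderOf_dvd_card' (G := G) 11 (by rw [h.card]; norm_num)
    have hzy : z ∈ centralizer ({y} : Set G) := by
      have := congrArg Subtype.val (Subsingleton.elim (α := {g : G // orderOf g = 2}) ⟨y * z * y⁻¹, by rw [← MulAut.conj_apply, MulEquiv.orderOf_eq, hz]⟩
        ⟨z, hz⟩)
      exact mem_centralizer_singleton_iff.2 (mul_inv_eq_iff_eq_mul.1 this).symm
    have := orderOf_dvd_card_centralizer hzy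
    rw [hz, h.centralizer_eleven hy] at this
    norm_num at this
  rcases h.cnt_value hne with e | e | e | e | e | e | e | e | e <;> omega

theorem cnt_three : cntOrd G 3 = 12320 := by
  have h3 : 3 ∣ Nat.card G := by rw [h.card]; norm_num
  have hd := dvd_sum_cntOrd (G := G) h3
  rw [show (3 : ℕ).divisors = {1, 3} by decide] at hd
  simp only [Finset.sum_insert, Finset.mem_singleton, OfNat.one_ne_ofNat, not_false_eq_true,
    Finset.sum_singleton, cntOrd_one] at hd
  have hev := even_cntOrd (G := G) (m := 3) le_rfl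
  have hne := cntOrd_prime_ne_zero (G := G) Nat.prime_three h3
  rcases h.cnt_value hne with e | e | e | e | e | e | e | e | e <;> omega

theorem cnt_five : cntOrd G 5 = 88704 := by
  have : Fact (Nat.Prime 5) := ⟨by norm_num⟩
  rw [cntOrd_prime_eq (card_sylow_eq_prime (G := G) (by rw [h.card]; norm_num) (h.not_sq_dvd (by simp))),
    h.card_sylow_five]

theorem cnt_seven : cntOrd G 7 = 126720 := by
  have : Fact (Nat.Prime 7) := ⟨by norm_num⟩
  rw [cntOrd_prime_eq (card_sylow_eq_prime (G := G) (by rw [h.card]; norm_num) (h.not_sq_dvd (by simp))),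
    h.card_sylow_seven]

theorem cnt_eleven : cntOrd G 11 = 80640 := by
  have : Fact (Nat.Prime 11) := ⟨by norm_num⟩
  rw [cntOrd_prime_eq (card_sylow_eq_prime (G := G) (by rw [h.card]; norm_num) (h.not_sq_dvd (by simp))),
    h.card_sylow_eleven]

/-- An element order divisible by 5, 7 or 11 is known. -/
theorem orderOf_cases (g : G) :
    orderOf g = 5 ∨ orderOf g = 10 ∨ orderOf g = 7 ∨ orderOf g = 11 ∨ orderOf g ∣ 1152 := by
  have key : ∀ p, p.Prime → p ∣ orderOf g → ∀ c : ℕ,
      (∀ y : G, orderOf y = p → Nat.card (centralizer ({y} : Set G)) ∣ c) → orderOf g ∣ c := by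
    intro p hp hd c hc
    have hy := orderOf_pow_orderOf_div (orderOf_pos g).ne' hd
    refine (orderOf_dvd_card_centralizer ?_).trans (hc _ hy)
    exact mem_centralizer_singleton_iff.2 ((Commute.refl g).pow_right _).eq
  by_cases h11 : 11 ∣ orderOf g
  · have := key 11 (by norm_num) h11 11 (fun y hy => (h.centralizer_eleven hy).dvd)
    exact Or.inr (Or.inr (Or.inr (Or.inl (Nat.dvd_antisymm this h11))))
  by_cases h7 : 7 ∣ orderOf g
  · have := key 7 (by norm_num) h7 7 (fun y hy => (h.centralizer_seven hy).dvd)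
    exact Or.inr (Or.inr (Or.inl (Nat.dvd_antisymm this h7)))
  by_cases h5 : 5 ∣ orderOf g
  · have hd := key 5 (by norm_num) h5 10 (fun y hy => h.centralizer_five_dvd hy)
    have := Nat.le_of_dvd (by norm_num) hd
    obtain ⟨k, hk⟩ := h5
    have hk2 : k ≤ 2 := by omega
    have hpos := orderOf_pos g
    interval_cases k <;> omega
  refine Or.inr (Or.inr (Or.inr (Or.inr ?_)))
  have hd : orderOf g ∣ 1152 * 385 := by
    rw [show (1152 : ℕ) * 385 = Nat.card G by rw [h.card]]; exact orderOf_dvd_natCard g
  refine Nat.Coprime.dvd_of_dvd_mul_right ?_ hd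
  rw [show (385 : ℕ) = 5 * 7 * 11 by norm_num]
  exact (((Nat.Prime.coprime_iff_not_dvd (by norm_num)).2 h5).symm.mul_right
    ((Nat.Prime.coprime_iff_not_dvd (by norm_num)).2 h7).symm).mul_right
    ((Nat.Prime.coprime_iff_not_dvd (by norm_num)).2 h11).symm

theorem cnt_small {n : ℕ} (hn : n ∣ 1152) (hn3 : 3 ≤ n) :
    cntOrd G n = 0 ∨ cntOrd G n = 12320 ∨ cntOrd G n = 36960 ∨ cntOrd G n = 41580 ∨
      cntOrd G n = 55440 := by
  have hdvd : 385 ∣ cntOrd G n := by
    refine CfsgLib.Recog.NSEEleven.dvd_card_orderOf fun x hx => ?_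
    have hmul : 385 ∣ Nat.card (centralizer ({x} : Set G)) * (centralizer ({x} : Set G)).index := by
      rw [Subgroup.card_mul_index, h.card]; norm_num
    have hno : ∀ p, p.Prime → p ∣ 385 → ¬ p ∣ Nat.card (centralizer ({x} : Set G)) := by
      intro p hp hp385 hd
      have := Fact.mk hp
      obtain ⟨⟨y, hy⟩, hyo⟩ := exists_prime_orderOf_dvd_card' p hd
      rw [Subgroup.orderOf_mk] at hyo
      have hxy : x ∈ centralizer ({y} : Set G) :=
        mem_centralizer_singleton_iff.2 (mem_centralizer_singleton_iff.1 hy).symm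
      have hd' := orderOf_dvd_card_centralizer hxy
      rw [hx] at hd'
      have : p = 5 ∨ p = 7 ∨ p = 11 := by
        rw [show (385 : ℕ) = 5 * 7 * 11 by norm_num] at hp385
        rcases hp.dvd_mul.1 hp385 with e | e
        · rcases hp.dvd_mul.1 e with e | e
          · exact Or.inl ((Nat.prime_dvd_prime_iff_eq hp (by norm_num)).1 e)
          · exact Or.inr (Or.inl ((Nat.prime_dvd_prime_iff_eq hp (by norm_num)).1 e))
        · exact Or.inr (Or.inr ((Nat.prime_dvd_prime_iff_eq hp (by norm_num)).1 e))
      have hfin : n ∣ 10 ∨ n ∣ 7 ∨ n ∣ 11 := by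
        rcases this with rfl | rfl | rfl
        · exact Or.inl (hd'.trans (h.centralizer_five_dvd hyo))
        · exact Or.inr (Or.inl (hd'.trans (h.centralizer_seven hyo).dvd))
        · exact Or.inr (Or.inr (hd'.trans (h.centralizer_eleven hyo).dvd))
      rcases hfin with e | e | e <;> have := Nat.le_of_dvd (by norm_num) e <;> interval_cases n
      all_goals (first | omega | (norm_num at e) | (norm_num at hn))
    refine Nat.Coprime.dvd_of_dvd_mul_left ?_ hmul
    rw [show (385 : ℕ) = 5 * 7 * 11 by norm_num]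
    exact (((Nat.Prime.coprime_iff_not_dvd (by norm_num)).2 (hno 5 (by norm_num) (by norm_num))).mul_left
      ((Nat.Prime.coprime_iff_not_dvd (by norm_num)).2 (hno 7 (by norm_num) (by norm_num)))).mul_left
      ((Nat.Prime.coprime_iff_not_dvd (by norm_num)).2 (hno 11 (by norm_num) (by norm_num)))
  rcases eq_or_ne (cntOrd G n) 0 with e | e
  · exact Or.inl e
  have hev := even_cntOrd (G := G) hn3
  rcases h.cnt_value e with e' | e' | e' | e' | e' | e' | e' | e' | e'
  all_goals (first | omega | (rw [e'] at hdvd; norm_num at hdvd))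

end Nse

end CfsgLib.MathieuTwentyTwo.NseRoute
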