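import Mathlib

/-!
Fixed points of a p-group acting by conjugation on a set of elements.
-/

set_option autoImplicit false

namespace CfsgLib.MathieuTwentyTwo

open Subgroup

universe u

variable {G : Type u} [Group G] [Finite G]

/-- A p-group acting by conjugation on a set whose size is prime to `p` fixes one of its elements. -/
theorem exists_fixed_of_isPGroup {p : ℕ} [Fact p.Prime] {P : Subgroup G} (hP : IsPGroup p P)
    (A : Set G) (hA : ∀ g ∈ P, ∀ a ∈ A, g * a * g⁻¹ ∈ A) (hc : ¬ p ∣ A.ncard) :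
    ∃ a ∈ A, ∀ g ∈ P, g * a * g⁻¹ = a := by
  classical
  let act : MulAction P A :=
    { smul := fun g a => ⟨(g : G) * a.1 * (g : G)⁻¹, hA g g.2 a.1 a.2⟩
      one_smul := fun a => Subtype.ext (by
        show ((1 : P) : G) * a.1 * ((1 : P) : G)⁻¹ = a.1
        simp)
      mul_smul := fun g h a => Subtype.ext (by
        show ((g * h : P) : G) * a.1 * ((g * h : P) : G)⁻¹ =
          (g : G) * ((h : G) * a.1 * (h : G)⁻¹) * (g : G)⁻¹
        simp [mul_assoc]) }
  obtain ⟨a, ha⟩ := @IsPGroup.nonempty_fixed_point_of_prime_not_dvd_card p P _ hP _ A act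
    (by rwa [Nat.card_coe_set_eq])
  exact ⟨a.1, a.2, fun g hg => congrArg Subtype.val (ha ⟨g, hg⟩)⟩

/-- The same for a single element of prime order. -/
theorem exists_commute_of_not_dvd {p : ℕ} (hp : p.Prime) {x : G} (hx : orderOf x = p) (A : Set G)
    (hA : ∀ a ∈ A, x * a * x⁻¹ ∈ A) (hc : ¬ p ∣ A.ncard) : ∃ a ∈ A, Commute x a := by
  have := Fact.mk hp
  have hpow : ∀ (k : ℕ), ∀ a ∈ A, x ^ k * a * (x ^ k)⁻¹ ∈ A := by
    intro k
    induction k with
    | zero => intro a ha; simpa using ha
    | succ k ih =>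
      intro a ha
      have := hA _ (ih a ha)
      rw [pow_succ']
      simpa [mul_assoc] using this
  obtain ⟨a, ha, hfix⟩ := exists_fixed_of_isPGroup (p := p) (P := zpowers x)
    (IsPGroup.of_card (n := 1) (by rw [Nat.card_zpowers, hx, pow_one])) A (fun g hg a ha => by
      obtain ⟨k, rfl⟩ := mem_powers_iff_mem_zpowers.2 hg
      exact hpow k a ha) hc
  exact ⟨a, ha, mul_inv_eq_iff_eq_mul.1 (hfix x (mem_zpowers x))⟩

omit [Finite G] in
/-- Conjugating a centraliser. -/
theorem mem_centralizer_conj {g c x : G} (h : c ∈ centralizer ({x} : Set G)) :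
    g * c * g⁻¹ ∈ centralizer ({g * x * g⁻¹} : Set G) := by
  rw [mem_centralizer_singleton_iff] at h ⊢
  calc g * c * g⁻¹ * (g * x * g⁻¹) = g * (c * x) * g⁻¹ := by group
    _ = g * (x * c) * g⁻¹ := by rw [h]
    _ = g * x * g⁻¹ * (g * c * g⁻¹) := by group

omit [Finite G] in
theorem orderOf_conj (g x : G) : orderOf (g * x * g⁻¹) = orderOf x := by
  rw [← MulAut.conj_apply, MulEquiv.orderOf_eq]

omit [Finite G] in
theorem card_centralizer_conj (g x : G) :
    Nat.card (centralizer ({g * x * g⁻¹} : Set G)) = Nat.card (centralizer ({x} : Set G)) := by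
  refine (Nat.card_congr ((MulAut.conj g).toEquiv.subtypeEquiv fun c => ?_)).symm
  constructor
  · exact fun h => mem_centralizer_conj h
  · intro h
    have := mem_centralizer_conj (g := g⁻¹) h
    simpa [mul_assoc] using this

omit [Finite G] in
theorem pow_two_eq_one_of_orderOf {s : G} (h : orderOf s = 2) : s * s = 1 := by
  rw [← sq, ← h, pow_orderOf_eq_one]

omit [Finite G] in
theorem orderOf_eq_two {s : G} (h : s * s = 1) (hne : s ≠ 1) : orderOf s = 2 :=
  orderOf_eq_prime (by rw [sq, h]) hne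

end CfsgLib.MathieuTwentyTwo
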