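import Cfsg.Agent.Lib.MathieuTwentyTwo.Four

/-!
The core of an involution centraliser does not centralise the four group: otherwise an elementary
group of order 16 would be partitioned into five four groups, and an element of order three would
commute with one of order five.
-/

set_option autoImplicit false

namespace CfsgLib.MathieuTwentyTwo.NseRoute

open Subgroup CfsgLib.Recog.OrderCounts

universe u

variable {G : Type u} [Group G] [Finite G]

omit [Finite G] in
theorem Pair.span_commute {x y g : G} (p : Pair x y) (hg : g ∈ pairSpan p.comm) :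
    Commute g x ∧ Commute g y := by
  obtain ⟨i, j, rfl⟩ := hg
  exact ⟨((Commute.refl x).zpow_left i).mul_left (p.comm.zpow_left j),
    (p.comm.symm.zpow_left i).mul_left ((Commute.refl y).zpow_left j)⟩

namespace Local

variable (h : Local G)
include h

theorem exists_pair {x : G} (hx : orderOf x = 3) : ∃ y, Pair x y := by
  obtain ⟨y, hyx, hy, hm⟩ := h.exists_mover hx
  exact ⟨y, hyx, hx, hy, hm⟩

theorem five_no_commute {f s : G} (hf : orderOf f = 5) (hs : s ≠ 1) (hs5 : ¬ orderOf s ∣ 5) :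
    ¬ Commute f s := by
  intro hc
  refine hs5 ?_
  rw [← h.centralizer_five hf]
  exact Subgroup.orderOf_dvd_natCard _ (mem_centralizer_singleton_iff.2 hc.eq.symm)

theorem five_no_commute_two {f s : G} (hf : orderOf f = 5) (hs : s ≠ 1) (hs2 : s * s = 1) :
    ¬ Commute f s :=
  h.five_no_commute hf hs (by rw [orderOf_eq_two hs2 hs]; norm_num)

theorem pair_orbit {x y s v : G} (p : Pair x y) (hs : s ∈ fourOf x) (hs1 : s ≠ 1)
    (hv : v ∈ fourOf x) (hv1 : v ≠ 1) : ∃ i : ℕ, y ^ i * s * (y ^ i)⁻¹ = v := by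
  classical
  have hy3 : y * (y * y) = 1 := by rw [← mul_assoc]; exact mul_three_of p.oy
  set s1 := y * s * y⁻¹ with hs1def
  set s2 := y * s1 * y⁻¹ with hs2def
  have m1 := h.conj_mem_fourOf p.ox p.comm hs
  have m2 := h.conj_mem_fourOf p.ox p.comm m1
  have n1 : s1 ≠ 1 := fun e => hs1 (by simpa [hs1def] using e)
  have n2 : s2 ≠ 1 := fun e => n1 (by simpa [hs2def] using e)
  have d01 : s1 ≠ s := fun e => p.moves s hs hs1 (mul_inv_eq_iff_eq_mul.1 e)
  have d12 : s2 ≠ s1 := fun e => p.moves s1 m1 n1 (mul_inv_eq_iff_eq_mul.1 e)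
  have d02 : s2 ≠ s := by
    intro e
    refine d01 ?_
    have e' : y * s2 * y⁻¹ = s := by
      calc y * s2 * y⁻¹ = y * (y * y) * s * (y * (y * y))⁻¹ := by rw [hs2def, hs1def]; group
        _ = s := by rw [hy3]; group
    rw [e] at e'
    exact e'
  have hset : ({1, s, s1, s2} : Set G) = (fourOf x : Set G) := by
    refine Set.eq_of_subset_of_ncard_le ?_ ?_ (Set.toFinite _)
    · rintro b (rfl | rfl | rfl | rfl)
      exacts [one_mem _, hs, m1, m2]
    · rw [← Nat.card_coe_set_eq, Set.ncard_insert_of_notMem (by simp [hs1.symm, n1.symm, n2.symm])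
        (Set.toFinite _), Set.ncard_insert_of_notMem (by simp [d01.symm, d02.symm]) (Set.toFinite _),
        Set.ncard_pair d12.symm]
      exact (h.card_fourOf p.ox).le
  have hv' : v ∈ ({1, s, s1, s2} : Set G) := hset ▸ hv
  rcases hv' with e | e | e | e
  · exact absurd e hv1
  · exact ⟨0, by simp [e]⟩
  · exact ⟨1, by rw [pow_one]; exact e.symm⟩
  · exact ⟨2, by rw [e, hs2def, hs1def, pow_two]; group⟩

/-- A core that centralises the four group has a line whose four group it does not centralise. -/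
theorem exists_noncentral_line (hA : ∀ t x : G, ∀ R, Setting t x R → ∀ r ∈ R, ∀ v ∈ fourOf x, Commute v r)
    {t x y : G} {R : Subgroup G} (S : Setting t x R) (p : Pair x y)
    (hyR : y ∈ normalizer (R : Set G)) :
    ∃ z, Pair x z ∧ z ∈ pairSpan p.comm ∧ fourOf z ≤ R ∧
      ¬ (∀ v ∈ fourOf z, ∀ r ∈ R, Commute v r) := by
  classical
  by_contra hno
  push Not at hno
  let B : Subgroup G :=
    { carrier := {e | e ∈ R ∧ e * e = 1 ∧ ∀ f ∈ R, Commute e f}
      one_mem' := ⟨one_mem _, one_mul 1, fun f _ => Commute.one_left f⟩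
      mul_mem' := by
        rintro a b ⟨ha, ha2, hac⟩ ⟨hb, hb2, hbc⟩
        refine ⟨mul_mem ha hb, ?_, fun f hf => (hac f hf).mul_left (hbc f hf)⟩
        rw [mul_assoc, ← mul_assoc b a b, (hbc a ha).eq, mul_assoc a b b, hb2, mul_one, ha2]
      inv_mem' := by
        rintro a ⟨ha, ha2, hac⟩
        have : a⁻¹ = a := inv_eq_of_mul_eq_one_right ha2
        rw [Set.mem_ofPred_eq, this]
        exact ⟨ha, ha2, hac⟩ }
  have hBn : ∀ g ∈ normalizer (R : Set G), g ∈ normalizer (B : Set G) := fun g hg =>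
    mem_normalizer_of_conj_mem fun b hb => by
      refine ⟨conj_mem_of_mem_normalizer hg hb.1, ?_, fun f hf => ?_⟩
      · rw [show g * b * g⁻¹ * (g * b * g⁻¹) = g * (b * b) * g⁻¹ by group, hb.2.1]; group
      · have := (hb.2.2 (g⁻¹ * f * g⁻¹⁻¹) (conj_mem_of_mem_normalizer (inv_mem hg) hf)).map
          (MulAut.conj g).toMonoidHom
        simpa [mul_assoc] using this
  have hVB : fourOf x ≤ B := fun v hv => ⟨h.fourOf_le_core S hv, ((h.mem_fourOf p.ox).1 hv).2,
    fun r hr => hA t x R S r hr v hv⟩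
  have hBR : B ≤ R := fun b hb => hb.1
  have hB64 : Nat.card B = 64 := by
    by_contra hne64
    have hcases : Nat.card B = 4 ∨ Nat.card B = 16 := by
      by_cases e : B = fourOf x
      · exact Or.inl (by rw [e, h.card_fourOf p.ox])
      · rcases h.card_sub_core S p.ox hBR hVB e (hBn x S.x_mem_normalizer) with e' | e'
        · exact Or.inr e'
        · exact absurd e' hne64
    have hcard : ((R : Set G) \ (B : Set G)).ncard = 64 - Nat.card B := by
      rw [Set.ncard_sdiff hBR (Set.toFinite _), ← Nat.card_coe_set_eq, ← Nat.card_coe_set_eq]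
      exact congrArg (· - Nat.card B) S.core.card
    have hinv : ∀ g ∈ normalizer (R : Set G), ∀ a ∈ (R : Set G) \ (B : Set G),
        g * a * g⁻¹ ∈ (R : Set G) \ (B : Set G) := fun g hg a ha =>
      ⟨conj_mem_of_mem_normalizer hg ha.1, fun hm => ha.2 ((Subgroup.mem_normalizer_iff.1 (hBn g hg) a).2 hm)⟩
    obtain ⟨z, a, pz, hzP, ⟨haR, haB⟩, hza⟩ := p.exists_line h ((R : Set G) \ (B : Set G))
      (hinv x S.x_mem_normalizer) (hinv y hyR)
      (fun a ha hxa => ha.2 (hVB (h.mem_fourOf_of_core S ha.1 hxa)))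
      (by rw [hcard]; rcases hcases with e | e <;> rw [e] <;> norm_num)
    have ha4 : a ∈ fourOf z :=
      h.mem_fourOf_of_commute pz.oy (h.pow_eight_of_isPGroup S.core.isPGroup haR) hza
    have ha1 : a ≠ 1 := fun e => haB (e ▸ one_mem _)
    have hzR := h.fourOf_le_of_mem pz S.x_mem_normalizer ha4 haR ha1
    exact haB ⟨haR, ((h.mem_fourOf pz.oy).1 ha4).2, hno z pz hzP hzR a ha4⟩
  have hBeq : B = R := Subgroup.eq_of_le_of_card_ge hBR (by rw [hB64, S.core.card])
  -- `R` is elementary: no element of order eight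
  obtain ⟨g, hg⟩ := h.exists_eight
  have hg4 : orderOf (g ^ 4) = 2 := by rw [orderOf_pow, hg]; rfl
  obtain ⟨c, hc⟩ := isConj_iff.1 (h.isConj_two hg4 S.ht)
  set g' := c * g * c⁻¹ with hg'
  have hg'8 : orderOf g' = 8 := by rw [hg', orderOf_conj, hg]
  have hg't : g' ∈ centralizer ({t} : Set G) := by
    rw [mem_centralizer_singleton_iff, ← hc, show c * g ^ 4 * c⁻¹ = g' ^ 4 by rw [hg', conj_pow]]
    exact (Commute.self_pow g' 4).eq
  have hsq := S.core.sq_mem g' hg't (by
    rw [show (128 : ℕ) = orderOf g' * 16 by rw [hg'8], pow_mul, pow_orderOf_eq_one, one_pow])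
  rw [← hBeq] at hsq
  have h4 : g' ^ 4 = 1 := by
    rw [show g' ^ 4 = g' * g' * (g' * g') by simp [pow_succ, mul_assoc]]
    exact hsq.2.1
  have := orderOf_dvd_of_pow_eq_one h4
  rw [hg'8] at this
  norm_num at this

set_option maxHeartbeats 1000000 in
theorem not_central_case
    (hA : ∀ t x : G, ∀ R, Setting t x R → ∀ r ∈ R, ∀ v ∈ fourOf x, Commute v r) : False := by
  classical
  have : Fact (Nat.Prime 2) := ⟨Nat.prime_two⟩
  have : Fact (Nat.Prime 3) := ⟨Nat.prime_three⟩
  have : Fact (Nat.Prime 5) := ⟨Nat.prime_five⟩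
  obtain ⟨⟨t, ht⟩⟩ : Nonempty {g : G // orderOf g = 2} := by
    by_contra hc
    rw [not_nonempty_iff] at hc
    have := h.cnt_two
    rw [cntOrd, Nat.card_of_isEmpty] at this
    omega
  obtain ⟨x, hx, hxt⟩ := h.exists_three_commute ht
  obtain ⟨R, hR⟩ := h.exists_core ht
  have S : Setting t x R := ⟨ht, hx, hxt, hR⟩
  have hVR := h.fourOf_le_core S
  have ht4 : t ∈ fourOf x := h.mem_fourOf_of_involution hx ht hxt
  have ht1 : t ≠ 1 := fun e => by rw [e, orderOf_one] at ht; omega
  -- one four group for each involution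
  have huniq : ∀ a b w : G, orderOf a = 3 → orderOf b = 3 → w ≠ 1 → w ∈ fourOf a → w ∈ fourOf b →
      fourOf b = fourOf a := by
    intro a b w ha hb hw1 hwa hwb
    have hw : orderOf w = 2 := orderOf_eq_two ((h.mem_fourOf ha).1 hwa).2 hw1
    obtain ⟨Rw, hRw⟩ := h.exists_core hw
    have Sw : Setting w a Rw := ⟨hw, ha, ((h.mem_fourOf ha).1 hwa).1, hRw⟩
    obtain ⟨r, hr, e⟩ := h.three_conj Sw hb ((h.mem_fourOf hb).1 hwb).1
    have hfix : ∀ c : G, fourOf c = fourOf a → orderOf c = 3 → fourOf (r * c * r⁻¹) = fourOf a := by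
      intro c hc hco
      ext v
      rw [h.mem_fourOf_conj hco, hc]
      have key : ∀ u ∈ fourOf a, r⁻¹ * u * r = u := fun u hu => by
        rw [mul_assoc, (hA w a Rw Sw r hr u hu).eq, inv_mul_cancel_left]
      refine ⟨fun hm => ?_, fun hm => by rw [key v hm]; exact hm⟩
      have := key _ hm
      have e2 : r⁻¹ * v * r = v := by
        have := congrArg (fun q => r * q * r⁻¹) this
        simpa [mul_assoc] using this
      rwa [e2] at hm
    rcases e with rfl | rfl
    · exact hfix a rfl ha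
    · exact hfix a⁻¹ (h.fourOf_inv ha) (by rw [orderOf_inv, ha])
  obtain ⟨y, p⟩ := h.exists_pair hx
  have hRe : eOf R x = R := le_antisymm inf_le_left fun r hr =>
    mem_eOf.2 ⟨hr, fun v hv => hA t x R S r hr v hv⟩
  have hyR : y ∈ normalizer (R : Set G) := hRe ▸ h.mem_normalizer_eOf S p.comm
  obtain ⟨z, pz, hzP, hzR, hnc⟩ := h.exists_noncentral_line hA S p hyR
  have hspanR := p.span_le_normalizer S.x_mem_normalizer hyR
  set E := eOf R z with hEdef
  have hVz : fourOf z ≤ E := fun v hv => mem_eOf.2 ⟨hzR hv, fun u hu => h.fourOf_comm pz.oy hu hv⟩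
  have hVx : fourOf x ≤ E := fun v hv =>
    mem_eOf.2 ⟨hVR hv, fun u hu => (hA t x R S u (hzR hu) v hv).symm⟩
  have hEx : fourOf x ≠ E := by
    intro e
    obtain ⟨v, hv, hv1⟩ := h.exists_ne_one_fourOf pz.oy
    exact hv1 (h.eq_one_of_mem_both pz (e ▸ hVz hv) hv)
  -- the span normalises everything in sight
  have hspanE : pairSpan p.comm ≤ normalizer (E : Set G) := by
    intro g hg
    refine mem_normalizer_of_conj_mem fun b hb => ?_
    rw [hEdef, mem_eOf] at hb ⊢
    refine ⟨conj_mem_of_mem_normalizer (hspanR hg) hb.1, fun v hv => ?_⟩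
    have hgz : Commute g z := by
      obtain ⟨i, j, e⟩ := hzP
      rw [e]
      exact ((p.span_commute hg).1.zpow_right i).mul_right ((p.span_commute hg).2.zpow_right j)
    have hv' : g⁻¹ * v * g⁻¹⁻¹ ∈ fourOf z := h.conj_mem_fourOf pz.oy hgz.inv_left hv
    have := (hb.2 _ hv').map (MulAut.conj g).toMonoidHom
    simpa [mul_assoc] using this
  have hxE := hspanE p.left_mem_span
  have hyE := hspanE p.right_mem_span
  have hzE := hspanE hzP
  have hzRn := hspanR hzP
  have hE16 : Nat.card E = 16 := by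
    rcases h.card_sub_core S hx (B := E) inf_le_left hVx hEx.symm hxE with e | e
    · exact e
    · exfalso
      refine hnc fun v hv r hr => ?_
      have hEq : E = R := Subgroup.eq_of_le_of_card_ge (H := E) inf_le_left (by rw [e, S.core.card])
      exact (mem_eOf.1 (show r ∈ eOf R z by rw [← hEdef, hEq]; exact hr)).2 v hv
  have hEcomm := h.elementary_of_two S pz inf_le_left hE16 hVx hVz
    (fun v hv e he => hA t x R S e (mem_eOf.1 he).1 v hv) (fun v hv e he => (mem_eOf.1 he).2 v hv) hxE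
  set H := normalizer (E : Set G) with hH
  have hRH : R ≤ H := h.core_le_normalizer S hx S.x_mem_normalizer inf_le_left hE16 hVx hxE
  -- centralisers in `R` of the involutions of the second four group
  have hCw : ∀ w ∈ fourOf z, w ≠ 1 → R ⊓ centralizer ({w} : Set G) = E := by
    intro w hw hw1
    have hle : E ≤ R ⊓ centralizer ({w} : Set G) := fun e he =>
      ⟨(mem_eOf.1 he).1, mem_centralizer_singleton_iff.2 ((mem_eOf.1 he).2 w hw).eq.symm⟩
    have hn : z ∈ normalizer ((R ⊓ centralizer ({w} : Set G) : Subgroup G) : Set G) :=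
      mem_normalizer_of_conj_mem fun b hb => ⟨conj_mem_of_mem_normalizer hzRn hb.1, by
        have hzw : Commute z w := ((h.mem_fourOf pz.oy).1 hw).1
        exact (centralizer ({w} : Set G)).mul_mem ((centralizer ({w} : Set G)).mul_mem
          (mem_centralizer_singleton_iff.2 hzw.eq) hb.2)
          ((centralizer ({w} : Set G)).inv_mem (mem_centralizer_singleton_iff.2 hzw.eq))⟩
    have hne : R ⊓ centralizer ({w} : Set G) ≠ fourOf z := fun e => by
      have := Subgroup.card_dvd_of_le hle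
      rw [e, hE16, h.card_fourOf pz.oy] at this
      norm_num at this
    rcases h.card_sub_core S pz.oy (inf_le_left : R ⊓ centralizer ({w} : Set G) ≤ R)
      (hVz.trans hle) hne hn with e | e
    · exact (Subgroup.eq_of_le_of_card_ge hle (by rw [e, hE16])).symm
    · exfalso
      refine hnc ?_
      have hall : ∀ r ∈ R, Commute w r := fun r hr => by
        have : r ∈ R ⊓ centralizer ({w} : Set G) :=
          (Subgroup.eq_of_le_of_card_ge (inf_le_left : R ⊓ centralizer ({w} : Set G) ≤ R) (by rw [e, S.core.card])).symm ▸ hr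
        exact (mem_centralizer_singleton_iff.1 this.2).symm
      intro v hv r hr
      by_cases hv1 : v = 1
      · rw [hv1]; exact Commute.one_left r
      obtain ⟨i, rfl⟩ := h.pair_orbit (pz.symm h) hw hw1 hv hv1
      have hxi : x ^ i ∈ normalizer (R : Set G) := pow_mem S.x_mem_normalizer i
      have := (hall _ (conj_mem_of_mem_normalizer (inv_mem hxi) hr)).map
        (MulAut.conj (x ^ i)).toMonoidHom
      simpa [mul_assoc, -map_pow] using this
  -- the involutions outside the first four group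
  set T : Set G := {w | w ∈ fourOf z ∧ w ≠ 1} with hT
  have hTc : T.ncard = 3 := by
    have : T = (fourOf z : Set G) \ {1} := by ext w; simp [hT]
    rw [this, Set.ncard_sdiff_singleton_of_mem (one_mem _), ← Nat.card_coe_set_eq]
    exact congrArg (· - 1) (h.card_fourOf pz.oy)
  set U : Set G := ⋃ w ∈ T, (fun r => r * w * r⁻¹) '' (R : Set G) with hU
  have hUsub : U ⊆ (E : Set G) \ (fourOf x : Set G) := by
    intro a ha
    simp only [hU, Set.mem_iUnion] at ha
    obtain ⟨w, ⟨hw, hw1⟩, r, hr, rfl⟩ := ha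
    refine ⟨conj_mem_of_mem_normalizer (hRH hr) (hVz hw), fun hm => hw1 ?_⟩
    refine h.eq_one_of_mem_both pz ?_ hw
    have e : r⁻¹ * (r * w * r⁻¹) * r = r * w * r⁻¹ := by
      rw [mul_assoc, (hA t x R S r hr _ hm).eq, inv_mul_cancel_left]
    have e' : r * w * r⁻¹ = w := e.symm.trans (by group)
    rw [← e']; exact hm
  have hUc : U.ncard = 12 := by
    rw [hU, Set.Finite.ncard_biUnion (Set.toFinite T) (fun _ _ => Set.toFinite _)]
    · rw [finsum_mem_congr (s := T) rfl (g := fun _ => 4) (fun w hw => ?_),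
        finsum_mem_eq_finite_toFinset_sum _ (Set.toFinite T), Finset.sum_const,
        ← Set.ncard_eq_toFinset_card T, hTc, smul_eq_mul]
      have e := ncard_conj_image R w
      rw [hCw w hw.1 hw.2, hE16, S.core.card] at e
      omega
    · intro w hw w' hw' hne
      rw [Function.onFun, Set.disjoint_left]
      rintro _ ⟨r, hr, rfl⟩ ⟨r', hr', e⟩
      simp only at e
      refine hne (h.no_swap pz.oy S.core.isPGroup hzRn (mul_mem (inv_mem hr') hr) hw.1 hw'.1 ?_)
      calc r'⁻¹ * r * w * (r'⁻¹ * r)⁻¹ = r'⁻¹ * (r * w * r⁻¹) * r' := by group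
        _ = w' := by rw [← e]; group
  have hUeq : U = (E : Set G) \ (fourOf x : Set G) := by
    refine Set.eq_of_subset_of_ncard_le hUsub ?_ (Set.toFinite _)
    rw [hUc, Set.ncard_sdiff hVx (Set.toFinite _), ← Nat.card_coe_set_eq, ← Nat.card_coe_set_eq]
    exact (congrArg₂ (· - ·) hE16 (h.card_fourOf hx)).le
  -- the second core moves `t` out of the first four group
  obtain ⟨w0, hw0, hw01⟩ := h.exists_ne_one_fourOf pz.oy
  have hw0o : orderOf w0 = 2 := orderOf_eq_two ((h.mem_fourOf pz.oy).1 hw0).2 hw01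
  obtain ⟨R2, hR2⟩ := h.exists_core hw0o
  have S2 : Setting w0 z R2 := ⟨hw0o, pz.oy, ((h.mem_fourOf pz.oy).1 hw0).1, hR2⟩
  have hR2e : eOf R2 z = R2 := le_antisymm inf_le_left fun r hr =>
    mem_eOf.2 ⟨hr, fun v hv => hA w0 z R2 S2 r hr v hv⟩
  have hxR2 : x ∈ normalizer (R2 : Set G) := hR2e ▸ h.mem_normalizer_eOf S2 pz.comm.symm
  have hER2 : E ≤ R2 := fun e he => (mem_eOf.1 (h.le_eOf S2 (S.core.isPGroup.to_le inf_le_left)
    (fun v hv c hc => (mem_eOf.1 hc).2 v hv)
    (fun c hc => conj_mem_of_mem_normalizer hzE hc) he)).1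
  have hR2H : R2 ≤ H := h.core_le_normalizer S2 pz.oy S2.x_mem_normalizer hER2 hE16 hVz hzE
  obtain ⟨g2, hg2, hg2t⟩ : ∃ g ∈ R2, g * t * g⁻¹ ∉ fourOf x := by
    by_contra hall
    push Not at hall
    have hfix : ∀ g ∈ R2, Commute g t := fun g hg =>
      mul_inv_eq_iff_eq_mul.1 (h.no_swap hx S2.core.isPGroup hxR2 hg ht4 (hall g hg) rfl).symm
    have hle : R2 ≤ R := S.core.absorb x hx hxt R2
      (fun g hg => mem_centralizer_singleton_iff.2 (hfix g hg).eq) S2.core.isPGroup
      (fun g hg => conj_mem_of_mem_normalizer hxR2 hg)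
    have heq : R2 = R := Subgroup.eq_of_le_of_card_ge hle (by rw [S.core.card, S2.core.card])
    exact hnc fun v hv r hr => hA w0 z R2 S2 r (heq ▸ hr) v hv
  -- one orbit on the involutions of `E`
  have hspanH : pairSpan p.comm ≤ H := hspanE
  have htrV : ∀ v ∈ fourOf x, v ≠ 1 → ∃ g ∈ H, g * t * g⁻¹ = v := by
    intro v hv hv1
    obtain ⟨i, hi⟩ := h.pair_orbit p ht4 ht1 hv hv1
    exact ⟨y ^ i, pow_mem (hspanH p.right_mem_span) i, hi⟩
  have htw : ∀ w ∈ T, ∃ g ∈ H, g * t * g⁻¹ = w := by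
    have hm : g2 * t * g2⁻¹ ∈ U := by
      rw [hUeq]
      exact ⟨conj_mem_of_mem_normalizer (hR2H hg2) (hVx ht4), hg2t⟩
    simp only [hU, Set.mem_iUnion] at hm
    obtain ⟨w', hw', r, hr, e⟩ := hm
    simp only at e
    intro w hw
    obtain ⟨i, hi⟩ := h.pair_orbit (pz.symm h) hw'.1 hw'.2 hw.1 hw.2
    refine ⟨x ^ i * r⁻¹ * g2, mul_mem (mul_mem (pow_mem hxE i) (inv_mem (hRH hr))) (hR2H hg2), ?_⟩
    rw [show x ^ i * r⁻¹ * g2 * t * (x ^ i * r⁻¹ * g2)⁻¹ =
      x ^ i * (r⁻¹ * (g2 * t * g2⁻¹) * r) * (x ^ i)⁻¹ by group, ← e, ← hi]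
    group
  have htE : ∀ e ∈ E, e ≠ 1 → ∃ g ∈ H, g * t * g⁻¹ = e := by
    intro e he he1
    by_cases hev : e ∈ fourOf x
    · exact htrV e hev he1
    · have hm : e ∈ U := hUeq ▸ ⟨he, hev⟩
      simp only [hU, Set.mem_iUnion] at hm
      obtain ⟨w, hw, r, hr, rfl⟩ := hm
      obtain ⟨g, hg, rfl⟩ := htw w hw
      exact ⟨r * g, mul_mem (hRH hr) hg, by group⟩
  have h5H : 5 ∣ Nat.card H := by
    have e := ncard_conj_image H t
    have himg : (fun r => r * t * r⁻¹) '' (H : Set G) = (E : Set G) \ {1} := by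
      ext a
      constructor
      · rintro ⟨r, hr, rfl⟩
        exact ⟨conj_mem_of_mem_normalizer hr (hVx ht4), fun e1 => ht1 (by
          simpa using (show r * t * r⁻¹ = 1 from e1))⟩
      · rintro ⟨ha, ha1⟩
        obtain ⟨g, hg, e⟩ := htE a ha ha1
        exact ⟨g, hg, e⟩
    rw [himg, Set.ncard_sdiff_singleton_of_mem (one_mem _), ← Nat.card_coe_set_eq,
      show Nat.card (E : Set G) = 16 from hE16] at e
    exact ⟨3 * Nat.card (H ⊓ centralizer ({t} : Set G) : Subgroup G), by rw [← e]; ring⟩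
  -- the five four groups
  set F : Set (Subgroup G) := {W | ∃ a, orderOf a = 3 ∧ W = fourOf a ∧ W ≤ E} with hF
  have hFconj : ∀ g ∈ H, ∀ W ∈ F, W.map (MulAut.conj g).toMonoidHom ∈ F := by
    rintro g hg _ ⟨a, ha, rfl, hle⟩
    refine ⟨g * a * g⁻¹, by rw [orderOf_conj, ha], ?_, ?_⟩
    · ext v
      rw [h.mem_fourOf_conj ha, Subgroup.mem_map_equiv, MulAut.conj_symm_apply]
    · rintro _ ⟨u, hu, rfl⟩
      exact conj_mem_of_mem_normalizer hg (hle hu)
  have hFV : fourOf x ∈ F := ⟨x, hx, rfl, hVx⟩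
  have hFz : fourOf z ∈ F := ⟨z, pz.oy, rfl, hVz⟩
  have hVne : fourOf x ≠ fourOf z := fun e => hw01 (h.eq_one_of_mem_both pz (e ▸ hw0) hw0)
  have hF5 : F.ncard ≤ 5 := by
    have key : ∀ W : F, ∀ v : {v // v ∈ W.1 ∧ v ≠ 1}, v.1 ∈ E ∧ v.1 ≠ 1 := by
      rintro ⟨W, a, ha, rfl, hle⟩ ⟨v, hv, hv1⟩
      exact ⟨hle hv, hv1⟩
    have hinj : Function.Injective (fun q : Σ W : F, {v // v ∈ W.1 ∧ v ≠ 1} =>
        (⟨q.2.1, key q.1 q.2⟩ : {v // v ∈ E ∧ v ≠ 1})) := by
      rintro ⟨⟨W, a, ha, rfl, hle⟩, ⟨v, hv, hv1⟩⟩ ⟨⟨W', b, hb, rfl, hle'⟩, ⟨v', hv', hv1'⟩⟩ e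
      simp only [Subtype.mk.injEq] at e
      subst e
      have e2 := huniq a b v ha hb hv1 hv hv'
      exact Sigma.subtype_ext (Subtype.ext e2.symm) rfl
    have hle := Nat.card_le_card_of_injective _ hinj
    have := Fintype.ofFinite F
    have h3 : ∀ W : F, Nat.card {v // v ∈ W.1 ∧ v ≠ 1} = 3 := by
      rintro ⟨W, a, ha, rfl, hle⟩
      show Nat.card ({v : G | v ∈ fourOf a ∧ v ≠ 1} : Set G) = 3
      rw [Nat.card_coe_set_eq, show {v : G | v ∈ fourOf a ∧ v ≠ 1} = (fourOf a : Set G) \ {1} by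
        ext v; simp, Set.ncard_sdiff_singleton_of_mem (one_mem _), ← Nat.card_coe_set_eq]
      exact congrArg (· - 1) (h.card_fourOf ha)
    have h15 : Nat.card {v // v ∈ E ∧ v ≠ 1} = 15 := by
      show Nat.card ({v : G | v ∈ E ∧ v ≠ 1} : Set G) = 15
      rw [Nat.card_coe_set_eq, show {v : G | v ∈ E ∧ v ≠ 1} = (E : Set G) \ {1} by ext v; simp,
        Set.ncard_sdiff_singleton_of_mem (one_mem _), ← Nat.card_coe_set_eq]
      exact congrArg (· - 1) hE16
    rw [Nat.card_sigma, Finset.sum_congr rfl (fun W _ => h3 W), Finset.sum_const, Finset.card_univ,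
      smul_eq_mul, ← Nat.card_eq_fintype_card, Nat.card_coe_set_eq, h15] at hle
    omega
  set F' := F \ {fourOf x, fourOf z} with hF'
  have hF'3 : F'.ncard ≤ 3 := by
    rw [hF', Set.ncard_sdiff (by rintro W (rfl | rfl); exacts [hFV, hFz]) (Set.toFinite _),
      Set.ncard_pair hVne]
    omega
  let cj : G → Subgroup G → Subgroup G := fun g W => W.map (MulAut.conj g).toMonoidHom
  have cj_mul : ∀ g g' W, cj (g * g') W = cj g (cj g' W) := fun g g' W => by
    simp only [cj, Subgroup.map_map]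
    congr 1
    ext u
    simp [mul_assoc]
  have cj_one : ∀ W, cj 1 W = W := fun W => by
    ext u
    simp [cj, Subgroup.mem_map_equiv, MulAut.conj_symm_apply]
  have hspanF : ∀ g ∈ pairSpan p.comm, cj g (fourOf x) = fourOf x ∧ cj g (fourOf z) = fourOf z := by
    have aux : ∀ g c : G, orderOf c = 3 → Commute g c → cj g (fourOf c) = fourOf c := by
      intro g c hc hgc
      ext u
      simp only [cj, Subgroup.mem_map_equiv, MulAut.conj_symm_apply]
      rw [← h.mem_fourOf_conj hc g u, hgc.eq, mul_inv_cancel_right]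
    intro g hg
    refine ⟨aux g x hx (p.span_commute hg).1, aux g z pz.oy ?_⟩
    obtain ⟨i, j, e⟩ := hzP
    rw [e]
    exact ((p.span_commute hg).1.zpow_right i).mul_right ((p.span_commute hg).2.zpow_right j)
  have hF'inv : ∀ g ∈ pairSpan p.comm, ∀ W ∈ F', cj g W ∈ F' := by
    rintro g hg W ⟨hW, hW'⟩
    refine ⟨hFconj g (hspanH hg) W hW, fun hm => hW' ?_⟩
    have hback : cj g⁻¹ (cj g W) = W := by rw [← cj_mul, inv_mul_cancel, cj_one]
    rw [← hback]
    rcases hm with e | e <;> rw [e]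
    · exact Or.inl (hspanF _ (inv_mem hg)).1
    · exact Or.inr (hspanF _ (inv_mem hg)).2
  obtain ⟨g, hgP, hg1, hgF⟩ : ∃ g ∈ pairSpan p.comm, g ≠ 1 ∧ ∀ W ∈ F', cj g W = W := by
    by_cases hne : F'.Nonempty
    · obtain ⟨W3, hW3⟩ := hne
      have hnot : ¬ Function.Injective (fun q : pairSpan p.comm => (⟨cj q W3, hF'inv q q.2 W3 hW3⟩ : F')) := by
        intro hinj
        have := Nat.card_le_card_of_injective _ hinj
        rw [Nat.card_coe_set_eq] at this
        have := Nat.le_of_dvd Nat.card_pos (p.nine_dvd_span h)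
        omega
      rw [Function.not_injective_iff] at hnot
      obtain ⟨a, b, e, hab⟩ := hnot
      simp only [Subtype.mk.injEq] at e
      set g : G := (b : G)⁻¹ * a with hgdef
      have hgP : g ∈ pairSpan p.comm := mul_mem (inv_mem b.2) a.2
      have hg1 : g ≠ 1 := fun e1 => hab (Subtype.ext (by
        rw [hgdef, inv_mul_eq_one] at e1
        exact e1.symm))
      have hgW : cj g W3 = W3 := by rw [hgdef, cj_mul, e, ← cj_mul, inv_mul_cancel, cj_one]
      refine ⟨g, hgP, hg1, fun W hW => ?_⟩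
      by_cases e3 : W = W3
      · rw [e3]; exact hgW
      by_contra hmove
      have hg3 : g * (g * g) = 1 := by
        obtain ⟨i, j, e⟩ := hgP
        rw [e, ← mul_assoc]
        have h3 : (x ^ i * y ^ j) ^ 3 = 1 := by
          rw [(p.comm.zpow_zpow j i).symm.mul_pow, ← zpow_natCast, ← zpow_natCast, ← zpow_mul, ← zpow_mul,
            mul_comm i, mul_comm j, zpow_mul, zpow_mul, zpow_natCast, zpow_natCast,
            show x ^ 3 = 1 from hx ▸ pow_orderOf_eq_one x,
            show y ^ 3 = 1 from p.oy ▸ pow_orderOf_eq_one y, one_zpow, one_zpow, one_mul]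
        simpa [pow_succ] using h3
      have m1 := hF'inv g hgP W hW
      have m2 := hF'inv g hgP _ m1
      have hsub : ({W, cj g W, cj g (cj g W), W3} : Set (Subgroup G)) ⊆ F' := by
        rintro u (rfl | rfl | rfl | rfl)
        exacts [hW, m1, m2, hW3]
      have hback : cj g (cj g (cj g W)) = W := by rw [← cj_mul, ← cj_mul, mul_assoc, hg3, cj_one]
      have d12 : cj g (cj g W) ≠ cj g W := by
        intro e'
        refine hmove ?_
        have : cj g (cj g (cj g W)) = cj g (cj g W) := by rw [e', e']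
        rw [hback, e'] at this
        exact this.symm
      have d02 : cj g (cj g W) ≠ W := by
        intro e'
        refine hmove ?_
        rw [e'] at hback
        exact hback
      have hinjg : ∀ A B, cj g A = cj g B → A = B := fun A B hAB => by
        have := congrArg (cj g⁻¹) hAB
        rwa [← cj_mul, ← cj_mul, inv_mul_cancel, cj_one, cj_one] at this
      have e1 : cj g W ≠ W3 := fun e' => e3 (hinjg _ _ (e'.trans hgW.symm))
      have e2 : cj g (cj g W) ≠ W3 := fun e' => e1 (hinjg _ _ (e'.trans hgW.symm))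
      have := Set.ncard_le_ncard hsub (Set.toFinite _)
      rw [Set.ncard_insert_of_notMem (by simp [Ne.symm hmove, d02.symm, e3]) (Set.toFinite _),
        Set.ncard_insert_of_notMem (by simp [d12.symm, e1]) (Set.toFinite _),
        Set.ncard_pair e2] at this
      omega
    · exact ⟨x, p.left_mem_span, fun e => by rw [e, orderOf_one] at hx; omega,
        fun W hW => absurd ⟨W, hW⟩ hne⟩
  have hgall : ∀ W ∈ F, cj g W = W := by
    intro W hW
    by_cases hm : W ∈ ({fourOf x, fourOf z} : Set (Subgroup G))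
    · rcases hm with rfl | rfl
      exacts [(hspanF g hgP).1, (hspanF g hgP).2]
    · exact hgF W ⟨hW, hm⟩
  -- the kernel on the five four groups
  let K : Subgroup H :=
    { carrier := {k | ∀ W ∈ F, cj (k : G) W = W}
      one_mem' := fun W _ => cj_one W
      mul_mem' := fun {a b} ha hb W hW => by
        show cj ((a : G) * b) W = W
        rw [cj_mul, hb W hW, ha W hW]
      inv_mem' := fun {a} ha W hW => by
        show cj (a : G)⁻¹ W = W
        conv_lhs => rw [← ha W hW]
        rw [← cj_mul, inv_mul_cancel, cj_one] }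
  have hKn : K.Normal := ⟨fun k hk g' W hW => by
    show cj ((g' : G) * (k : G) * (g' : G)⁻¹) W = W
    rw [cj_mul, cj_mul, hk _ (hFconj _ (inv_mem g'.2) W hW), ← cj_mul, mul_inv_cancel, cj_one]⟩
  have hgK : (⟨g, hspanH hgP⟩ : H) ∈ K := hgall
  have hK5 : ¬ 5 ∣ Nat.card K := by
    intro hd
    obtain ⟨⟨⟨f, hfH⟩, hfK⟩, hfo⟩ := exists_prime_orderOf_dvd_card' 5 hd
    rw [Subgroup.orderOf_mk, Subgroup.orderOf_mk] at hfo
    have hfV : cj f (fourOf x) = fourOf x := hfK _ hFV
    obtain ⟨v, hv, hfv⟩ := exists_commute_of_not_dvd Nat.prime_five hfo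
      ((fourOf x : Set G) \ {1}) (by
        rintro a ⟨ha, ha1⟩
        refine ⟨?_, fun e => ha1 (by simpa using e)⟩
        show f * a * f⁻¹ ∈ fourOf x
        rw [← hfV]
        exact Subgroup.mem_map_of_mem _ ha) (by
        rw [Set.ncard_sdiff_singleton_of_mem (one_mem _), ← Nat.card_coe_set_eq,
          show Nat.card (fourOf x : Set G) = 4 from h.card_fourOf hx]
        norm_num)
    exact h.five_no_commute_two hfo hv.2 ((h.mem_fourOf hx).1 hv.1).2 hfv
  obtain ⟨Q⟩ := (inferInstance : Nonempty (Sylow 3 K))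
  have hfrat := Sylow.normalizer_sup_eq_top Q
  set Q' : Subgroup H := (Q : Subgroup K).map K.subtype with hQ'
  set NQ : Subgroup H := normalizer (Q' : Set H) with hNQ
  have hN5 : 5 ∣ Nat.card NQ := by
    have hsurj : Function.Surjective ((QuotientGroup.mk' K).comp NQ.subtype) := by
      intro q
      induction q using QuotientGroup.induction_on with
      | _ a =>
        have ha : a ∈ NQ ⊔ K := by rw [hfrat]; exact Subgroup.mem_top a
        obtain ⟨n, hn, k, hk, rfl⟩ := Subgroup.mem_sup_of_normal_right.1 ha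
        exact ⟨⟨n, hn⟩, (QuotientGroup.mk_mul_of_mem n hk).symm⟩
    have hd := Subgroup.card_dvd_of_surjective _ hsurj
    have := K.card_mul_index
    rw [Subgroup.index_eq_card] at this
    have h5 : 5 ∣ Nat.card (H ⧸ K) := by
      rw [← this] at h5H
      exact ((Nat.Prime.dvd_mul Nat.prime_five).1 h5H).resolve_left hK5
    exact h5.trans hd
  obtain ⟨⟨⟨f, hfH⟩, hfN⟩, hfo⟩ := exists_prime_orderOf_dvd_card' 5 hN5
  rw [Subgroup.orderOf_mk, Subgroup.orderOf_mk] at hfo
  set Q'' : Subgroup G := Q'.map H.subtype with hQ''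
  have hQp : IsPGroup 3 Q'' := (Q.isPGroup'.map _).map _
  obtain ⟨P, hP⟩ := hQp.exists_le_sylow
  have hQc : Nat.card Q'' ∣ 9 := h.card_sylow_three P ▸ Subgroup.card_dvd_of_le hP
  have hQ3 : 3 ∣ Nat.card Q'' := by
    rw [hQ'', Subgroup.card_map_of_injective H.subtype_injective, hQ',
      Subgroup.card_map_of_injective K.subtype_injective, Q.card_eq_multiplicity]
    have hgo : orderOf g = 3 := by
      obtain ⟨k, hk⟩ := IsPGroup.iff_orderOf.1 p.isPGroup_span ⟨g, hgP⟩
      rw [Subgroup.orderOf_mk] at hk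
      rcases k with _ | k
      · exact absurd (orderOf_eq_one_iff.1 (by simpa using hk)) hg1
      · have h9 := h.orderOf_mem g
        rw [hk] at h9
        rcases k with _ | k
        · simpa using hk
        · exfalso
          have : 9 ≤ 3 ^ (k + 2) := Nat.pow_le_pow_right (by norm_num : 1 ≤ 3) (by omega : 2 ≤ k + 2)
          have h3 : 3 ∣ 3 ^ (k + 2) := dvd_pow_self 3 (by omega)
          simp only [Finset.mem_insert, Finset.mem_singleton] at h9
          omega
    have h3K : 3 ∣ Nat.card K := by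
      have := Subgroup.orderOf_dvd_natCard K hgK
      rwa [Subgroup.orderOf_mk, hgo] at this
    exact dvd_pow_self 3 (Nat.Prime.factorization_pos_of_dvd Nat.prime_three Nat.card_pos.ne' h3K).ne'
  obtain ⟨a, ha, hfa⟩ := exists_commute_of_not_dvd Nat.prime_five hfo ((Q'' : Set G) \ {1}) (by
      rintro a ⟨⟨a', ha', rfl⟩, ha1⟩
      exact ⟨⟨_, (Subgroup.mem_normalizer_iff.1 hfN a').1 ha', rfl⟩,
        fun e => ha1 (by simpa using e)⟩) (by
      rw [Set.ncard_sdiff_singleton_of_mem (one_mem _), ← Nat.card_coe_set_eq]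
      show ¬ 5 ∣ Nat.card Q'' - 1
      rcases (Nat.dvd_prime_pow Nat.prime_three).1 (show Nat.card Q'' ∣ 3 ^ 2 by simpa using hQc) with
        ⟨k, hk, e⟩
      rw [e] at hQ3 ⊢
      interval_cases k <;> simp_all)
  have ha3 : orderOf a = 3 := h.orderOf_mem_sylow_three P (hP ha.1) ha.2
  exact h.five_no_commute hfo ha.2 (by rw [ha3]; norm_num) hfa

end Local

end CfsgLib.MathieuTwentyTwo.NseRoute
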