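import Cfsg.Agent.Lib.MathieuTwentyTwo.OneClass

/-!
The largest normal 2-subgroup of the centraliser of an involution has order 64.
-/

set_option autoImplicit false

namespace CfsgLib.MathieuTwentyTwo.NseRoute

open Subgroup CfsgLib.Recog.OrderCounts

universe u

variable {G : Type u} [Group G] [Finite G]

set_option synthInstance.maxSize 512 in
set_option maxRecDepth 8000 in
theorem fin_three_absorb : ∀ a b : Equiv.Perm (Fin 3), b * b * b = 1 → b ≠ 1 → a * a = 1 →
    a * (b * a * b⁻¹) * (a * (b * a * b⁻¹)) = 1 → a = 1 := by decide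

set_option maxRecDepth 8000 in
theorem fin_three_six : ∀ a : Equiv.Perm (Fin 3), a * a = 1 ∨ a * a * a = 1 := by decide

theorem fin_three_sq (a : Equiv.Perm (Fin 3)) (ha : a ^ 128 = 1) : a * a = 1 := by
  rcases fin_three_six a with h | h
  · exact h
  · have h3 : a ^ 3 = 1 := by rw [pow_three, ← mul_assoc, h]
    have h2 : a ^ 2 = 1 := by
      rw [← ha, show (128 : ℕ) = 3 * 42 + 2 from rfl, pow_add, pow_mul, h3, one_pow, one_mul]
    rwa [sq] at h2

/-- `R` is the largest normal 2-subgroup of the centraliser of `t`. -/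
structure IsCore (t : G) (R : Subgroup G) : Prop where
  le : R ≤ centralizer ({t} : Set G)
  card : Nat.card R = 64
  conj_mem : ∀ g ∈ centralizer ({t} : Set G), ∀ r ∈ R, g * r * g⁻¹ ∈ R
  absorb : ∀ z : G, orderOf z = 3 → Commute z t → ∀ B : Subgroup G,
    B ≤ centralizer ({t} : Set G) → IsPGroup 2 B → (∀ b ∈ B, z * b * z⁻¹ ∈ B) → B ≤ R
  sq_mem : ∀ g ∈ centralizer ({t} : Set G), g ^ 128 = 1 → g * g ∈ R

omit [Finite G] in
theorem IsCore.isPGroup {t : G} {R : Subgroup G} (hR : IsCore t R) : IsPGroup 2 R :=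
  IsPGroup.of_card (n := 6) (by rw [hR.card]; norm_num)

namespace Local

variable (h : Local G)
include h

theorem pow_eight_of_isPGroup {B : Subgroup G} (hB : IsPGroup 2 B) {b : G} (hb : b ∈ B) :
    b ^ 128 = 1 := by
  have : Fact (Nat.Prime 2) := ⟨Nat.prime_two⟩
  obtain ⟨k, hk⟩ := IsPGroup.iff_orderOf.1 hB ⟨b, hb⟩
  rw [Subgroup.orderOf_mk] at hk
  have hm := h.orderOf_mem b
  rw [hk] at hm
  rw [← orderOf_dvd_iff_pow_eq_one, hk]
  rcases k with _ | _ | _ | _ | _ | _ | _ | _ | k
  iterate 8 norm_num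
  exfalso
  have : 256 ≤ 2 ^ (k + 8) := Nat.pow_le_pow_right two_pos (by omega : 8 ≤ k + 8)
  simp only [Finset.mem_insert, Finset.mem_singleton] at hm
  omega

theorem mem_fourOf_of_commute {x b : G} (hx : orderOf x = 3) (hb : b ^ 128 = 1) (hc : Commute x b) :
    b ∈ fourOf x := by
  rw [h.mem_fourOf hx]
  refine ⟨hc, ?_⟩
  obtain ⟨k, hk, e⟩ := (Nat.dvd_prime_pow Nat.prime_two).1
    (show orderOf b ∣ 2 ^ 7 from orderOf_dvd_of_pow_eq_one hb)
  have hm := h.orderOf_mem (b * x)
  rw [hc.symm.orderOf_mul_eq_mul_orderOf_of_coprime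
    (by rw [e, hx]; exact Nat.Coprime.pow_left _ (by norm_num)), e, hx] at hm
  rw [← sq, ← orderOf_dvd_iff_pow_eq_one, e]
  interval_cases k <;> simp at hm ⊢

theorem fourOf_comm {x : G} (hx : orderOf x = 3) {a b : G} (ha : a ∈ fourOf x) (hb : b ∈ fourOf x) :
    Commute a b := by
  have e := ((h.mem_fourOf hx).1 (mul_mem ha hb)).2
  have ha2 := ((h.mem_fourOf hx).1 ha).2
  have hb2 := ((h.mem_fourOf hx).1 hb).2
  calc a * b = a * (a * b * (a * b)) * b := by rw [e]; group
    _ = a * a * (b * a) * (b * b) := by group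
    _ = b * a := by rw [ha2, hb2]; group

theorem mem_fourOf_of_involution {x t : G} (hx : orderOf x = 3) (ht : orderOf t = 2)
    (hc : Commute x t) : t ∈ fourOf x :=
  (h.mem_fourOf hx).2 ⟨hc, pow_two_eq_one_of_orderOf ht⟩

theorem isPGroup_fourOf {x : G} (hx : orderOf x = 3) : IsPGroup 2 (fourOf x) :=
  IsPGroup.of_card (n := 2) (by rw [h.card_fourOf hx]; norm_num)

theorem fourOf_le_centralizer {x t : G} (hx : orderOf x = 3) (ht : orderOf t = 2)
    (hc : Commute x t) : fourOf x ≤ centralizer ({t} : Set G) := fun _ hv =>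
  mem_centralizer_singleton_iff.2 (h.fourOf_comm hx hv (h.mem_fourOf_of_involution hx ht hc)).eq

theorem orderOf_ne_one_three {x : G} (hx : orderOf x = 3) : x ≠ 1 :=
  fun e => by rw [e, orderOf_one] at hx; omega

theorem ncard_three_commute {t : G} (ht : orderOf t = 2) :
    {z : G | orderOf z = 3 ∧ Commute z t}.ncard = 32 := by
  classical
  have hconj : ∀ s : {s : G // orderOf s = 2},
      Nat.card {z : G // orderOf z = 3 ∧ Commute z s.1} = Nat.card {z : G // orderOf z = 3 ∧ Commute z t} := by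
    intro s
    obtain ⟨g, hg⟩ := isConj_iff.1 (h.isConj_two s.2 ht)
    refine Nat.card_congr ((MulAut.conj g).toEquiv.subtypeEquiv fun z => ?_)
    show _ ↔ orderOf (g * z * g⁻¹) = 3 ∧ Commute (g * z * g⁻¹) t
    rw [orderOf_conj, ← hg, show Commute (g * z * g⁻¹) (g * s.1 * g⁻¹) ↔ Commute z s.1 from
      ⟨fun hc => by simpa [mul_assoc] using hc.map (MulAut.conj g⁻¹).toMonoidHom,
        fun hc => hc.map (MulAut.conj g).toMonoidHom⟩]
  have hswap : Nat.card (Σ s : {s : G // orderOf s = 2}, {z : G // orderOf z = 3 ∧ Commute z s.1}) =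
      36960 := by
    rw [← h.card_pairs]
    exact Nat.card_congr
      { toFun := fun p => ⟨⟨p.2.1, p.2.2.1⟩, ⟨p.1.1, p.1.2, p.2.2.2⟩⟩
        invFun := fun p => ⟨⟨p.2.1, p.2.2.1⟩, ⟨p.1.1, p.1.2, p.2.2.2⟩⟩
        left_inv := fun _ => rfl
        right_inv := fun _ => rfl }
  have := Fintype.ofFinite {s : G // orderOf s = 2}
  rw [Nat.card_sigma, Finset.sum_congr rfl (fun s _ => hconj s), Finset.sum_const, Finset.card_univ,
    smul_eq_mul, ← Nat.card_eq_fintype_card] at hswap
  have h2 : Nat.card {s : G // orderOf s = 2} = 1155 := h.cnt_two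
  rw [h2] at hswap
  show ({z : G | orderOf z = 3 ∧ Commute z t}).ncard = 32
  rw [← Nat.card_coe_set_eq]
  show Nat.card {z : G // orderOf z = 3 ∧ Commute z t} = 32
  omega

theorem no_normal_sylow {t x : G} (ht : orderOf t = 2) (hx : orderOf x = 3) (hc : Commute x t)
    : ∀ S : Subgroup (centralizer ({t} : Set G)), S.Normal → Nat.card S ≠ 128 := by
  have : Fact (Nat.Prime 2) := ⟨Nat.prime_two⟩
  set C := centralizer ({t} : Set G) with hC
  intro S hSn hS
  have hxC : x ∈ C := mem_centralizer_singleton_iff.2 hc.eq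
  set T := S.map C.subtype with hT
  have hTc : Nat.card T = 128 := by rw [hT, Subgroup.card_map_of_injective C.subtype_injective, hS]
  have hTn : ∀ g ∈ C, ∀ b ∈ T, g * b * g⁻¹ ∈ T := by
    rintro g hg _ ⟨b, hb, rfl⟩
    exact ⟨⟨g, hg⟩ * b * ⟨g, hg⟩⁻¹, hSn.conj_mem b hb ⟨g, hg⟩, rfl⟩
  have hTp : IsPGroup 2 T := IsPGroup.of_card (n := 7) (by rw [hTc]; norm_num)
  -- the four group lies in `T`
  have hVT : fourOf x ≤ T := by
    let V' : Subgroup C := (fourOf x).subgroupOf C
    have hV' : IsPGroup 2 V' :=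
      (h.isPGroup_fourOf hx).of_equiv (Subgroup.subgroupOfEquivOfLe (h.fourOf_le_centralizer hx ht hc)).symm
    have hSp : IsPGroup 2 S := IsPGroup.of_card (n := 7) (by rw [hS]; norm_num)
    obtain ⟨P, hP⟩ := (hV'.to_sup_of_normal_right hSp).exists_le_sylow
    have hPc : Nat.card (P : Subgroup C) = 128 := by
      rw [P.card_eq_multiplicity, h.card_centralizer_involution ht,
        show (384 : ℕ) = 2 ^ 7 * 3 by norm_num, Nat.factorization_mul_apply_of_coprime (by norm_num),
        Nat.Prime.factorization_pow Nat.prime_two, Finsupp.single_eq_same,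
        Nat.factorization_eq_zero_of_not_dvd (by norm_num)]
      norm_num
    have hSP : S = (P : Subgroup C) :=
      Subgroup.eq_of_le_of_card_ge (le_sup_right.trans hP) (by rw [hPc, hS])
    intro v hv
    exact ⟨⟨v, h.fourOf_le_centralizer hx ht hc hv⟩, hSP ▸ hP (le_sup_left (b := S) hv), rfl⟩
  obtain ⟨a, ⟨haT, haV⟩, hxa⟩ := exists_commute_of_not_dvd Nat.prime_three hx
    ((T : Set G) \ (fourOf x : Set G)) (by
      rintro a ⟨haT, haV⟩
      refine ⟨hTn x hxC a haT, fun hm => haV ?_⟩
      have e := ((h.mem_fourOf hx).1 hm).1.eq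
      have : x * a * x⁻¹ = a := by
        have := congrArg (fun w => x⁻¹ * w) e
        simp only [mul_assoc, inv_mul_cancel_left, inv_mul_cancel, mul_one] at this
        simpa [mul_assoc] using this
      rwa [this] at hm) (by
      rw [Set.ncard_diff hVT (Set.toFinite _), ← Nat.card_coe_set_eq, ← Nat.card_coe_set_eq]
      show ¬ 3 ∣ Nat.card T - Nat.card (fourOf x)
      rw [hTc, h.card_fourOf hx]; norm_num)
  exact haV (h.mem_fourOf_of_commute hx (h.pow_eight_of_isPGroup hTp haT) hxa)

theorem isCore_of_hom {t : G} : ∀ φ : centralizer ({t} : Set G) →* Equiv.Perm (Fin 3),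
    Nat.card φ.ker = 64 → IsCore t (φ.ker.map (centralizer ({t} : Set G)).subtype) := by
  set C := centralizer ({t} : Set G) with hC
  intro φ hker
  refine ⟨Subgroup.map_subtype_le _, ?_, ?_, ?_, ?_⟩
  · rw [Subgroup.card_map_of_injective C.subtype_injective, hker]
  · rintro g hg _ ⟨r, hr, rfl⟩
    exact ⟨⟨g, hg⟩ * r * ⟨g, hg⟩⁻¹, φ.normal_ker.conj_mem r hr ⟨g, hg⟩, rfl⟩
  · intro z hz hzt B hBC hB hnorm b hb
    have hzC : z ∈ C := mem_centralizer_singleton_iff.2 hzt.eq
    refine ⟨⟨b, hBC hb⟩, ?_, rfl⟩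
    show φ ⟨b, hBC hb⟩ = 1
    have h8 : ∀ c : C, (c : G) ∈ B → φ c * φ c = 1 := fun c hc => fin_three_sq _ (by
      rw [← map_pow, ← map_one φ]
      exact congrArg φ (Subtype.ext (h.pow_eight_of_isPGroup hB hc)))
    refine fin_three_absorb _ (φ ⟨z, hzC⟩) ?_ ?_ (h8 _ hb) ?_
    · rw [← map_mul, ← map_mul, ← map_one φ]
      refine congrArg φ (Subtype.ext ?_)
      show z * z * z = 1
      rw [← pow_orderOf_eq_one z, hz]; simp [pow_succ]
    · intro e1
      have hd : orderOf (⟨z, hzC⟩ : C) ∣ Nat.card φ.ker := Subgroup.orderOf_dvd_natCard _ e1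
      rw [Subgroup.orderOf_mk, hz, hker] at hd
      norm_num at hd
    · rw [← map_inv, ← map_mul, ← map_mul, ← map_mul]
      exact h8 (⟨b, hBC hb⟩ * (⟨z, hzC⟩ * ⟨b, hBC hb⟩ * ⟨z, hzC⟩⁻¹)) (mul_mem hb (hnorm b hb))
  · intro g hg h8
    refine ⟨⟨g, hg⟩ * ⟨g, hg⟩, ?_, rfl⟩
    show φ (⟨g, hg⟩ * ⟨g, hg⟩) = 1
    rw [map_mul]
    refine fin_three_sq _ ?_
    rw [← map_pow, ← map_one φ]
    exact congrArg φ (Subtype.ext h8)

theorem exists_core {t : G} (ht : orderOf t = 2) : ∃ R : Subgroup G, IsCore t R := by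
  classical
  have : Fact (Nat.Prime 2) := ⟨Nat.prime_two⟩
  obtain ⟨x, hx, hxt⟩ := h.exists_three_commute ht
  set C := centralizer ({t} : Set G) with hC
  have hCc : Nat.card C = 384 := h.card_centralizer_involution ht
  have hSc : ∀ P : Sylow 2 C, Nat.card (P : Subgroup C) = 128 := by
    intro P
    rw [P.card_eq_multiplicity, hCc,
      show (384 : ℕ) = 2 ^ 7 * 3 by norm_num, Nat.factorization_mul_apply_of_coprime (by norm_num),
      Nat.Prime.factorization_pow Nat.prime_two, Finsupp.single_eq_same,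
      Nat.factorization_eq_zero_of_not_dvd (by norm_num)]
    norm_num
  obtain ⟨P⟩ := (inferInstance : Nonempty (Sylow 2 C))
  have hidx : (P : Subgroup C).index = 3 := by
    have := (P : Subgroup C).card_mul_index
    rw [hSc, hCc] at this
    omega
  have hn : Nat.card (Sylow 2 C) = 3 := by
    have hd : Nat.card (Sylow 2 C) ∣ 3 := hidx ▸ P.card_dvd_index
    rcases (Nat.dvd_prime Nat.prime_three).1 hd with e | e
    · exfalso
      have : Subsingleton (Sylow 2 C) := Finite.card_le_one_iff_subsingleton.1 e.le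
      have hnor : (P : Subgroup C).Normal := P.normal_of_subsingleton
      exact h.no_normal_sylow ht hx hxt P hnor (hSc P)
    · exact e
  let e : Sylow 2 C ≃ Fin 3 := (Finite.equivFinOfCardEq hn)
  let φ : C →* Equiv.Perm (Fin 3) :=
    e.permCongrHom.toMonoidHom.comp (MulAction.toPermHom C (Sylow 2 C))
  have hrange : Nat.card φ.range = 6 := by
    have hd : Nat.card φ.range ∣ 6 := by
      have := φ.range.card_subgroup_dvd_card
      rwa [Nat.card_perm, Nat.card_fin] at this
    have h3 : 3 ∣ Nat.card φ.range := by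
      have htrans : MulAction.orbit C P = Set.univ := MulAction.orbit_eq_univ C P
      have horb : (MulAction.stabilizer C P).index = 3 := by
        rw [MulAction.index_stabilizer, htrans, Set.ncard_univ, hn]
      have hk : φ.ker ≤ MulAction.stabilizer C P := by
        intro g hg
        rw [MonoidHom.mem_ker] at hg
        have : MulAction.toPermHom C (Sylow 2 C) g = 1 := by
          apply e.permCongrHom.injective
          rw [map_one]; exact hg
        exact DFunLike.congr_fun this P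
      have := Subgroup.index_dvd_of_le hk
      rwa [horb, Subgroup.index_ker] at this
    obtain ⟨c, hc⟩ := h3
    rcases (show Nat.card φ.range = 3 ∨ Nat.card φ.range = 6 by
      have := Nat.le_of_dvd (by norm_num) hd
      have := Nat.card_pos (α := φ.range)
      omega) with e3 | e6
    · exfalso
      refine h.no_normal_sylow ht hx hxt φ.ker φ.normal_ker ?_
      have := φ.ker.card_mul_index
      rw [Subgroup.index_ker, e3, hCc] at this
      exact Nat.eq_of_mul_eq_mul_right (by norm_num : 0 < 3) (this.trans (by norm_num))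
    · exact e6
  have hker : Nat.card φ.ker = 64 := by
    have := φ.ker.card_mul_index
    rw [Subgroup.index_ker, hrange, hCc] at this
    omega
  exact ⟨_, h.isCore_of_hom φ hker⟩

end Local

end CfsgLib.MathieuTwentyTwo.NseRoute
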