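import Cfsg.Agent.Lib.MathieuTwentyTwo.Sixteen

/-!
Intersections of the normaliser of the elementary group of order 16 with its conjugates.
-/

set_option autoImplicit false

namespace CfsgLib.MathieuTwentyTwo.NseRoute

open Subgroup CfsgLib.Recog.OrderCounts

universe u

variable {G : Type u} [Group G] [Finite G]

omit [Finite G] in
theorem mem_map_conj {K : Subgroup G} {a g : G} :
    g ∈ K.map (MulAut.conj a).toMonoidHom ↔ a⁻¹ * g * a ∈ K := by
  rw [Subgroup.mem_map_equiv, MulAut.conj_symm_apply]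

/-- An abelian group of exponent two: an element of order two has at most the square of its fixed
points many elements. -/
theorem card_le_sq_fixed {A : Subgroup G} (hsq : ∀ v ∈ A, v * v = 1)
    (hcomm : ∀ v ∈ A, ∀ w ∈ A, Commute v w) {e : G} (he : e * e = 1)
    (hn : ∀ v ∈ A, e * v * e⁻¹ ∈ A) :
    Nat.card A ≤ Nat.card (A ⊓ centralizer ({e} : Set G) : Subgroup G) *
      Nat.card (A ⊓ centralizer ({e} : Set G) : Subgroup G) := by
  let δ : A →* A := MonoidHom.mk' (fun v => ⟨v.1 * (e * v.1 * e⁻¹), mul_mem v.2 (hn v.1 v.2)⟩)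
    (fun v w => Subtype.ext (by
      show v.1 * w.1 * (e * (v.1 * w.1) * e⁻¹) = v.1 * (e * v.1 * e⁻¹) * (w.1 * (e * w.1 * e⁻¹))
      calc v.1 * w.1 * (e * (v.1 * w.1) * e⁻¹) = v.1 * (w.1 * (e * v.1 * e⁻¹)) * (e * w.1 * e⁻¹) := by group
        _ = v.1 * ((e * v.1 * e⁻¹) * w.1) * (e * w.1 * e⁻¹) := by rw [(hcomm w.1 w.2 _ (hn v.1 v.2)).eq]
        _ = _ := by group))
  have hfix : ∀ v : A, Commute e (δ v).1 := by
    intro v
    show Commute e (v.1 * (e * v.1 * e⁻¹))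
    have hinv : e⁻¹ = e := inv_eq_of_mul_eq_one_right he
    have h1 : e * (v.1 * (e * v.1 * e⁻¹)) * e⁻¹ = (e * v.1 * e⁻¹) * v.1 := by
      calc e * (v.1 * (e * v.1 * e⁻¹)) * e⁻¹ = e * v.1 * e * v.1 * (e⁻¹ * e⁻¹) := by group
        _ = e * v.1 * e⁻¹ * v.1 := by rw [← mul_inv_rev, he, inv_one, mul_one, hinv]
    rw [(hcomm _ (hn v.1 v.2) v.1 v.2).eq] at h1
    exact mul_inv_eq_iff_eq_mul.1 h1
  have hker : Nat.card δ.ker ≤ Nat.card (A ⊓ centralizer ({e} : Set G) : Subgroup G) := by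
    refine Nat.card_le_card_of_injective (fun v => ⟨v.1.1, v.1.2, ?_⟩) (fun v w e' => by
      exact Subtype.ext (Subtype.ext (congrArg (fun q => q.val) e')))
    have hv : v.1.1 * (e * v.1.1 * e⁻¹) = 1 := congrArg Subtype.val v.2
    have : e * v.1.1 * e⁻¹ = v.1.1 := by
      rw [← inv_eq_of_mul_eq_one_right hv]
      exact inv_eq_of_mul_eq_one_right (hsq _ v.1.2)
    exact mem_centralizer_singleton_iff.2 (mul_inv_eq_iff_eq_mul.1 this).symm
  have hrange : Nat.card δ.range ≤ Nat.card (A ⊓ centralizer ({e} : Set G) : Subgroup G) := by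
    refine Nat.card_le_card_of_injective (fun v => ⟨v.1.1, v.1.2, ?_⟩) (fun v w e' => by
      exact Subtype.ext (Subtype.ext (congrArg (fun q => q.val) e')))
    obtain ⟨u, hu⟩ := v.2
    rw [← hu]
    exact mem_centralizer_singleton_iff.2 (hfix u).eq.symm
  rw [← δ.ker.card_mul_index, Subgroup.index_ker]
  exact Nat.mul_le_mul hker hrange

/-- The product of two subgroups fits into the group. -/
theorem card_mul_card_le (H K : Subgroup G) :
    Nat.card H * Nat.card K ≤ Nat.card G * Nat.card (H ⊓ K : Subgroup G) := by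
  set M := (H ⊓ K).subgroupOf H with hM
  have hinj : Function.Injective (fun q : (H ⧸ M) × K => ((q.1.out : H) : G) * (q.2 : G)) := by
    rintro ⟨q, k⟩ ⟨q', k'⟩ e
    simp only at e
    have hm : ((q'.out : H) : G)⁻¹ * (q.out : H) ∈ K := by
      have : ((q'.out : H) : G)⁻¹ * (q.out : H) = (k' : G) * (k : G)⁻¹ := by
        rw [inv_mul_eq_iff_eq_mul, ← mul_assoc, ← e, mul_inv_cancel_right]
      rw [this]
      exact mul_mem k'.2 (inv_mem k.2)
    have hq : q' = q := by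
      rw [← QuotientGroup.out_eq' q, ← QuotientGroup.out_eq' q', QuotientGroup.eq]
      exact Subgroup.mem_subgroupOf.2 ⟨H.mul_mem (H.inv_mem q'.out.2) q.out.2, hm⟩
    subst hq
    exact Prod.ext rfl (Subtype.ext (mul_left_cancel e))
  have hle := Nat.card_le_card_of_injective _ hinj
  rw [Nat.card_prod, ← Subgroup.index_eq_card] at hle
  have e := M.card_mul_index
  rw [Nat.card_congr (Subgroup.subgroupOfEquivOfLe (inf_le_left : H ⊓ K ≤ H)).toEquiv] at e
  calc Nat.card H * Nat.card K = Nat.card (H ⊓ K : Subgroup G) * (M.index * Nat.card K) := by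
        rw [← e]; ring
    _ ≤ Nat.card (H ⊓ K : Subgroup G) * Nat.card G := Nat.mul_le_mul_left _ hle
    _ = _ := mul_comm _ _

/-- A subgroup of the normaliser modulo a normalised subgroup. -/
theorem card_dvd_inf_mul (E M : Subgroup G) (hM : M ≤ normalizer (E : Set G)) :
    Nat.card M ∣ Nat.card (E ⊓ M : Subgroup G) *
      (Nat.card (normalizer (E : Set G)) / Nat.card E) := by
  set H := normalizer (E : Set G)
  let N : Subgroup H := E.subgroupOf H
  have : N.Normal := Subgroup.normal_in_normalizer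
  let f : M →* H ⧸ N := (QuotientGroup.mk' N).comp (Subgroup.inclusion hM)
  have hker : Nat.card f.ker = Nat.card (E ⊓ M : Subgroup G) := by
    have : f.ker = (E ⊓ M).subgroupOf M := by
      ext m
      rw [MonoidHom.mem_ker, Subgroup.mem_subgroupOf, Subgroup.mem_inf]
      show QuotientGroup.mk' N (Subgroup.inclusion hM m) = 1 ↔ _
      rw [QuotientGroup.mk'_apply, QuotientGroup.eq_one_iff]
      exact ⟨fun hh => ⟨hh, m.2⟩, fun hh => hh.1⟩
    rw [this, Nat.card_congr (Subgroup.subgroupOfEquivOfLe (inf_le_right : E ⊓ M ≤ M)).toEquiv]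
  have hidx : Nat.card (H ⧸ N) = Nat.card H / Nat.card E := by
    have e := N.card_mul_index
    rw [Nat.card_congr (Subgroup.subgroupOfEquivOfLe (Subgroup.le_normalizer : E ≤ H)).toEquiv] at e
    rw [← Subgroup.index_eq_card, ← e, Nat.mul_div_cancel_left _ Nat.card_pos]
  rw [← f.ker.card_mul_index, Subgroup.index_ker, hker, ← hidx]
  exact Nat.mul_dvd_mul_left _ (card_subgroup_dvd_card f.range)

/-- Counting the subgroups of order five of a subgroup. -/
theorem exists_mod_five {M : Subgroup G} {f : G} (hfM : f ∈ M) (hf : orderOf f = 5)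
    (hd : ¬ 5 * 5 ∣ Nat.card G) : ∃ n, n % 5 = 1 ∧
      Nat.card M = n * Nat.card (M ⊓ normalizer ((zpowers f : Subgroup G) : Set G) : Subgroup G) := by
  have : Fact (Nat.Prime 5) := ⟨Nat.prime_five⟩
  have hle : zpowers f ≤ M := zpowers_le.2 hfM
  have e := card_normalizer_zpowers (G := M) Nat.prime_five
    (fun h => hd (h.trans (card_subgroup_dvd_card M))) (y := ⟨f, hfM⟩) (by rw [Subgroup.orderOf_mk, hf])
  refine ⟨Nat.card (Sylow 5 M), ?_, ?_⟩
  · have := card_sylow_modEq_one 5 M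
    rw [Nat.ModEq] at this
    omega
  have hz : zpowers (⟨f, hfM⟩ : M) = (zpowers f).subgroupOf M := by
    ext m
    rw [Subgroup.mem_subgroupOf, Subgroup.mem_zpowers_iff, Subgroup.mem_zpowers_iff]
    exact exists_congr fun k => ⟨fun h => by rw [← h]; simp, fun h => Subtype.ext (by simpa using h)⟩
  rw [hz, ← Subgroup.subgroupOf_normalizer_eq hle] at e
  rw [← e]
  congr 1
  rw [← Nat.card_congr (Subgroup.subgroupOfEquivOfLe
    (inf_le_left : M ⊓ normalizer ((zpowers f : Subgroup G) : Set G) ≤ M)).toEquiv]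
  refine Nat.card_congr (Equiv.setCongr ?_)
  ext m
  simp [Subgroup.mem_subgroupOf]

theorem exists_conj_five {H : Subgroup G} (hd : ¬ 5 * 5 ∣ Nat.card G) {f f' : G} (hfH : f ∈ H)
    (hf : orderOf f = 5) (hfH' : f' ∈ H) (hf' : orderOf f' = 5) :
    ∃ k ∈ H, k * f' * k⁻¹ ∈ zpowers f := by
  have : Fact (Nat.Prime 5) := ⟨Nat.prime_five⟩
  have hd' : ¬ 5 * 5 ∣ Nat.card H := fun h => hd (h.trans (card_subgroup_dvd_card H))
  have key : ∀ (a : G) (ha : a ∈ H), orderOf a = 5 →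
      ∃ P : Sylow 5 H, (P : Subgroup H) = zpowers ⟨a, ha⟩ := by
    intro a ha hao
    have ho : orderOf (⟨a, ha⟩ : H) = 5 := by rw [Subgroup.orderOf_mk, hao]
    obtain ⟨P, hP⟩ := (IsPGroup.of_card (n := 1) (by rw [Nat.card_zpowers, ho, pow_one] :
      Nat.card (zpowers (⟨a, ha⟩ : H)) = 5 ^ 1)).exists_le_sylow
    exact ⟨P, (Subgroup.eq_of_le_of_card_ge hP (le_of_eq (by
      rw [Nat.card_zpowers, ho]
      exact card_sylow_eq_prime (ho ▸ orderOf_dvd_natCard _) hd' P))).symm⟩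
  obtain ⟨P, hP⟩ := key f hfH hf
  obtain ⟨P', hP'⟩ := key f' hfH' hf'
  obtain ⟨k, hk⟩ := MulAction.exists_smul_eq H P' P
  refine ⟨k, k.2, ?_⟩
  have hmem : k * ⟨f', hfH'⟩ * k⁻¹ ∈ (P : Subgroup H) := by
    rw [← hk, Sylow.coe_subgroup_smul]
    refine ⟨⟨f', hfH'⟩, ?_, rfl⟩
    show (⟨f', hfH'⟩ : H) ∈ (P' : Subgroup H)
    rw [hP']; exact mem_zpowers _
  rw [hP, Subgroup.mem_zpowers_iff] at hmem
  obtain ⟨i, hi⟩ := hmem
  exact Subgroup.mem_zpowers_iff.2 ⟨i, by simpa using congrArg Subtype.val hi⟩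

namespace Sixteen

variable (h : Local G) {t x : G} {R : Subgroup G} (S : Sixteen t x R)
include h S

theorem index_normalizer : (normalizer (eOf R x : Set G)).index = 77 := by
  have e := (normalizer (eOf R x : Set G)).card_mul_index
  rw [S.card_normalizer, h.card] at e
  omega

/-- Each involution lies in exactly one conjugate. -/
theorem mem_normalizer_of_conj {g e : G} (he : e ∈ eOf R x) (he1 : e ≠ 1)
    (hge : g * e * g⁻¹ ∈ eOf R x) : g ∈ normalizer (eOf R x : Set G) := by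
  classical
  set E := eOf R x
  set H := normalizer (E : Set G)
  let f : (G ⧸ H) × {e : G // e ∈ E ∧ e ≠ 1} → {s : G // orderOf s = 2} := fun q =>
    ⟨q.1.out * q.2.1 * q.1.out⁻¹, by rw [orderOf_conj, orderOf_eq_two (S.sq _ q.2.2.1) q.2.2.2]⟩
  have hne1 : ∀ {k a : G}, a ≠ 1 → k * a * k⁻¹ ≠ 1 := fun ha e => ha (by simpa using e)
  have hrep : ∀ k a : G, ∀ (ha : a ∈ E ∧ a ≠ 1),
      ∃ q : {e : G // e ∈ E ∧ e ≠ 1}, (f ((k : G ⧸ H), q)).1 = k * a * k⁻¹ := by
    intro k a ha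
    obtain ⟨⟨m, hm⟩, hk⟩ := QuotientGroup.mk_out_eq_mul H k
    refine ⟨⟨m⁻¹ * a * m⁻¹⁻¹, conj_mem_of_mem_normalizer (inv_mem hm) ha.1, hne1 ha.2⟩, ?_⟩
    show (k : G ⧸ H).out * (m⁻¹ * a * m⁻¹⁻¹) * (k : G ⧸ H).out⁻¹ = _
    rw [hk]; group
  have hsurj : Function.Surjective f := by
    rintro ⟨s, hs⟩
    obtain ⟨c, hc⟩ := isConj_iff.1 (h.isConj_two S.ht hs)
    obtain ⟨q, hq⟩ := hrep c t ⟨h.fourOf_le_eOf S.toSetting
      (h.mem_fourOf_of_involution S.hx S.ht S.hc), fun e => by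
        have := S.ht; rw [e, orderOf_one] at this; omega⟩
    exact ⟨(_, q), Subtype.ext (hq.trans hc)⟩
  have hcard : Nat.card ((G ⧸ H) × {e : G // e ∈ E ∧ e ≠ 1}) = Nat.card {s : G // orderOf s = 2} := by
    rw [Nat.card_prod, ← Subgroup.index_eq_card, S.index_normalizer h,
      show Nat.card {s : G // orderOf s = 2} = 1155 from h.cnt_two]
    have : Nat.card {e : G // e ∈ E ∧ e ≠ 1} = 15 := by
      show Nat.card ({v : G | v ∈ E ∧ v ≠ 1} : Set G) = 15
      rw [Nat.card_coe_set_eq, show {v : G | v ∈ E ∧ v ≠ 1} = (E : Set G) \ {1} by ext v; simp,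
        Set.ncard_sdiff_singleton_of_mem (one_mem _), ← Nat.card_coe_set_eq]
      exact congrArg (· - 1) S.card
    rw [this]
  have hinj := ((Nat.bijective_iff_surjective_and_card f).2 ⟨hsurj, hcard⟩).injective
  obtain ⟨q1, hq1⟩ := hrep g e ⟨he, he1⟩
  obtain ⟨q2, hq2⟩ := hrep 1 (g * e * g⁻¹) ⟨hge, hne1 he1⟩
  have hq := hinj (Subtype.ext (hq1.trans (by rw [hq2]; group)) : f (_, q1) = f (_, q2))
  have := QuotientGroup.eq.1 (congrArg Prod.fst hq)
  rw [mul_one] at this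
  exact inv_mem_iff.1 this

theorem centralizer_le {e : G} (he : e ∈ eOf R x) (he1 : e ≠ 1) :
    centralizer ({e} : Set G) ≤ normalizer (eOf R x : Set G) := fun g hg =>
  S.mem_normalizer_of_conj h he he1 (by
    rw [mem_centralizer_singleton_iff.1 hg, mul_inv_cancel_right]; exact he)

/-- 2-groups centralising a four group of the configuration lie in the elementary group. -/
theorem le_of_four {e z : G} (he : e ∈ eOf R x) (he1 : e ≠ 1) (hz : orderOf z = 3)
    (hez : e ∈ fourOf z) {B : Subgroup G} (hB : IsPGroup 2 B)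
    (hcent : ∀ v ∈ fourOf z, ∀ b ∈ B, Commute v b) (hn : z ∈ normalizer (B : Set G)) :
    B ≤ eOf R x := by
  obtain ⟨g, hg, hge⟩ := S.fused e he he1
  have hzt : Commute (g⁻¹ * z * g⁻¹⁻¹) t := by
    have := (((h.mem_fourOf hz).1 hez).1).map (MulAut.conj g⁻¹).toMonoidHom
    rw [← hge] at this
    simpa [mul_assoc] using this
  obtain ⟨r, hr, hrz⟩ := h.three_conj S.toSetting (z := g⁻¹ * z * g⁻¹⁻¹) (by rw [orderOf_conj, hz]) hzt
  have hrt : Commute r t := mem_centralizer_singleton_iff.1 (S.core.le hr)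
  set c := g * r with hc
  have hcH : c ∈ normalizer (eOf R x : Set G) :=
    mul_mem hg (S.le_normalizer (S.core.le hr))
  have hcz : z = c * x * c⁻¹ ∨ z = c * x⁻¹ * c⁻¹ := by
    rcases hrz with e' | e'
    · exact Or.inl (by
        calc z = g * (g⁻¹ * z * g⁻¹⁻¹) * g⁻¹ := by group
          _ = _ := by rw [e', hc]; group)
    · exact Or.inr (by
        calc z = g * (g⁻¹ * z * g⁻¹⁻¹) * g⁻¹ := by group
          _ = _ := by rw [e', hc]; group)
  have hV : ∀ v ∈ fourOf x, c * v * c⁻¹ ∈ fourOf z := by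
    intro v hv
    rcases hcz with e' | e' <;> rw [e', h.mem_fourOf_conj (by first | exact S.hx | (rw [orderOf_inv]; exact S.hx))] <;>
      rw [show c⁻¹ * (c * v * c⁻¹) * c = v by group]
    · exact hv
    · rwa [h.fourOf_inv S.hx]
  have hle := h.le_eOf S.toSetting (B := B.map (MulAut.conj c⁻¹).toMonoidHom) (hB.map _) (by
    rintro v hv _ ⟨b, hb, rfl⟩
    have := (hcent _ (hV v hv) b hb).map (MulAut.conj c⁻¹).toMonoidHom
    simpa [mul_assoc] using this) (by
    rintro _ ⟨b, hb, rfl⟩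
    have hcx : c * x * c⁻¹ ∈ normalizer (B : Set G) := by
      rcases hcz with e' | e'
      · exact e' ▸ hn
      · have hinv : c * x * c⁻¹ = z⁻¹ := by rw [e']; group
        rw [hinv]; exact inv_mem hn
    refine ⟨c * x * c⁻¹ * b * (c * x * c⁻¹)⁻¹, conj_mem_of_mem_normalizer hcx hb, ?_⟩
    show c⁻¹ * (c * x * c⁻¹ * b * (c * x * c⁻¹)⁻¹) * c⁻¹⁻¹ = x * (c⁻¹ * b * c⁻¹⁻¹) * x⁻¹
    group)
  intro b hb
  have := conj_mem_of_mem_normalizer hcH (hle (Subgroup.mem_map_of_mem _ hb))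
  simpa [mul_assoc] using this

/-- A Sylow 2-subgroup of the centraliser is not abelian modulo the elementary group. -/
theorem no_abelian_sylow (P : Subgroup G) (hPC : P ≤ centralizer ({t} : Set G))
    (hP : Nat.card P = 128) (hcomm : ∀ a ∈ P, ∀ b ∈ P, a * b * a⁻¹ * b⁻¹ ∈ eOf R x) : False := by
  have : Fact (Nat.Prime 2) := ⟨Nat.prime_two⟩
  have hPp : IsPGroup 2 P := IsPGroup.of_card (n := 7) (by rw [hP]; norm_num)
  have hn : P ≤ normalizer (R : Set G) := fun g hg =>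
    mem_normalizer_of_conj_mem fun r hr => S.core.conj_mem g (hPC hg) r hr
  have hRP : R ≤ P := by
    have hsup : IsPGroup 2 (R ⊔ P : Subgroup G) := S.core.isPGroup.to_sup_of_normal_left' hPp hn
    obtain ⟨k, hk⟩ := IsPGroup.iff_card.1 hsup
    have hd := Subgroup.card_dvd_of_le (sup_le S.core.le hPC)
    rw [hk, h.card_centralizer_involution S.ht, show (384 : ℕ) = 2 ^ 7 * 3 by norm_num] at hd
    have hd7 : 2 ^ k ∣ 2 ^ 7 := (Nat.Coprime.pow_left k (by norm_num : Nat.Coprime 2 3)).dvd_of_dvd_mul_right hd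
    have heq : P = R ⊔ P := Subgroup.eq_of_le_of_card_ge le_sup_right (by
      rw [hk, hP]; simpa using Nat.le_of_dvd (by norm_num) hd7)
    rw [heq]; exact le_sup_left
  obtain ⟨s, hsP, hsR⟩ : ∃ s ∈ P, s ∉ R := by
    by_contra hc
    push Not at hc
    have := Nat.le_of_dvd Nat.card_pos (Subgroup.card_dvd_of_le (fun a ha => hc a ha : P ≤ R))
    rw [hP, S.core.card] at this
    omega
  have hst : Commute s t := mem_centralizer_singleton_iff.1 (hPC hsP)
  obtain ⟨r, hr, e⟩ := h.three_conj S.toSetting (z := s * x * s⁻¹) (by rw [orderOf_conj, S.hx])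
    ((hst.mul_left S.hc).mul_left hst.inv_left)
  set n := r⁻¹ * s with hn'
  have hnP : n ∈ P := mul_mem (inv_mem (hRP hr)) hsP
  have hnR : n ∉ R := fun hm => hsR (by
    have := mul_mem hr hm
    rwa [hn', mul_inv_cancel_left] at this)
  have hnx : n * x * n⁻¹ = x⁻¹ := by
    have e0 : n * x * n⁻¹ = r⁻¹ * (s * x * s⁻¹) * r := by rw [hn']; group
    rcases e with e | e
    · exfalso
      have hx' : n * x * n⁻¹ = x := by rw [e0, e]; group
      exact hnR (h.fourOf_le_core S.toSetting (h.mem_fourOf_of_commute S.hx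
        (h.pow_eight_of_isPGroup hPp hnP) (mul_inv_eq_iff_eq_mul.1 hx').symm))
    · rw [e0, e]; group
  obtain ⟨ρ, hρ, hρE⟩ : ∃ ρ ∈ R, ρ ∉ eOf R x := by
    by_contra hc
    push Not at hc
    have := Nat.le_of_dvd Nat.card_pos (Subgroup.card_dvd_of_le (fun a ha => hc a ha : R ≤ eOf R x))
    rw [S.card, S.core.card] at this
    omega
  set E := eOf R x with hE
  have hxE := h.x_mem_normalizer_eOf S.toSetting
  have hxρ : x * ρ * x⁻¹ ∈ R := conj_mem_of_mem_normalizer S.toSetting.x_mem_normalizer hρ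
  set e1 := n * ρ * n⁻¹ * ρ⁻¹ with he1
  set e2 := n * (x * ρ * x⁻¹) * n⁻¹ * (x * ρ * x⁻¹)⁻¹ with he2
  have m1 : e1 ∈ E := hcomm n hnP ρ (hRP hρ)
  have m2 : e2 ∈ E := hcomm n hnP _ (hRP hxρ)
  have hcalc : n * (x * ρ * x⁻¹) * n⁻¹ = x⁻¹ * (n * ρ * n⁻¹) * x := by
    calc n * (x * ρ * x⁻¹) * n⁻¹ = (n * x * n⁻¹) * (n * ρ * n⁻¹) * (n * x * n⁻¹)⁻¹ := by group
      _ = _ := by rw [hnx, inv_inv]
  have hm : x⁻¹ * ρ * x * ρ⁻¹ ∈ E := by
    have hrel : e1 * ρ = x * e2 * (x * ρ * x⁻¹) * x⁻¹ := by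
      rw [he1, he2, hcalc]; group
    have hsq : x * x = x⁻¹ := eq_inv_of_mul_eq_one_left (mul_three_of S.hx)
    have : x⁻¹ * ρ * x * ρ⁻¹ = (x * e2 * x⁻¹)⁻¹ * e1 := by
      calc x⁻¹ * ρ * x * ρ⁻¹ = (x * x) * ρ * (x * x)⁻¹ * ρ⁻¹ := by rw [hsq]; group
        _ = (x * e2 * x⁻¹)⁻¹ * (x * e2 * (x * ρ * x⁻¹) * x⁻¹) * ρ⁻¹ := by group
        _ = (x * e2 * x⁻¹)⁻¹ * (e1 * ρ) * ρ⁻¹ := by rw [hrel]
        _ = _ := by group
    rw [this]
    exact mul_mem (inv_mem (conj_mem_of_mem_normalizer hxE m2)) m1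
  have hρn : ρ ∈ normalizer (E : Set G) := S.le_normalizer (S.core.le hρ)
  set A : Set G := {a | a ∈ R ∧ a * ρ⁻¹ ∈ E} with hA
  have hAc : A.ncard = 16 := by
    have : A = (fun a => a * ρ) '' (E : Set G) := by
      ext a
      constructor
      · rintro ⟨-, ha⟩; exact ⟨a * ρ⁻¹, ha, by simp⟩
      · rintro ⟨b, hb, rfl⟩
        exact ⟨mul_mem (mem_eOf.1 hb).1 hρ, by simpa using hb⟩
    rw [this, Set.ncard_image_of_injective _ (mul_left_injective ρ), ← Nat.card_coe_set_eq]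
    exact S.card
  obtain ⟨a, ⟨haR, haE⟩, hxa⟩ := exists_commute_of_not_dvd Nat.prime_three S.hx A (by
    rintro a ⟨haR, haE⟩
    refine ⟨conj_mem_of_mem_normalizer S.toSetting.x_mem_normalizer haR, ?_⟩
    have : x * a * x⁻¹ * ρ⁻¹ = (x * (a * ρ⁻¹) * x⁻¹) * (x * (x⁻¹ * ρ * x * ρ⁻¹)⁻¹ * x⁻¹) := by group
    rw [this]
    exact mul_mem (conj_mem_of_mem_normalizer hxE haE) (conj_mem_of_mem_normalizer hxE (inv_mem hm)))
    (by rw [hAc]; norm_num)
  refine hρE ?_
  have haE' : a ∈ E := h.fourOf_le_eOf S.toSetting (h.mem_fourOf_of_core S.toSetting haR hxa)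
  have : ρ = (a * ρ⁻¹)⁻¹ * a := by group
  rw [this]
  exact mul_mem (inv_mem haE) haE'

end Sixteen

end CfsgLib.MathieuTwentyTwo.NseRoute
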