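import Cfsg.Agent.Lib.MathieuTwentyTwo.Spectrum

/-!
The local data of the Mathieu group of degree twenty two from which the recognition works: the
files after this one use nothing else.
-/

set_option autoImplicit false

namespace CfsgLib.MathieuTwentyTwo.NseRoute

open Subgroup CfsgLib.Recog.OrderCounts

universe u

/-- Order, three class sizes, the small centralisers, and the element orders. -/
structure Local (G : Type u) [Group G] : Prop where
  card : Nat.card G = 443520
  cnt_two : cntOrd G 2 = 1155
  cnt_three : cntOrd G 3 = 12320
  cnt_six : cntOrd G 6 = 36960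
  centralizer_five : ∀ {y : G}, orderOf y = 5 → Nat.card (centralizer ({y} : Set G)) = 5
  centralizer_seven : ∀ {y : G}, orderOf y = 7 → Nat.card (centralizer ({y} : Set G)) = 7
  centralizer_eleven : ∀ {y : G}, orderOf y = 11 → Nat.card (centralizer ({y} : Set G)) = 11
  normalizer_five : ∀ {y : G}, orderOf y = 5 →
    Nat.card (normalizer ((zpowers y : Subgroup G) : Set G)) = 20
  orderOf_mem : ∀ g : G, orderOf g ∈ ({1, 2, 3, 4, 5, 6, 7, 8, 11, 16, 32, 64, 128} : Finset ℕ)
  exists_eight : ∃ g : G, orderOf g = 8
  isSimple : IsSimpleGroup G

/-- The value set of the counts gives the local data. -/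
theorem Nse.toLocal {G : Type u} [Group G] [Finite G] (h : Nse G) : Local G where
  card := h.card
  cnt_two := h.cnt_two
  cnt_three := h.cnt_three
  cnt_six := h.cnt_six.1
  centralizer_five := fun hy => h.centralizer_five hy
  centralizer_seven := fun hy => h.centralizer_seven hy
  centralizer_eleven := fun hy => h.centralizer_eleven hy
  normalizer_five := fun hy => h.normalizer_five hy
  orderOf_mem := fun g => by
    have := h.orderOf_mem g
    simp only [Finset.mem_insert, Finset.mem_singleton] at this ⊢
    omega
  isSimple := h.isSimple
  exists_eight := by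
    by_contra hc
    push Not at hc
    refine h.cnt_four_eight.1 ?_
    simp [cntOrd, hc]

end CfsgLib.MathieuTwentyTwo.NseRoute
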