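import Cfsg.Agent.Lib.MathieuTwentyTwo.LocalData
import Cfsg.Agent.Lib.MathieuTwentyTwo.Conj

/-!
Centralisers of elements of order three: one class, centraliser of order 36 with a four group.
-/

set_option autoImplicit false

namespace CfsgLib.MathieuTwentyTwo.NseRoute

open Subgroup CfsgLib.Recog.OrderCounts

universe u

variable {G : Type u} [Group G] [Finite G]

/-- The subgroup generated by the involutions of the centraliser. -/
def fourOf (x : G) : Subgroup G := closure {s | s ∈ centralizer ({x} : Set G) ∧ s * s = 1}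

namespace Local

variable (h : Local G)
include h

theorem orderOf_ne_mul {g : G} (k : ℕ) (hk : k ∉ ({1, 2, 3, 4, 5, 6, 7, 8, 11, 16, 32, 64, 128} : Finset ℕ)) :
    orderOf g ≠ k := fun e => hk (e ▸ h.orderOf_mem g)

theorem not_prime_dvd_card_centralizer {x : G} (hx : x ≠ 1) {p : ℕ} (hp : p = 5 ∨ p = 7 ∨ p = 11)
    (hxp : orderOf x ≠ p) : ¬ p ∣ Nat.card (centralizer ({x} : Set G)) := by
  intro hd
  have hpp : p.Prime := by rcases hp with rfl | rfl | rfl <;> norm_num
  have := Fact.mk hpp
  obtain ⟨⟨y, hy⟩, hyo⟩ := exists_prime_orderOf_dvd_card' p hd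
  rw [Subgroup.orderOf_mk] at hyo
  have hd' := orderOf_dvd_card_centralizer
    (show x ∈ centralizer ({y} : Set G) from
      mem_centralizer_singleton_iff.2 (mem_centralizer_singleton_iff.1 hy).symm)
  have hC : Nat.card (centralizer ({y} : Set G)) = p := by
    rcases hp with rfl | rfl | rfl
    · exact h.centralizer_five hyo
    · exact h.centralizer_seven hyo
    · exact h.centralizer_eleven hyo
  rw [hC] at hd'
  rcases (Nat.dvd_prime hpp).1 hd' with e | e
  · exact hx (orderOf_eq_one_iff.1 e)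
  · exact hxp e

theorem card_centralizer_dvd {x : G} (hx : x ≠ 1)
    (h5 : orderOf x ≠ 5) (h7 : orderOf x ≠ 7) (h11 : orderOf x ≠ 11) :
    Nat.card (centralizer ({x} : Set G)) ∣ 1152 := by
  have hd : Nat.card (centralizer ({x} : Set G)) ∣ 1152 * (5 * 7 * 11) := by
    rw [show 1152 * (5 * 7 * 11) = Nat.card G by rw [h.card]]
    exact card_subgroup_dvd_card _
  refine Nat.Coprime.dvd_of_dvd_mul_right ?_ hd
  exact (((Nat.Prime.coprime_iff_not_dvd (by norm_num)).2
    (h.not_prime_dvd_card_centralizer hx (by simp) h5)).symm.mul_right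
    ((Nat.Prime.coprime_iff_not_dvd (by norm_num)).2
      (h.not_prime_dvd_card_centralizer hx (by simp) h7)).symm).mul_right
    ((Nat.Prime.coprime_iff_not_dvd (by norm_num)).2
      (h.not_prime_dvd_card_centralizer hx (by simp) h11)).symm

theorem card_sylow_three (P : Sylow 3 G) : Nat.card (P : Subgroup G) = 9 := by
  rw [P.card_eq_multiplicity, h.card,
    show (443520 : ℕ) = 3 ^ 2 * 49280 by norm_num,
    Nat.factorization_mul_apply_of_coprime (by norm_num), Nat.Prime.factorization_pow Nat.prime_three,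
    Finsupp.single_eq_same, Nat.factorization_eq_zero_of_not_dvd (by norm_num)]
  norm_num

theorem commute_of_mem_sylow_three (P : Sylow 3 G) {a b : G} (ha : a ∈ (P : Subgroup G))
    (hb : b ∈ (P : Subgroup G)) : Commute a b := by
  have : Fact (Nat.Prime 3) := ⟨Nat.prime_three⟩
  have hcomm := IsPGroup.commutative_of_card_eq_prime_sq (p := 3) (G := (P : Subgroup G))
    (by rw [h.card_sylow_three P]; norm_num)
  exact congrArg Subtype.val (hcomm ⟨a, ha⟩ ⟨b, hb⟩)

theorem orderOf_mem_sylow_three (P : Sylow 3 G) {a : G} (ha : a ∈ (P : Subgroup G)) (ha1 : a ≠ 1) :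
    orderOf a = 3 := by
  have hd := Subgroup.orderOf_dvd_natCard _ ha
  rw [h.card_sylow_three P] at hd
  have h1 : orderOf a ≠ 1 := fun e => ha1 (orderOf_eq_one_iff.1 e)
  have h9 := h.orderOf_ne_mul (g := a) 9 (by decide)
  have := Nat.le_of_dvd (by norm_num) hd
  have := h.orderOf_mem a
  simp only [Finset.mem_insert, Finset.mem_singleton] at this
  rcases this with e | e | e | e | e | e | e | e | e | e | e | e | e
  all_goals (first | omega | (rw [e] at hd; norm_num at hd))

theorem nine_dvd_card_centralizer {x : G} (hx : orderOf x = 3) :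
    9 ∣ Nat.card (centralizer ({x} : Set G)) := by
  have : Fact (Nat.Prime 3) := ⟨Nat.prime_three⟩
  obtain ⟨P, hP⟩ := (IsPGroup.of_card (n := 1)
    (by rw [Nat.card_zpowers, hx, pow_one] : Nat.card (zpowers x) = 3 ^ 1)).exists_le_sylow
  rw [← h.card_sylow_three P]
  exact Subgroup.card_dvd_of_le fun a ha =>
    mem_centralizer_singleton_iff.2 (h.commute_of_mem_sylow_three P ha (hP (mem_zpowers x))).eq

theorem exists_card_centralizer_three {x : G} (hx : orderOf x = 3) :
    ∃ a, a ≤ 7 ∧ Nat.card (centralizer ({x} : Set G)) = 9 * 2 ^ a := by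
  obtain ⟨m, hm⟩ := h.nine_dvd_card_centralizer hx
  have hd := h.card_centralizer_dvd (x := x) (fun e => by rw [e, orderOf_one] at hx; omega)
    (by omega) (by omega) (by omega)
  rw [hm] at hd
  have hm2 : m ∣ 2 ^ 7 := Nat.dvd_of_mul_dvd_mul_left (k := 9) (by norm_num) (by simpa using hd)
  obtain ⟨a, ha, rfl⟩ := (Nat.dvd_prime_pow Nat.prime_two).1 hm2
  exact ⟨a, ha, hm⟩

theorem involutions_ge {x : G} (hx : orderOf x = 3) {a : ℕ}
    (ha : Nat.card (centralizer ({x} : Set G)) = 9 * 2 ^ a) :
    2 ^ a ≤ Nat.card {s : G // orderOf s = 2 ∧ Commute x s} + 1 := by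
  classical
  have : Fact (Nat.Prime 2) := ⟨Nat.prime_two⟩
  set C := centralizer ({x} : Set G) with hC
  obtain ⟨S, hS⟩ := Sylow.exists_subgroup_card_pow_prime 2
    (show 2 ^ a ∣ Nat.card C from ha ▸ dvd_mul_left _ _)
  have hprop : ∀ s : S, s ≠ 1 → orderOf ((s : C) : G) = 2 ∧ Commute x ((s : C) : G) := by
    intro s hs
    have hc : Commute ((s : C) : G) x := mem_centralizer_singleton_iff.1 (s : C).2
    refine ⟨?_, hc.symm⟩
    obtain ⟨j, hj⟩ := (IsPGroup.iff_orderOf.1 (IsPGroup.of_card hS)) s
    rw [Subgroup.orderOf_coe, Subgroup.orderOf_coe, hj]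
    rcases j with _ | _ | j
    · exact absurd (orderOf_eq_one_iff.1 (by simpa using hj)) hs
    · norm_num
    · exfalso
      have h12 : 12 ∣ orderOf (((s : C) : G) * x) := by
        rw [hc.orderOf_mul_eq_mul_orderOf_of_coprime
          (by rw [Subgroup.orderOf_coe, Subgroup.orderOf_coe, hj, hx]
              exact Nat.Coprime.pow_left _ (by norm_num)),
          Subgroup.orderOf_coe, Subgroup.orderOf_coe, hj, hx, pow_succ, pow_succ]
        exact ⟨2 ^ j, by ring⟩
      have := h.orderOf_mem (((s : C) : G) * x)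
      simp only [Finset.mem_insert, Finset.mem_singleton] at this
      have := Nat.le_of_dvd (orderOf_pos _) h12
      omega
  let f : S → Option {s : G // orderOf s = 2 ∧ Commute x s} := fun s =>
    if hs : s = 1 then none else some ⟨((s : C) : G), hprop s hs⟩
  have hf : Function.Injective f := by
    intro s t e
    by_cases hs : s = 1 <;> by_cases ht : t = 1 <;> simp [f, hs, ht] at e ⊢
    exact e
  have := Nat.card_le_card_of_injective f hf
  rwa [hS, Finite.card_option] at this

omit [Finite G] h in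
theorem pow_of_commute {x s : G} (hx : orderOf x = 3) (hs : orderOf s = 2) (hc : Commute x s) :
    (x * s) ^ 4 = x ∧ (x * s) ^ 3 = s := by
  have x3 : x ^ 3 = 1 := hx ▸ pow_orderOf_eq_one x
  have s2 : s ^ 2 = 1 := hs ▸ pow_orderOf_eq_one s
  constructor
  · rw [hc.mul_pow, show (4 : ℕ) = 3 + 1 by rfl, pow_succ, x3, one_mul,
      show (3 + 1 : ℕ) = 2 * 2 by rfl, pow_mul, s2, one_pow, mul_one]
  · rw [hc.mul_pow, x3, one_mul, show (3 : ℕ) = 2 + 1 by rfl, pow_succ, s2, one_mul]

/-- Elements of order six as pairs. -/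
theorem card_pairs : Nat.card (Σ x : {x : G // orderOf x = 3},
    {s : G // orderOf s = 2 ∧ Commute x.1 s}) = 36960 := by
  rw [← h.cnt_six, cntOrd]
  refine Nat.card_congr
    { toFun := fun p => ⟨p.1.1 * p.2.1, by
        rw [p.2.2.2.orderOf_mul_eq_mul_orderOf_of_coprime (by rw [p.1.2, p.2.2.1]; norm_num),
          p.1.2, p.2.2.1]⟩
      invFun := fun g => ⟨⟨g.1 ^ 4, by
          rw [orderOf_pow, g.2]; rfl⟩, ⟨g.1 ^ 3, by rw [orderOf_pow, g.2]; rfl,
          ((Commute.refl g.1).pow_left 4).pow_right 3⟩⟩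
      left_inv := ?_
      right_inv := ?_ }
  · rintro ⟨⟨x, hx⟩, ⟨s, hs, hc⟩⟩
    obtain ⟨e1, e2⟩ := pow_of_commute hx hs hc
    exact Sigma.subtype_ext (Subtype.ext e1) e2
  · rintro ⟨g, hg⟩
    refine Subtype.ext ?_
    show g ^ 4 * g ^ 3 = g
    rw [← pow_add, show 4 + 3 = orderOf g + 1 by rw [hg], pow_succ, pow_orderOf_eq_one, one_mul]

theorem three_summary :
    (∀ x y : G, orderOf x = 3 → orderOf y = 3 → IsConj x y) ∧
    (∀ x : G, orderOf x = 3 → Nat.card (centralizer ({x} : Set G)) = 36 ∧
      Nat.card {s : G // orderOf s = 2 ∧ Commute x s} = 3) := by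
  classical
  have := Fintype.ofFinite G
  let I : G → ℕ := fun x => Nat.card {s : G // orderOf s = 2 ∧ Commute x s}
  let X : Finset G := Finset.univ.filter fun x : G => orderOf x = 3
  have hX : ∀ x, x ∈ X ↔ orderOf x = 3 := fun x => by simp [X]
  have hcard : X.card = 12320 := by
    rw [← h.cnt_three, cntOrd, Nat.card_eq_fintype_card, Fintype.card_subtype]
  have hI : ∑ x ∈ X, I x = 36960 := by
    rw [← h.card_pairs, Nat.card_sigma,
      Finset.sum_subtype X hX I]
  have hle : ∀ x ∈ X, Nat.card (centralizer ({x} : Set G)) ≤ 9 * (I x + 1) := by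
    intro x hx
    obtain ⟨a, -, ha⟩ := h.exists_card_centralizer_three ((hX x).1 hx)
    rw [ha]
    exact Nat.mul_le_mul_left 9 (h.involutions_ge ((hX x).1 hx) ha)
  have hsum : ∑ x ∈ X, 9 * (I x + 1) = 443520 := by
    rw [← Finset.mul_sum, Finset.sum_add_distrib, hI, Finset.sum_const, hcard]
    norm_num
  have hcls : ∀ x, orderOf x = 3 →
      ∑ y ∈ CfsgLib.ClassCount.cls x, Nat.card (centralizer ({y} : Set G)) = 443520 := by
    intro x _
    rw [Finset.sum_const_nat fun y hy => ?_, CfsgLib.ClassCount.card_cls, ← h.card,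
      Subgroup.index_mul_card]
    obtain ⟨g, rfl⟩ := isConj_iff.1 (CfsgLib.ClassCount.mem_cls.1 hy)
    exact card_centralizer_conj g x
  have hsub : ∀ x, orderOf x = 3 → CfsgLib.ClassCount.cls x ⊆ X := by
    intro x hx y hy
    obtain ⟨g, rfl⟩ := isConj_iff.1 (CfsgLib.ClassCount.mem_cls.1 hy)
    exact (hX _).2 (by rw [orderOf_conj, hx])
  have hone : ∀ x y : G, orderOf x = 3 → orderOf y = 3 → IsConj x y := by
    intro x y hx hy
    by_contra hne
    have hdis : Disjoint (CfsgLib.ClassCount.cls x) (CfsgLib.ClassCount.cls y) :=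
      Finset.disjoint_left.2 fun z hz hz' => hne
        ((CfsgLib.ClassCount.mem_cls.1 hz).trans (CfsgLib.ClassCount.mem_cls.1 hz').symm)
    have := Finset.sum_le_sum_of_subset (f := fun y : G => Nat.card (centralizer ({y} : Set G)))
      (Finset.union_subset (hsub x hx) (hsub y hy))
    rw [Finset.sum_union hdis, hcls x hx, hcls y hy] at this
    have := this.trans ((Finset.sum_le_sum hle).trans hsum.le)
    omega
  refine ⟨hone, fun x hx => ?_⟩
  have hXc : CfsgLib.ClassCount.cls x = X := Finset.Subset.antisymm (hsub x hx) fun y hy =>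
    CfsgLib.ClassCount.mem_cls.2 (hone x y hx ((hX y).1 hy))
  have hC : Nat.card (centralizer ({x} : Set G)) = 36 := by
    have e := CfsgLib.ClassCount.card_cls x
    rw [hXc, hcard] at e
    have e' := Subgroup.index_mul_card (centralizer ({x} : Set G))
    rw [← e, h.card] at e'
    omega
  refine ⟨hC, ?_⟩
  have heq := (Finset.sum_eq_sum_iff_of_le hle).1 (by
    rw [hsum, ← hXc]; exact hcls x hx) x ((hX x).2 hx)
  rw [hC] at heq
  show I x = 3
  omega

theorem isConj_three {x y : G} (hx : orderOf x = 3) (hy : orderOf y = 3) : IsConj x y :=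
  h.three_summary.1 x y hx hy

theorem card_centralizer_three {x : G} (hx : orderOf x = 3) :
    Nat.card (centralizer ({x} : Set G)) = 36 := (h.three_summary.2 x hx).1

theorem ncard_involutions_three {x : G} (hx : orderOf x = 3) :
    {s : G | orderOf s = 2 ∧ Commute x s}.ncard = 3 := by
  rw [← Nat.card_coe_set_eq]; exact (h.three_summary.2 x hx).2

theorem fourOf_spec {x : G} (hx : orderOf x = 3) :
    (∀ s, s ∈ fourOf x ↔ s ∈ centralizer ({x} : Set G) ∧ s * s = 1) ∧
      Nat.card (fourOf x) = 4 := by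
  classical
  have : Fact (Nat.Prime 2) := ⟨Nat.prime_two⟩
  set C := centralizer ({x} : Set G)
  obtain ⟨S, hS⟩ := Sylow.exists_subgroup_card_pow_prime (G := C) 2 (n := 2)
    (by rw [h.card_centralizer_three hx]; norm_num)
  set V := S.map C.subtype with hV
  have hVc : Nat.card V = 4 := by
    rw [hV, Subgroup.card_map_of_injective C.subtype_injective, hS]; norm_num
  have hVC : V ≤ C := Subgroup.map_subtype_le S
  have hsub : (V : Set G) ⊆ {s | s ∈ C ∧ s * s = 1} := by
    intro s hs
    refine ⟨hVC hs, ?_⟩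
    have hd := Subgroup.orderOf_dvd_natCard _ hs
    rw [hVc] at hd
    have := Nat.le_of_dvd (by norm_num) hd
    have hne : orderOf s ≠ 4 := by
      intro e
      have hc : Commute s x := mem_centralizer_singleton_iff.1 (hVC hs)
      refine h.orderOf_ne_mul (g := s * x) 12 (by decide) ?_
      rw [hc.orderOf_mul_eq_mul_orderOf_of_coprime (by rw [e, hx]; norm_num), e, hx]
    have hpos := orderOf_pos s
    rcases (show orderOf s = 1 ∨ orderOf s = 2 by
      rcases (Nat.dvd_prime_pow Nat.prime_two).1 (show orderOf s ∣ 2 ^ 2 by simpa using hd) with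
        ⟨j, hj, ej⟩
      interval_cases j <;> omega) with e | e
    · rw [orderOf_eq_one_iff.1 e, one_mul]
    · exact pow_two_eq_one_of_orderOf e
  have hset : (V : Set G) = {s | s ∈ C ∧ s * s = 1} := by
    refine Set.eq_of_subset_of_ncard_le hsub ?_ (Set.toFinite _)
    have : {s : G | s ∈ C ∧ s * s = 1} = insert 1 {s : G | orderOf s = 2 ∧ Commute x s} := by
      ext s
      simp only [Set.mem_ofPred_eq, Set.mem_insert_iff]
      constructor
      · rintro ⟨hs, hs2⟩
        by_cases h1 : s = 1
        · exact Or.inl h1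
        · exact Or.inr ⟨orderOf_eq_two hs2 h1, (mem_centralizer_singleton_iff.1 hs).symm⟩
      · rintro (rfl | ⟨hs, hc⟩)
        · exact ⟨one_mem _, one_mul 1⟩
        · exact ⟨mem_centralizer_singleton_iff.2 hc.eq.symm, pow_two_eq_one_of_orderOf hs⟩
    rw [this, Set.ncard_insert_of_notMem (by simp) (Set.toFinite _), h.ncard_involutions_three hx,
      ← Nat.card_coe_set_eq]
    exact hVc.ge
  have hfour : fourOf x = V := le_antisymm
    (Subgroup.closure_le _ |>.2 (fun s hs => hset ▸ hs))
    (fun s hs => Subgroup.subset_closure (hsub hs))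
  rw [hfour]
  exact ⟨fun s => Set.ext_iff.1 hset s, hVc⟩

theorem mem_fourOf {x : G} (hx : orderOf x = 3) {s : G} :
    s ∈ fourOf x ↔ Commute x s ∧ s * s = 1 := by
  rw [(h.fourOf_spec hx).1, mem_centralizer_singleton_iff]
  exact and_congr_left fun _ => eq_comm

theorem card_fourOf {x : G} (hx : orderOf x = 3) : Nat.card (fourOf x) = 4 := (h.fourOf_spec hx).2

end Local

end CfsgLib.MathieuTwentyTwo.NseRoute
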