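import Cfsg.Agent.Lib.MathieuBlocks.M22
import Cfsg.Agent.Lib.MathieuTwentyTwo.ModelData

/-!
Boolean checks on image lists for the model.
-/

set_option autoImplicit false
set_option maxRecDepth 100000

namespace CfsgLib.MathieuTwentyTwo.Model

open Cfsg CfsgLib.Golay CfsgLib.FusionMathieu CfsgLib.MathieuBlocks CfsgLib.MathieuBlocks.Data

/-- Admissible images for an element centralising `lx` and fixing the two distinguished points. -/
def okFix (lx : List ℕ) (h y : ℕ) : Bool :=
  okT lx h y && ((Nat.beq h 0 || Nat.beq h 23) == (Nat.beq y 0 || Nat.beq y 23)) &&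
    (!(Nat.beq h 0 || Nat.beq h 23) || Nat.beq y h)

/-- The centraliser list of the involution. -/
def zList : List (List ℕ) :=
  zBlock0 ++ (zBlock1 ++ (zBlock2 ++ (zBlock3 ++ (zBlock4 ++ (zBlock5 ++ (zBlock6 ++ zBlock7))))))

/-- Iterated image of a position. -/
def iterP (l : List ℕ) : ℕ → ℕ → ℕ
  | 0, i => i
  | k + 1, i => iterP l k (l.getD i 0)

/-- The power `l ^ k` is `m`. -/
def powIs (l : List ℕ) (k : ℕ) (m : List ℕ) : Bool :=
  (List.range 24).all fun i => Nat.beq (iterP l k i) (m.getD i 0)

/-- The exact order of an image list is `n`. -/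
def hasOrd (l : List ℕ) (n : ℕ) : Bool :=
  (List.range 24).all (fun i => Nat.beq (iterP l n i) i) &&
    (List.range n).all fun k => Nat.beq k 0 ||
      (List.range 24).any fun i => !(Nat.beq (iterP l k i) i)

/-- The lists are elements of the group commuting with `x`. -/
def commOK (x : List ℕ) (E : List (List ℕ)) : Bool :=
  E.all fun l => valid l && inG22 l &&
    (List.range 24).all fun i => Nat.beq (l.getD (x.getD i 0) 0) (x.getD (l.getD i 0) 0)

/-- A key separating elements. -/
def key (l : List ℕ) : ℕ := l.foldl (fun a i => a * 24 + i) 0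

end CfsgLib.MathieuTwentyTwo.Model
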