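import Cfsg.Agent.Lib.MathieuTwentyTwo.ModelDefs

/-!
Reading centralisers, powers and orders off image lists.
-/

set_option autoImplicit false

namespace CfsgLib.MathieuTwentyTwo.Model

open Cfsg CfsgLib.Golay CfsgLib.FusionMathieu CfsgLib.MathieuBlocks CfsgLib.Schur.GolaySearch

theorem toList_ext {σ τ : Equiv.Perm GolayPt}
    (h : ∀ i < 24, (toList σ).getD i 0 = (toList τ).getD i 0) : σ = τ := by
  apply toList_injective
  refine List.ext_getElem (by rw [toList_length, toList_length]) fun i h1 h2 => ?_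
  rw [← List.getD_eq_getElem _ 0 h1, ← List.getD_eq_getElem _ 0 h2]
  exact h i (by rwa [toList_length] at h1)

theorem iterP_toList (σ : Equiv.Perm GolayPt) : ∀ (k i : ℕ), i < 24 →
    iterP (toList σ) k i = (toList (σ ^ k)).getD i 0
  | 0, i, hi => by rw [pow_zero, getD_one hi]; rfl
  | k + 1, i, hi => by
    rw [iterP, iterP_toList σ k _ (toList_lt σ hi), pow_succ, getD_toList_mul _ _ hi]

theorem powIs_iff {σ τ : Equiv.Perm GolayPt} {k : ℕ} :
    powIs (toList σ) k (toList τ) = true ↔ σ ^ k = τ := by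
  simp only [powIs, List.all_eq_true, List.mem_range, Nat.beq_eq]
  refine ⟨fun h => toList_ext fun i hi => ?_, fun h i hi => ?_⟩
  · rw [← iterP_toList σ k i hi]; exact h i hi
  · rw [iterP_toList σ k i hi, h]

theorem hasOrd_iff {σ : Equiv.Perm GolayPt} {n : ℕ} (hn : 0 < n) :
    hasOrd (toList σ) n = true ↔ orderOf σ = n := by
  have key : ∀ k, (∀ i < 24, iterP (toList σ) k i = i) ↔ σ ^ k = 1 := fun k => by
    refine ⟨fun h => toList_ext fun i hi => ?_, fun h i hi => ?_⟩
    · rw [← iterP_toList σ k i hi, h i hi, getD_one hi]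
    · rw [iterP_toList σ k i hi, h, getD_one hi]
  rw [orderOf_eq_iff hn]
  simp only [hasOrd, Bool.and_eq_true, List.all_eq_true, List.any_eq_true, List.mem_range, Nat.beq_eq,
    Bool.or_eq_true, Bool.not_eq_true', Bool.eq_false_iff, ne_eq]
  constructor
  · rintro ⟨h1, h2⟩
    refine ⟨(key n).1 h1, fun k hk hk0 e => ?_⟩
    rcases h2 k hk with e0 | ⟨i, hi, hne⟩
    · omega
    · exact hne ((key k).2 e i hi)
  · rintro ⟨h1, h2⟩
    refine ⟨(key n).2 h1, fun k hk => ?_⟩
    by_cases hk0 : k = 0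
    · exact Or.inl hk0
    · refine Or.inr ?_
      by_contra hc
      push Not at hc
      exact h2 k hk (Nat.pos_of_ne_zero hk0) ((key k).1 hc)

theorem hasOrd_coe {g : Cfsg.Spor.M22} {n : ℕ} (hn : 0 < n) :
    hasOrd (toList g.1) n = true ↔ orderOf g = n := by
  rw [hasOrd_iff hn, Subgroup.orderOf_coe]

theorem powIs_coe {g u : Cfsg.Spor.M22} {k : ℕ} :
    powIs (toList g.1) k (toList u.1) = true ↔ g ^ k = u := by
  rw [powIs_iff, ← Subgroup.coe_pow]
  exact Subtype.ext_iff.symm

/-- The centraliser of an element fixing the two points, from a search. -/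
theorem natCard_centralizer_okFix (y : Cfsg.Spor.M22) {ss : List Stage}
    (hst : stagesOK (toList y.1) 0 ss = true) (hcand : candOK (okFix (toList y.1)) ss = true)
    (hnd : (cosearch inG22 (toList y.1) ss).Nodup) :
    Nat.card (Subgroup.centralizer ({y} : Set Cfsg.Spor.M22)) =
      (cosearch inG22 (toList y.1) ss).length := by
  refine natCard_centralizer_of_list Twenty22.tested y _ hst hcand ?_ hnd
  intro σ hσ hσc i hi
  have hin := (mem_M22_iff σ).mp hσ
  simp only [inG22, inG23, Bool.and_eq_true, Nat.beq_eq] at hin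
  have hh : ∀ j < 24, (toList σ).getD j 0 = j →
      Nat.beq ((toList σ).getD i 0) j = Nat.beq i j := fun j hj hfix => by
    rw [Bool.eq_iff_iff, Nat.beq_eq, Nat.beq_eq]
    exact ⟨fun e => toList_inj σ hi hj (e.trans hfix.symm), fun e => e ▸ hfix⟩
  rw [okFix, okT_of_comm hσc hi, hh 0 (by norm_num) hin.2, hh 23 (by norm_num) hin.1.2,
    Bool.true_and, beq_self_eq_true, Bool.true_and, Bool.or_eq_true]
  by_cases hi' : i = 0 ∨ i = 23
  · right
    rcases hi' with rfl | rfl
    · rw [hin.2]; rfl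
    · rw [hin.1.2]; rfl
  · left
    push Not at hi'
    have e0 : Nat.beq i 0 = false := Bool.eq_false_iff.mpr fun e => hi'.1 (Nat.eq_of_beq_eq_true e)
    have e23 : Nat.beq i 23 = false := Bool.eq_false_iff.mpr fun e => hi'.2 (Nat.eq_of_beq_eq_true e)
    rw [e0, e23]; rfl

/-- A duplicate free list of commuting elements bounds the centraliser from below. -/
theorem list_subset {z : Cfsg.Spor.M22} {E : List (List ℕ)} (hE : commOK (toList z.1) E = true) :
    {l | l ∈ E} ⊆ (fun g : Cfsg.Spor.M22 => toList g.1) ''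
      (Subgroup.centralizer ({z} : Set Cfsg.Spor.M22) : Set Cfsg.Spor.M22) := by
  intro l hl
  simp only [commOK, List.all_eq_true, Bool.and_eq_true, List.mem_range, Nat.beq_eq] at hE
  obtain ⟨⟨hv, hin⟩, hc⟩ := hE l hl
  obtain ⟨σ, rfl⟩ := exists_perm_of_valid hv
  refine ⟨⟨σ, (mem_M22_iff σ).mpr hin⟩, Subgroup.mem_centralizer_singleton_iff.mpr (Subtype.ext ?_), rfl⟩
  refine toList_ext fun i hi => ?_
  show (toList (σ * z.1)).getD i 0 = (toList (z.1 * σ)).getD i 0
  rw [getD_toList_mul _ _ hi, getD_toList_mul _ _ hi]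
  exact hc i hi

theorem ncard_toList (s : Set Cfsg.Spor.M22) :
    ((fun g : Cfsg.Spor.M22 => toList g.1) '' s).ncard = s.ncard :=
  Set.ncard_image_of_injective _ fun _ _ e => Subtype.ext (toList_injective e)

theorem ncard_list {E : List (List ℕ)} (h : (E.map key).Nodup) : {l | l ∈ E}.ncard = E.length := by
  rw [← List.coe_toFinset, Set.ncard_coe_finset, List.toFinset_card_of_nodup (List.Nodup.of_map _ h)]

theorem length_le {z : Cfsg.Spor.M22} {E : List (List ℕ)} (hE : commOK (toList z.1) E = true)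
    (hnd : (E.map key).Nodup) :
    E.length ≤ Nat.card (Subgroup.centralizer ({z} : Set Cfsg.Spor.M22)) := by
  have h := Set.ncard_le_ncard (list_subset hE) (Set.toFinite _)
  rwa [ncard_list hnd, ncard_toList, ← Nat.card_coe_set_eq] at h

theorem mem_list_iff {z : Cfsg.Spor.M22} {E : List (List ℕ)} (hE : commOK (toList z.1) E = true)
    (hnd : (E.map key).Nodup)
    (hcard : Nat.card (Subgroup.centralizer ({z} : Set Cfsg.Spor.M22)) ≤ E.length) (g : Cfsg.Spor.M22) :
    g ∈ Subgroup.centralizer ({z} : Set Cfsg.Spor.M22) ↔ toList g.1 ∈ E := by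
  have he := Set.eq_of_subset_of_ncard_le (list_subset hE)
    (by rw [ncard_list hnd, ncard_toList, ← Nat.card_coe_set_eq]; exact hcard) (Set.toFinite _)
  constructor
  · intro hg
    exact (Set.ext_iff.1 he (toList g.1)).2 ⟨g, hg, rfl⟩
  · intro hg
    obtain ⟨g', hg', e⟩ := (Set.ext_iff.1 he (toList g.1)).1 hg
    rwa [← Subtype.ext (toList_injective e)]

/-- Counting a decidable property of the centraliser on its list. -/
theorem natCard_filter {z : Cfsg.Spor.M22} {E : List (List ℕ)} (hnd : (E.map key).Nodup)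
    (hmem : ∀ g : Cfsg.Spor.M22, g ∈ Subgroup.centralizer ({z} : Set Cfsg.Spor.M22) ↔ toList g.1 ∈ E)
    (hE : commOK (toList z.1) E = true)
    (P : Cfsg.Spor.M22 → Prop) (Q : List ℕ → Bool) (hPQ : ∀ g, P g ↔ Q (toList g.1) = true) :
    Nat.card {g : Cfsg.Spor.M22 // g ∈ Subgroup.centralizer ({z} : Set Cfsg.Spor.M22) ∧ P g} =
      (E.filter Q).length := by
  rw [← List.toFinset_card_of_nodup ((List.Nodup.of_map _ hnd).filter _), ← Set.ncard_coe_finset,
    List.coe_toFinset]
  show Nat.card ({g : Cfsg.Spor.M22 | g ∈ Subgroup.centralizer ({z} : Set Cfsg.Spor.M22) ∧ P g} :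
    Set Cfsg.Spor.M22) = _
  rw [Nat.card_coe_set_eq, ← ncard_toList]
  congr 1
  ext l
  simp only [Set.mem_image, Set.mem_ofPred_eq, List.mem_filter]
  constructor
  · rintro ⟨g, ⟨hg, hp⟩, rfl⟩
    exact ⟨(hmem g).1 hg, (hPQ g).1 hp⟩
  · rintro ⟨hl, hq⟩
    obtain ⟨g, hg, rfl⟩ := list_subset hE hl
    exact ⟨g, ⟨hg, (hPQ g).2 hq⟩, rfl⟩

end CfsgLib.MathieuTwentyTwo.Model
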