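import Cfsg.Agent.Lib.MathieuTwentyTwo.LocalThree

/-!
The centraliser of an element of order three moves its four group; one class of involutions with
centraliser of order 384.
-/

set_option autoImplicit false

namespace CfsgLib.MathieuTwentyTwo.NseRoute

open Subgroup CfsgLib.Recog.OrderCounts

universe u

variable {G : Type u} [Group G] [Finite G]

namespace Local

variable (h : Local G)
include h

theorem card_centralizer_two {t : G} (ht : orderOf t = 2) :
    384 ≤ Nat.card (centralizer ({t} : Set G)) ∧ 3 ∣ Nat.card (centralizer ({t} : Set G)) ∧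
      Nat.card (centralizer ({t} : Set G)) ∣ 1152 := by
  classical
  have := Fintype.ofFinite G
  have hd := h.card_centralizer_dvd (x := t) (fun e => by rw [e, orderOf_one] at ht; omega)
    (by omega) (by omega) (by omega)
  have hidx : (centralizer ({t} : Set G)).index ≤ 1155 := by
    rw [← h.cnt_two, cntOrd, ← CfsgLib.ClassCount.card_cls t, Nat.card_eq_fintype_card,
      Fintype.card_subtype]
    refine Finset.card_le_card fun y hy => ?_
    obtain ⟨g, rfl⟩ := isConj_iff.1 (CfsgLib.ClassCount.mem_cls.1 hy)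
    rw [Finset.mem_filter]
    exact ⟨Finset.mem_univ _, by rw [orderOf_conj, ht]⟩
  have hmul := Subgroup.card_mul_index (centralizer ({t} : Set G))
  rw [h.card] at hmul
  have hge : 384 ≤ Nat.card (centralizer ({t} : Set G)) := by
    by_contra hlt
    push Not at hlt
    have := Nat.mul_le_mul (Nat.le_sub_one_of_lt hlt) hidx
    rw [hmul] at this
    norm_num at this
  refine ⟨hge, ?_, hd⟩
  by_contra h3
  have hd' : Nat.card (centralizer ({t} : Set G)) ∣ 2 ^ 7 := by
    refine Nat.Coprime.dvd_of_dvd_mul_right (k := Nat.card (centralizer ({t} : Set G))) (n := 3 ^ 2)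
      (((Nat.Prime.coprime_iff_not_dvd Nat.prime_three).2 h3).symm.pow_right 2) ?_
    simpa using hd
  have := Nat.le_of_dvd (by norm_num) hd'
  omega

theorem exists_three_commute {t : G} (ht : orderOf t = 2) :
    ∃ x, orderOf x = 3 ∧ Commute x t := by
  have : Fact (Nat.Prime 3) := ⟨Nat.prime_three⟩
  obtain ⟨⟨x, hx⟩, hxo⟩ := exists_prime_orderOf_dvd_card' 3 (h.card_centralizer_two ht).2.1
  exact ⟨x, by simpa using hxo, mem_centralizer_singleton_iff.1 hx⟩

theorem exists_nine_centralizer {x : G} (hx : orderOf x = 3) :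
    ∃ P : Sylow 3 G, x ∈ (P : Subgroup G) ∧ (P : Subgroup G) ≤ centralizer ({x} : Set G) := by
  have : Fact (Nat.Prime 3) := ⟨Nat.prime_three⟩
  obtain ⟨P, hP⟩ := (IsPGroup.of_card (n := 1)
    (by rw [Nat.card_zpowers, hx, pow_one] : Nat.card (zpowers x) = 3 ^ 1)).exists_le_sylow
  exact ⟨P, hP (mem_zpowers x), fun a ha => mem_centralizer_singleton_iff.2
    (h.commute_of_mem_sylow_three P ha (hP (mem_zpowers x))).eq⟩

theorem conj_mem_fourOf {x c v : G} (hx : orderOf x = 3) (hc : Commute c x) (hv : v ∈ fourOf x) :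
    c * v * c⁻¹ ∈ fourOf x := by
  rw [h.mem_fourOf hx] at hv ⊢
  obtain ⟨hv1, hv2⟩ := hv
  refine ⟨(hc.symm.mul_right hv1).mul_right hc.symm.inv_right, ?_⟩
  rw [show c * v * c⁻¹ * (c * v * c⁻¹) = c * (v * v) * c⁻¹ by group, hv2]
  group

/-- The abelian shape of the centraliser is impossible. -/
theorem exists_not_commute {x : G} (hx : orderOf x = 3) :
    ∃ y v, Commute y x ∧ orderOf y = 3 ∧ v ∈ fourOf x ∧ ¬ Commute y v := by
  classical
  have : Fact (Nat.Prime 3) := ⟨Nat.prime_three⟩
  have : Fact (Nat.Prime 2) := ⟨Nat.prime_two⟩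
  by_contra hall
  push Not at hall
  have hcomm : ∀ a : G, orderOf a = 3 → ∀ y v : G, Commute y a → orderOf y = 3 → v ∈ fourOf a →
      Commute y v := by
    intro a ha y v hy ho hv
    obtain ⟨g, rfl⟩ := isConj_iff.1 (h.isConj_three hx ha)
    have key : ∀ u, Commute (g * x * g⁻¹) u → Commute x (g⁻¹ * u * g) := by
      intro u hu
      have := hu.map (MulAut.conj g⁻¹).toMonoidHom
      simpa [mul_assoc] using this
    rw [h.mem_fourOf ha] at hv
    have h1 := hall (g⁻¹ * y * g) (g⁻¹ * v * g) (key y hy.symm).symm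
      (by rw [← ho, ← orderOf_conj g⁻¹ y, inv_inv])
      ((h.mem_fourOf hx).2 ⟨key v hv.1, by
        rw [show g⁻¹ * v * g * (g⁻¹ * v * g) = g⁻¹ * (v * v) * g by group, hv.2]; group⟩)
    have := h1.map (MulAut.conj g).toMonoidHom
    simpa [mul_assoc] using this
  have habel : ∀ a : G, orderOf a = 3 → ∀ P : Sylow 3 G, a ∈ (P : Subgroup G) →
      centralizer ({a} : Set G) ≤ centralizer ((P : Subgroup G) : Set G) := by
    intro a ha P haP c hc b hb
    have hsup : centralizer ({a} : Set G) = (P : Subgroup G) ⊔ fourOf a := by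
      refine (Subgroup.eq_of_le_of_card_ge (sup_le (fun b hb => mem_centralizer_singleton_iff.2
        (h.commute_of_mem_sylow_three P hb haP).eq) (fun b hb => mem_centralizer_singleton_iff.2
        ((h.mem_fourOf ha).1 hb).1.eq.symm)) ?_).symm
      rw [h.card_centralizer_three ha]
      refine Nat.le_of_dvd Nat.card_pos (Nat.Coprime.mul_dvd_of_dvd_of_dvd
        (m := 9) (n := 4) (by norm_num) ?_ ?_)
      · rw [← h.card_sylow_three P]; exact Subgroup.card_dvd_of_le le_sup_left
      · rw [← h.card_fourOf ha]; exact Subgroup.card_dvd_of_le le_sup_right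
    have hc' : c ∈ (P : Subgroup G) ⊔ fourOf a := hsup ▸ hc
    have hle : (P : Subgroup G) ⊔ fourOf a ≤ centralizer ({b} : Set G) := by
      refine sup_le (fun d hd => mem_centralizer_singleton_iff.2
        (h.commute_of_mem_sylow_three P hd hb).eq) fun d hd => mem_centralizer_singleton_iff.2 ?_
      by_cases hb1 : b = 1
      · subst hb1; simp
      · exact (hcomm a ha b d (h.commute_of_mem_sylow_three P hb haP)
          (h.orderOf_mem_sylow_three P hb hb1) hd).eq.symm
    exact (mem_centralizer_singleton_iff.1 (hle hc')).symm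
  -- Sylow subgroups meet trivially
  have hTI : ∀ (a : G), a ≠ 1 → ∀ P P' : Sylow 3 G, a ∈ (P : Subgroup G) → a ∈ (P' : Subgroup G) →
      P = P' := by
    intro a ha1 P P' haP haP'
    have ha := h.orderOf_mem_sylow_three P haP ha1
    have hpg : IsPGroup 3 ((P : Subgroup G) ⊔ (P' : Subgroup G) : Subgroup G) := by
      refine IsPGroup.to_sup_of_normal_right' P.isPGroup' P'.isPGroup' ?_
      intro b hb
      refine Subgroup.mem_normalizer_iff.2 fun d => ?_
      have hd : ∀ d ∈ (P' : Subgroup G), b * d * b⁻¹ = d := fun d hd => by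
        have := habel a ha P' haP' (mem_centralizer_singleton_iff.2
          (h.commute_of_mem_sylow_three P hb haP).eq) d hd
        rw [← this, mul_inv_cancel_right]
      constructor
      · intro hdd; rw [hd d hdd]; exact hdd
      · intro hdd
        have e := hd _ hdd
        have e' : b * d * b⁻¹ = d := by
          have := congrArg (fun z => b⁻¹ * z * b) e
          simpa [mul_assoc] using this
        rwa [e'] at hdd
    exact Sylow.ext ((P.is_maximal' hpg le_sup_left).symm.trans (P'.is_maximal' hpg le_sup_right))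
  obtain ⟨P0⟩ := (inferInstance : Nonempty (Sylow 3 G))
  have hn3 : Nat.card (Sylow 3 G) = 1540 := by
    have := Fintype.ofFinite (Sylow 3 G)
    have e : Nat.card (Σ P : Sylow 3 G, {g : (P : Subgroup G) // g ≠ 1}) = 12320 := by
      rw [← h.cnt_three, cntOrd]
      refine Nat.card_eq_of_bijective (fun p => (⟨(p.2.1 : G), h.orderOf_mem_sylow_three p.1 p.2.1.2
        (fun e => p.2.2 (Subtype.ext e))⟩ : {g : G // orderOf g = 3})) ⟨?_, ?_⟩
      · rintro ⟨P, ⟨g, hg⟩, hg1⟩ ⟨P', ⟨g', hg'⟩, hg1'⟩ e
        simp only [Subtype.mk.injEq] at e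
        subst e
        obtain rfl := hTI g (fun e => hg1 (Subtype.ext e)) P P' hg hg'
        rfl
      · rintro ⟨g, hg⟩
        obtain ⟨P, hP, -⟩ := h.exists_nine_centralizer hg
        exact ⟨⟨P, ⟨g, hP⟩, fun e => by
          have : g = 1 := congrArg Subtype.val e
          rw [this, orderOf_one] at hg; omega⟩, rfl⟩
    rw [Nat.card_sigma] at e
    have hF : ∀ P : Sylow 3 G, Nat.card {g : (P : Subgroup G) // g ≠ 1} = 8 := by
      intro P
      classical
      have := Fintype.ofFinite (P : Subgroup G)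
      rw [Nat.card_eq_fintype_card, Fintype.card_subtype_compl, Fintype.card_subtype_eq,
        ← Nat.card_eq_fintype_card, h.card_sylow_three P]
    rw [Finset.sum_congr rfl (fun P _ => hF P), Finset.sum_const, Finset.card_univ, smul_eq_mul,
      ← Nat.card_eq_fintype_card] at e
    omega
  set N := normalizer ((P0 : Subgroup G) : Set G) with hN
  have hNc : Nat.card N = 288 := by
    have e := Subgroup.index_mul_card N
    rw [show N.index = 1540 from (Sylow.card_eq_index_normalizer P0).symm.trans hn3, h.card] at e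
    omega
  obtain ⟨⟨z, hzP⟩, hz⟩ := exists_prime_orderOf_dvd_card' (G := (P0 : Subgroup G)) 3
    (by rw [h.card_sylow_three P0]; norm_num)
  rw [Subgroup.orderOf_mk] at hz
  -- the involutions of the centraliser of `P0`
  set A : Set G := {s | orderOf s = 2 ∧ Commute z s} with hA
  have hAP : ∀ s ∈ A, ∀ b ∈ (P0 : Subgroup G), Commute b s := fun s hs b hb =>
    habel z hz P0 hzP (mem_centralizer_singleton_iff.2 hs.2.eq.symm) b hb
  have hNA : ∀ g ∈ N, ∀ s ∈ A, g * s * g⁻¹ ∈ A := by
    intro g hg s hs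
    refine ⟨by rw [orderOf_conj, hs.1], ?_⟩
    have hz' : g⁻¹ * z * g ∈ (P0 : Subgroup G) := by
      have := (Subgroup.mem_normalizer_iff.1 (inv_mem hg) z).1 hzP
      rwa [inv_inv] at this
    have := (hAP s hs _ hz').map (MulAut.conj g).toMonoidHom
    simpa [mul_assoc] using this
  obtain ⟨T, hT⟩ := Sylow.exists_subgroup_card_pow_prime (G := N) 2 (n := 5) (by rw [hNc]; norm_num)
  obtain ⟨t, htA, htfix⟩ := exists_fixed_of_isPGroup (p := 2) (P := T.map N.subtype)
    ((IsPGroup.of_card hT).map _) A (fun g hg => hNA g (Subgroup.map_subtype_le T hg))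
    (by rw [hA, h.ncard_involutions_three hz]; norm_num)
  set C := centralizer ({t} : Set G) with hC
  have hPC : (P0 : Subgroup G) ≤ C := fun b hb =>
    mem_centralizer_singleton_iff.2 (hAP t htA b hb).eq
  have hNle : N ≤ C := by
    have hK : Nat.card N ≤ Nat.card (N ⊓ C : Subgroup G) := by
      rw [hNc]
      refine Nat.le_of_dvd Nat.card_pos (Nat.Coprime.mul_dvd_of_dvd_of_dvd
        (m := 9) (n := 32) (by norm_num) ?_ ?_)
      · rw [← h.card_sylow_three P0]
        exact Subgroup.card_dvd_of_le (le_inf Subgroup.le_normalizer hPC)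
      · rw [show 32 = Nat.card (T.map N.subtype) by
          rw [Subgroup.card_map_of_injective N.subtype_injective, hT]; norm_num]
        exact Subgroup.card_dvd_of_le (le_inf (Subgroup.map_subtype_le T) fun g hg =>
          mem_centralizer_singleton_iff.2 (mul_inv_eq_iff_eq_mul.1 (htfix g hg)))
    exact inf_eq_left.1 (Subgroup.eq_of_le_of_card_ge inf_le_left hK)
  obtain ⟨hge, -, hdvd⟩ := h.card_centralizer_two htA.1
  obtain ⟨k, hk⟩ : 288 ∣ Nat.card C := hNc ▸ Subgroup.card_dvd_of_le hNle
  have hk' : k = 2 ∨ k = 4 := by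
    rw [hk] at hge hdvd
    have hd4 : k ∣ 4 := Nat.dvd_of_mul_dvd_mul_left (k := 288) (by norm_num) (by simpa using hdvd)
    have := Nat.le_of_dvd (by norm_num) hd4
    revert hd4 hge
    interval_cases k <;> norm_num
  -- Sylow subgroups of `C`
  let P : Sylow 3 C := P0.subtype hPC
  have hPmap : (P : Subgroup C).map C.subtype = (P0 : Subgroup G) := by
    show ((P0 : Subgroup G).subgroupOf C).map C.subtype = _
    exact Subgroup.map_subgroupOf_eq_of_le hPC
  have hNP : Nat.card (normalizer ((P : Subgroup C) : Set C)) = 288 := by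
    rw [← hNc]
    refine Nat.card_congr (Equiv.trans
      ((normalizer ((P : Subgroup C) : Set C)).equivMapOfInjective C.subtype
        C.subtype_injective).toEquiv (Equiv.setCongr ?_))
    refine congrArg SetLike.coe ?_
    ext g
    constructor
    · rintro ⟨g, hg, rfl⟩
      refine Subgroup.mem_normalizer_iff.2 fun b => ?_
      constructor
      · intro hb
        have := (Subgroup.mem_normalizer_iff.1 hg ⟨b, hPC hb⟩).1 hb
        exact this
      · intro hb
        have hbC : b ∈ C := by
          have : (g : G)⁻¹ * ((g : G) * b * (g : G)⁻¹) * (g : G) ∈ C :=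
            mul_mem (mul_mem (inv_mem g.2) (hPC hb)) g.2
          simpa [mul_assoc] using this
        exact (Subgroup.mem_normalizer_iff.1 hg ⟨b, hbC⟩).2 hb
    · intro hg
      refine ⟨⟨g, hNle hg⟩, Subgroup.mem_normalizer_iff.2 fun b => ?_, rfl⟩
      exact Subgroup.mem_normalizer_iff.1 hg (b : G)
  have hnC : Nat.card (Sylow 3 C) = 4 := by
    have e := Subgroup.index_mul_card (normalizer ((P : Subgroup C) : Set C))
    rw [hNP, hk] at e
    have : Nat.card (Sylow 3 C) = (normalizer ((P : Subgroup C) : Set C)).index :=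
      Sylow.card_eq_index_normalizer P
    have hm := card_sylow_modEq_one 3 C
    rw [Nat.ModEq] at hm
    rcases hk' with rfl | rfl <;> omega
  -- `P0` fixes another Sylow subgroup through one of its elements
  obtain ⟨Q, hQ⟩ : ∃ Q : Sylow 3 C, Q ≠ P := by
    by_contra hc
    push Not at hc
    have : Subsingleton (Sylow 3 C) := ⟨fun a b => (hc a).trans (hc b).symm⟩
    have := Finite.card_le_one_iff_subsingleton.2 this
    omega
  obtain ⟨a, b, hab, heq⟩ : ∃ a b : (P : Subgroup C), a ≠ b ∧ a • Q = b • Q := by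
    by_contra hc
    push Not at hc
    have hinj : Function.Injective (fun a : (P : Subgroup C) => a • Q) := fun a b e =>
      by_contra fun hne => hc a b hne e
    have := Nat.card_le_card_of_injective _ hinj
    rw [hnC, show Nat.card (P : Subgroup C) = 9 by
      rw [← h.card_sylow_three P0, ← hPmap, Subgroup.card_map_of_injective C.subtype_injective]] at this
    omega
  set w : (P : Subgroup C) := b⁻¹ * a with hw
  have hwQ : (w : C) ∈ normalizer ((Q : Subgroup C) : Set C) := by
    have e : w • Q = Q := by rw [hw, mul_smul, heq, inv_smul_smul]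
    exact Sylow.smul_eq_iff_mem_normalizer.1 e
  have hwmem : (w : C) ∈ (Q : Subgroup C) := by
    have hpg : IsPGroup 3 ((Q : Subgroup C) ⊔ zpowers (w : C) : Subgroup C) :=
      Q.isPGroup'.to_sup_of_normal_left' (P.isPGroup'.to_le (zpowers_le.2 w.2))
        (zpowers_le.2 hwQ)
    rw [← Q.is_maximal' hpg le_sup_left]
    exact le_sup_right (a := (Q : Subgroup C)) (mem_zpowers (w : C))
  obtain ⟨Q', hQ'⟩ := (Q.isPGroup'.map C.subtype).exists_le_sylow
  have hw1 : ((w : C) : G) ≠ 1 := by
    intro e
    refine hab ?_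
    have : w = 1 := Subtype.ext (Subtype.ext e)
    rw [hw, inv_mul_eq_one] at this
    exact this.symm
  have e := hTI _ hw1 P0 Q' (hPmap ▸ Subgroup.mem_map_of_mem _ w.2) (hQ' (Subgroup.mem_map_of_mem _ hwmem))
  refine hQ (Sylow.ext ?_).symm |>.elim
  refine Q.is_maximal' P.isPGroup' ?_
  intro c hc
  have := hQ' (Subgroup.mem_map_of_mem C.subtype hc)
  rw [← e, ← hPmap] at this
  obtain ⟨d, hd, hdc⟩ := this
  rwa [C.subtype_injective hdc] at hd

/-- An element of order three in `C(x)` moving every involution of the four group. -/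
theorem exists_mover {x : G} (hx : orderOf x = 3) :
    ∃ y, Commute y x ∧ orderOf y = 3 ∧ ∀ v ∈ fourOf x, v ≠ 1 → ¬ Commute y v := by
  classical
  obtain ⟨y, v, hyx, hy, hv, hyv⟩ := h.exists_not_commute hx
  refine ⟨y, hyx, hy, fun s hs hs1 hys => ?_⟩
  have hv1 : v ≠ 1 := fun e => hyv (e ▸ Commute.one_right y)
  have hsv : s ≠ v := fun e => hyv (e ▸ hys)
  set A : Set G := (fourOf x : Set G) \ {1, s} with hA
  have hAc : A.ncard = 2 := by
    rw [hA, Set.ncard_diff (by
      intro b hb
      rcases hb with rfl | rfl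
      exacts [one_mem _, hs]) (Set.toFinite _), Set.ncard_pair hs1.symm, ← Nat.card_coe_set_eq]
    exact congrArg (· - 2) (h.card_fourOf hx)
  obtain ⟨w, hw, hyw⟩ := exists_commute_of_not_dvd Nat.prime_three hy A (by
    rintro b ⟨hb, hb'⟩
    refine ⟨h.conj_mem_fourOf hx hyx hb, ?_⟩
    simp only [Set.mem_insert_iff, Set.mem_singleton_iff, not_or] at hb' ⊢
    exact ⟨fun e => hb'.1 (by simpa using e),
      fun e => hb'.2 (by
        rw [mul_inv_eq_iff_eq_mul, ← hys.eq] at e
        exact mul_left_cancel e)⟩) (by rw [hAc]; norm_num)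
  obtain ⟨hw4, hw'⟩ := hw
  simp only [Set.mem_insert_iff, Set.mem_singleton_iff, not_or] at hw'
  -- `y` fixes two involutions, hence the whole four group
  refine hyv ?_
  have hsw : s * w ∈ fourOf x := mul_mem hs hw4
  have : v ∈ ({1, s, w, s * w} : Set G) := by
    have hsub : ({1, s, w, s * w} : Set G) ⊆ (fourOf x : Set G) := by
      rintro b (rfl | rfl | rfl | rfl)
      exacts [one_mem _, hs, hw4, hsw]
    have hs2 := ((h.mem_fourOf hx).1 hs).2
    have hcard : ({1, s, w, s * w} : Set G).ncard = 4 := by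
      have e1 : s * w ≠ 1 := fun e => hw'.2 (mul_left_cancel (e.trans hs2.symm))
      rw [Set.ncard_insert_of_notMem (by simp [hs1.symm, Ne.symm hw'.1, Ne.symm e1]) (Set.toFinite _),
        Set.ncard_insert_of_notMem (by simp [Ne.symm hw'.2, hw'.1]) (Set.toFinite _),
        Set.ncard_pair (by simp [hs1])]
    rw [Set.eq_of_subset_of_ncard_le hsub (by
      rw [hcard, ← Nat.card_coe_set_eq]
      exact (h.card_fourOf hx).le) (Set.toFinite _)]
    exact hv
  rcases this with rfl | rfl | rfl | rfl
  exacts [Commute.one_right y, hys, hyw, hys.mul_right hyw]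

theorem exists_conj_in_fourOf {x : G} (hx : orderOf x = 3) {s v : G} (hs : s ∈ fourOf x)
    (hs1 : s ≠ 1) (hv : v ∈ fourOf x) (hv1 : v ≠ 1) :
    ∃ c, Commute c x ∧ c * s * c⁻¹ = v := by
  classical
  obtain ⟨y, hyx, hy, hmove⟩ := h.exists_mover hx
  have hy3 : y * (y * y) = 1 := by
    rw [← pow_orderOf_eq_one y, hy]; simp [pow_succ, mul_assoc]
  set s1 := y * s * y⁻¹ with hs1def
  set s2 := y * s1 * y⁻¹ with hs2def
  have m1 := h.conj_mem_fourOf hx hyx hs
  have m2 := h.conj_mem_fourOf hx hyx m1
  have n1 : s1 ≠ 1 := fun e => hs1 (by simpa [hs1def] using e)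
  have n2 : s2 ≠ 1 := fun e => n1 (by simpa [hs2def] using e)
  have d01 : s1 ≠ s := fun e => hmove s hs hs1 (mul_inv_eq_iff_eq_mul.1 e)
  have d12 : s2 ≠ s1 := fun e => hmove s1 m1 n1 (mul_inv_eq_iff_eq_mul.1 e)
  have d02 : s2 ≠ s := by
    intro e
    refine d01 ?_
    have e' : y * s2 * y⁻¹ = s := by
      calc y * s2 * y⁻¹ = y * (y * y) * s * (y * (y * y))⁻¹ := by rw [hs2def, hs1def]; group
        _ = s := by rw [hy3]; group
    rw [e] at e'
    exact e'
  have hset : ({1, s, s1, s2} : Set G) = (fourOf x : Set G) := by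
    refine Set.eq_of_subset_of_ncard_le ?_ ?_ (Set.toFinite _)
    · rintro b (rfl | rfl | rfl | rfl)
      exacts [one_mem _, hs, m1, m2]
    · rw [← Nat.card_coe_set_eq, Set.ncard_insert_of_notMem (by simp [hs1.symm, n1.symm, n2.symm])
        (Set.toFinite _), Set.ncard_insert_of_notMem (by simp [d01.symm, d02.symm]) (Set.toFinite _),
        Set.ncard_pair d12.symm]
      exact (h.card_fourOf hx).le
  have hv' : v ∈ ({1, s, s1, s2} : Set G) := hset ▸ hv
  rcases hv' with e | e | e | e
  · exact absurd e hv1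
  · exact ⟨1, Commute.one_left x, by simp [e]⟩
  · exact ⟨y, hyx, e.symm⟩
  · exact ⟨y * y, hyx.mul_left hyx, by rw [e, hs2def, hs1def]; group⟩

theorem isConj_two {s t : G} (hs : orderOf s = 2) (ht : orderOf t = 2) : IsConj s t := by
  obtain ⟨x, hx, hxs⟩ := h.exists_three_commute hs
  obtain ⟨x', hx', hxt⟩ := h.exists_three_commute ht
  obtain ⟨g, hg⟩ := isConj_iff.1 (h.isConj_three hx hx')
  have hsm : g * s * g⁻¹ ∈ fourOf x' := by
    rw [h.mem_fourOf hx']
    refine ⟨?_, ?_⟩
    · rw [← hg]
      have := hxs.map (MulAut.conj g).toMonoidHom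
      simpa using this
    · rw [show g * s * g⁻¹ * (g * s * g⁻¹) = g * (s * s) * g⁻¹ by group,
        pow_two_eq_one_of_orderOf hs]
      group
  have hne : ∀ u : G, orderOf u = 2 → u ≠ 1 := fun u hu e => by rw [e, orderOf_one] at hu; omega
  obtain ⟨c, -, hc⟩ := h.exists_conj_in_fourOf hx' hsm (hne _ (by rw [orderOf_conj, hs]))
    ((h.mem_fourOf hx').2 ⟨hxt, pow_two_eq_one_of_orderOf ht⟩) (hne t ht)
  exact isConj_iff.2 ⟨c * g, by rw [← hc]; group⟩

theorem card_centralizer_involution {t : G} (ht : orderOf t = 2) :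
    Nat.card (centralizer ({t} : Set G)) = 384 := by
  classical
  have := Fintype.ofFinite G
  have e : (centralizer ({t} : Set G)).index = 1155 := by
    rw [← h.cnt_two, cntOrd, ← CfsgLib.ClassCount.card_cls t, Nat.card_eq_fintype_card,
      Fintype.card_subtype]
    congr 1
    ext y
    rw [CfsgLib.ClassCount.mem_cls, Finset.mem_filter]
    refine ⟨fun hy => ⟨Finset.mem_univ _, ?_⟩, fun hy => h.isConj_two ht hy.2⟩
    obtain ⟨g, rfl⟩ := isConj_iff.1 hy
    rw [orderOf_conj, ht]
  have hmul := Subgroup.card_mul_index (centralizer ({t} : Set G))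
  rw [h.card, e] at hmul
  omega

end Local

end CfsgLib.MathieuTwentyTwo.NseRoute
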