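import Mathlib
import Cfsg.Prelude.Def_Sporadic_a
import Cfsg.Prelude.Def_Spor_Mathieu
import Cfsg.Agent.S0427
import Cfsg.Agent.Lib.Steiner.WittAut
import Cfsg.Agent.Lib.Steiner.OrbitalGraph
import Cfsg.Agent.Lib.Steiner.RankThreeHundred
import Cfsg.Agent.Lib.Steiner.SRGSeventySeven

/-!
Recognition of M22 from a rank three action on 77 points with subdegrees 16 and 60.
-/

set_option autoImplicit false

namespace CfsgLib.MathieuTwentyTwo

open scoped Pointwise
open SimpleGraph CfsgLib.Combin.SteinerCount CfsgLib.Steiner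

universe u

section Graph

variable {V : Type u} [Fintype V] [DecidableEq V] {Γ : SimpleGraph V} [DecidableRel Γ.Adj]

/-- A strongly regular graph with 77 vertices of valency 16 that is not a disjoint union of cliques has
parameters 0 and 4. -/
theorem srg_params {l m : ℕ} (h : Γ.IsSRGWith 77 16 l m) : l = 0 ∧ m = 4 := by
  have he := SimpleGraph.IsSRGWith.param_eq Γ h (by norm_num)
  obtain ⟨v⟩ : Nonempty V := Fintype.card_pos_iff.mp (by rw [h.card]; norm_num)
  obtain ⟨w, hw⟩ : (Γ.neighborFinset v).Nonempty := by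
    rw [← Finset.card_pos, card_neighborFinset_eq_degree, h.regular v]; norm_num
  rw [mem_neighborFinset] at hw
  have hl : l < 16 := by
    rw [← h.of_adj v w hw, ← h.regular v]
    exact hw.card_commonNeighbors_lt_degree
  have hcases : l = 0 ∧ m = 4 ∨ l = 15 ∧ m = 0 := by interval_cases l <;> omega
  rcases hcases with h0 | ⟨rfl, rfl⟩
  · exact h0
  -- the graph would be a union of cliques of size 17
  exfalso
  have htrans : ∀ x y z : V, Γ.Adj x y → Γ.Adj y z → x ≠ z → Γ.Adj x z := by
    intro x y z hxy hyz hxz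
    by_contra hn
    have := h.of_not_adj hxz hn
    rw [Fintype.card_eq_zero_iff] at this
    exact this.elim ⟨y, by rw [mem_commonNeighbors]; exact ⟨hxy, hyz.symm⟩⟩
  let s : Setoid V :=
    ⟨fun x y => x = y ∨ Γ.Adj x y, ⟨fun x => Or.inl rfl,
      fun hxy => hxy.elim (fun e => Or.inl e.symm) (fun e => Or.inr e.symm),
      fun {x y z} hxy hyz => by
        rcases hxy with rfl | hxy
        · exact hyz
        rcases hyz with rfl | hyz
        · exact Or.inr hxy
        by_cases hxz : x = z
        · exact Or.inl hxz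
        · exact Or.inr (htrans x y z hxy hyz hxz)⟩⟩
  classical
  have hs := Finset.card_eq_sum_card_fiberwise (s := (Finset.univ : Finset V))
    (t := Finset.univ.image (Quotient.mk s)) (f := Quotient.mk s) (fun x _ => by simp)
  have h17 : ∀ q ∈ Finset.univ.image (Quotient.mk s),
      (Finset.univ.filter fun x => Quotient.mk s x = q).card = 17 := by
    intro q hq
    obtain ⟨x, -, rfl⟩ := Finset.mem_image.mp hq
    have e : (Finset.univ.filter fun y => Quotient.mk s y = Quotient.mk s x) =
        insert x (Γ.neighborFinset x) := by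
      ext y
      simp only [Finset.mem_filter, Finset.mem_univ, true_and, Finset.mem_insert, mem_neighborFinset,
        Quotient.eq]
      exact ⟨fun e => e.elim Or.inl (fun a => Or.inr a.symm), fun e => e.elim Or.inl (fun a => Or.inr a.symm)⟩
    rw [e, Finset.card_insert_of_notMem (by simp), card_neighborFinset_eq_degree, h.regular x]
  rw [Finset.sum_congr rfl h17, Finset.sum_const, Finset.card_univ, h.card, smul_eq_mul] at hs
  omega

/-- Such a graph has exactly 22 cocliques of size 21. -/
theorem card_cocliques (h : Γ.IsSRGWith 77 16 0 4) :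
    (((Finset.univ : Finset V).powersetCard 21).filter fun K => ∀ a ∈ K, ∀ b ∈ K, ¬ Γ.Adj a b).card = 22 := by
  classical
  set P := ((Finset.univ : Finset V).powersetCard 21).filter fun K => ∀ a ∈ K, ∀ b ∈ K, ¬ Γ.Adj a b with hP
  have h1 : ∑ v, (P.filter fun K => v ∈ K).card = 462 := by
    have hfil : ∀ v, P.filter (fun K => v ∈ K) = SRGSeventySeven.pointsThrough (G := Γ) v := fun v => by
      ext K; simp [hP, SRGSeventySeven.pointsThrough]; tauto
    simp only [hfil, SRGSeventySeven.card_pointsThrough h, Finset.sum_const, Finset.card_univ, h.card]; rfl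
  simp only [Finset.card_filter] at h1
  rw [Finset.sum_comm, Finset.sum_congr rfl (g := fun _ => 21) fun K hK => by
    rw [← Finset.card_filter, Finset.filter_univ_mem]
    exact (Finset.mem_powersetCard.mp (Finset.mem_filter.mp hK).1).2] at h1
  simp only [Finset.sum_const, smul_eq_mul] at h1
  omega

end Graph

section Design

variable {α : Type u} [Fintype α] [DecidableEq α] {B : Set (Finset α)}

/-- Every automorphism of the block graph is induced by a permutation of the points. -/
theorem exists_point_perm (hα : Fintype.card α = 22) (hB : Cfsg.IsSteinerSystem 3 6 B)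
    (g : Cfsg.blockGraph B ≃g Cfsg.blockGraph B) :
    ∃ σ : Equiv.Perm α, ∀ (x : α) (b : B), σ x ∈ (g b : Finset α) ↔ x ∈ (b : Finset α) := by
  classical
  haveI : Fintype B := Fintype.ofFinite B
  have hne : ∀ b ∈ B, b.card ≠ 0 := fun b hb => by rw [hB.1 b hb]; norm_num
  have hsrg := Cfsg.Agent.S0427.result hα hB
  let pts : α → Finset B := fun x => Finset.univ.filter fun b => x ∈ (b : Finset α)
  have hmem : ∀ x (b : B), b ∈ pts x ↔ x ∈ (b : Finset α) := fun x b => by simp [pts]
  have hcard : ∀ x, (pts x).card = 21 := by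
    intro x
    have h := card_blocksThrough_three_six hα hB {x} (by simp)
    simp only [Finset.card_singleton, List.getD_cons_succ, List.getD_cons_zero] at h
    rw [← h, GraphTwentyTwo.card_filter_subtype (fun b => x ∈ b)]
    congr 1
    ext d
    simp [mem_blocksThrough]
  have hinj : Function.Injective pts := by
    intro x y hxy
    by_contra hne'
    have h := card_blocksThrough_three_six hα hB {x, y} (by simp [hne'])
    simp only [Finset.card_pair hne', List.getD_cons_succ, List.getD_cons_zero] at h
    have e : blocksThrough B {x, y} = (pts x).map ⟨Subtype.val, Subtype.val_injective⟩ := by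
      ext d
      simp only [mem_blocksThrough, Finset.insert_subset_iff, Finset.singleton_subset_iff,
        Finset.mem_map, Function.Embedding.coeFn_mk]
      constructor
      · rintro ⟨hd, hx, -⟩
        exact ⟨⟨d, hd⟩, (hmem x _).mpr hx, rfl⟩
      · rintro ⟨b, hb, rfl⟩
        exact ⟨b.2, (hmem x b).mp hb, (hmem y b).mp (hxy ▸ hb)⟩
    rw [e, Finset.card_map, hcard] at h
    omega
  set P := ((Finset.univ : Finset B).powersetCard 21).filter
    fun K => ∀ a ∈ K, ∀ b ∈ K, ¬ (Cfsg.blockGraph B).Adj a b with hP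
  have hsub : Finset.univ.image pts ⊆ P := by
    intro K hK
    obtain ⟨x, -, rfl⟩ := Finset.mem_image.mp hK
    refine Finset.mem_filter.mpr ⟨Finset.mem_powersetCard.mpr ⟨Finset.subset_univ _, hcard x⟩, ?_⟩
    intro a ha b hb hab
    rw [GraphTwentyTwo.blockGraph_adj hne] at hab
    exact Finset.disjoint_left.mp hab ((hmem x a).mp ha) ((hmem x b).mp hb)
  have himg : Finset.univ.image pts = P := by
    refine Finset.eq_of_subset_of_card_le hsub ?_
    rw [hP, card_cocliques hsrg, Finset.card_image_of_injective _ hinj, Finset.card_univ, hα]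
  have hex : ∀ x, ∃ y, pts y = (pts x).map g.toEquiv.toEmbedding := by
    intro x
    have : (pts x).map g.toEquiv.toEmbedding ∈ P := by
      refine Finset.mem_filter.mpr ⟨Finset.mem_powersetCard.mpr ⟨Finset.subset_univ _, ?_⟩, ?_⟩
      · rw [Finset.card_map, hcard]
      · intro a ha b hb hab
        obtain ⟨a', ha', rfl⟩ := Finset.mem_map.mp ha
        obtain ⟨b', hb', rfl⟩ := Finset.mem_map.mp hb
        exact (Finset.mem_filter.mp (hsub (Finset.mem_image_of_mem pts (Finset.mem_univ x)))).2
          a' ha' b' hb' (g.map_adj_iff.mp hab)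
    rw [← himg] at this
    obtain ⟨y, -, hy⟩ := Finset.mem_image.mp this
    exact ⟨y, hy⟩
  choose σ hσ using hex
  have hσinj : Function.Injective σ := fun x y h => by
    have e := hσ x
    rw [h, hσ y] at e
    exact hinj (Finset.map_injective _ e.symm)
  refine ⟨Equiv.ofBijective σ hσinj.bijective_of_finite, fun x b => ?_⟩
  rw [Equiv.ofBijective_apply, ← hmem, hσ x, ← hmem x b]
  exact Finset.mem_map' g.toEquiv.toEmbedding

/-- The automorphism group of the block graph embeds in that of the design. -/
theorem exists_hom_setSystemAut (hα : Fintype.card α = 22) (hB : Cfsg.IsSteinerSystem 3 6 B) :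
    ∃ f : (Cfsg.blockGraph B ≃g Cfsg.blockGraph B) →* Cfsg.setSystemAut B, Function.Injective f := by
  classical
  choose σ hσ using fun g => exists_point_perm hα hB g
  have himg : ∀ g (b : B), (b : Finset α).map (σ g).toEmbedding = (g b : Finset α) := by
    intro g b
    ext y
    obtain ⟨x, rfl⟩ := (σ g).surjective y
    rw [hσ g x b]
    exact Finset.mem_map' (σ g).toEmbedding
  -- a point is determined by the blocks containing it
  have hdet : ∀ x y : α, (∀ b : B, x ∈ (b : Finset α) ↔ y ∈ (b : Finset α)) → x = y := by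
    intro x y hxy
    by_contra hne'
    have h := card_blocksThrough_three_six hα hB {x, y} (by simp [hne'])
    have h1 := card_blocksThrough_three_six hα hB {x} (by simp)
    simp only [Finset.card_pair hne', Finset.card_singleton, List.getD_cons_succ, List.getD_cons_zero] at h h1
    have e : blocksThrough B {x, y} = blocksThrough B {x} := by
      ext d
      simp only [mem_blocksThrough, Finset.insert_subset_iff, Finset.singleton_subset_iff]
      exact ⟨fun h => ⟨h.1, h.2.1⟩, fun h => ⟨h.1, h.2, (hxy ⟨d, h.1⟩).mp h.2⟩⟩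
    rw [e] at h
    omega
  have hmul : ∀ g g', σ (g * g') = σ g * σ g' := by
    intro g g'
    ext x
    refine hdet _ _ fun b => ?_
    obtain ⟨c, rfl⟩ := (g * g').surjective b
    rw [hσ, show ((g * g') c : B) = g (g' c) from rfl, Equiv.Perm.mul_apply, hσ, hσ]
  have hstab : ∀ g, σ g ∈ Cfsg.setSystemAut B := by
    intro g
    have hsm : ∀ b : B, σ g • (b : Finset α) = (g b : Finset α) := by
      intro b
      rw [← himg g b, Finset.map_eq_image]
      rfl
    rw [MulAction.mem_stabilizer_iff]
    ext d
    constructor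
    · rintro ⟨b, hb, rfl⟩
      show σ g • b ∈ B
      rw [hsm ⟨b, hb⟩]
      exact (g ⟨b, hb⟩).2
    · intro hd
      obtain ⟨b, hb⟩ := g.surjective ⟨d, hd⟩
      exact ⟨b, b.2, by show σ g • (b : Finset α) = d; rw [hsm b, hb]⟩
  let f : (Cfsg.blockGraph B ≃g Cfsg.blockGraph B) →* Cfsg.setSystemAut B :=
    MonoidHom.mk' (fun g => ⟨σ g, hstab g⟩) (fun g g' => Subtype.ext (hmul g g'))
  refine ⟨f, fun g g' h => RelIso.ext fun b => Subtype.ext ?_⟩
  rw [← himg g b, ← himg g' b, show σ g = σ g' from congrArg Subtype.val h]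

end Design

variable {G : Type*} [Group G] [Finite G] [IsSimpleGroup G]
  {Ω : Type u} [MulAction G Ω] [FaithfulSMul G Ω] [Fintype Ω] [MulAction.IsPretransitive G Ω]

/-- A simple group of order 443520 with a rank three action of degree 77 and subdegrees 16, 60 is M22. -/
theorem isoM22_of_rank_three (hG : Nat.card G = 443520) (hΩ : Fintype.card Ω = 77) (a b c : Ω)
    (hb : (MulAction.orbit (MulAction.stabilizer G a) b).ncard = 16)
    (hc : (MulAction.orbit (MulAction.stabilizer G a) c).ncard = 60) : Cfsg.Spor.IsoM22 G := by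
  classical
  obtain ⟨Γ, hdec, l, m, hs, hi, -⟩ := OrbitalGraph.exists_graph (G := G) hΩ (by norm_num)
    (by norm_num : (16 : ℕ) ≠ 60) (by norm_num) (by norm_num) (by rw [hG]; norm_num) a b c hb hc
  obtain ⟨rfl, rfl⟩ := srg_params hs
  obtain ⟨α, _, _, B, hα, hB, ⟨e⟩⟩ := SRGSeventySeven.exists_model hs
  obtain ⟨f₀, hf₀⟩ := RankThreeHundred.exists_hom_injective (G := G) hi
  let c₀ : (Γ ≃g Γ) →* (Cfsg.blockGraph B ≃g Cfsg.blockGraph B) :=
    MonoidHom.mk' (fun g => (e.trans g).trans e.symm) (fun g g' => RelIso.ext fun x => by simp)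
  have hc₀ : Function.Injective c₀ := fun g g' h => RelIso.ext fun x => by
    have := congrFun (congrArg DFunLike.coe h) (e.symm x)
    simpa [c₀] using this
  obtain ⟨f₁, hf₁⟩ := exists_hom_setSystemAut hα hB
  obtain ⟨-, -, -, ⟨ψ⟩⟩ := Witt.exists_aut_equiv (W := {none, some 0}) (Or.inr (Or.inr rfl))
    (Witt.iso_std22 hα hB)
  let f := ψ.toMonoidHom.comp (f₁.comp (c₀.comp f₀))
  have hf : Function.Injective f := ψ.injective.comp (hf₁.comp (hc₀.comp hf₀))
  have hrange : f.range.index = 2 := by
    have := f.range.card_mul_index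
    rw [← Nat.card_congr (MonoidHom.ofInjective hf).toEquiv, hG, Witt.natCard_setStab_pair] at this
    omega
  let N := Cfsg.Spor.M22.subgroupOf (Witt.setStab {none, some 0})
  have eN : N ≃* Cfsg.Spor.M22 := Subgroup.subgroupOfEquivOfLe Witt.sporM22_le
  haveI := CfsgLib.Golay.isSimpleGroup_sporM22
  haveI : IsSimpleGroup N := CfsgLib.Steiner.isSimpleGroup_of_mulEquiv eN
  have hNeq : f.range = N := RankThreeHundred.eq_of_simple hrange Witt.index_sporM22 (by
    rw [Nat.card_congr eN.toEquiv, CfsgLib.Golay.natCard_sporM22]; norm_num)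
  exact ⟨((MonoidHom.ofInjective hf).trans (MulEquiv.subgroupCongr hNeq)).trans eN⟩

/-- The same in terms of a subgroup of index 77. -/
theorem isoM22_of_subgroup {G : Type*} [Group G] [Finite G] [IsSimpleGroup G]
    (hG : Nat.card G = 443520) (H : Subgroup G) (hH : H.index = 77) (x y : G)
    (hx : Nat.card H = 16 * Nat.card (H ⊓ H.map (MulAut.conj x).toMonoidHom : Subgroup G))
    (hy : Nat.card H = 60 * Nat.card (H ⊓ H.map (MulAut.conj y).toMonoidHom : Subgroup G)) :
    Cfsg.Spor.IsoM22 G := by
  classical
  have hne : H ≠ ⊤ := by rintro rfl; simp at hH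
  have hcore : H.normalCore = ⊥ := by
    rcases IsSimpleGroup.eq_bot_or_eq_top_of_normal H.normalCore inferInstance with h | h
    · exact h
    · exact absurd (top_le_iff.mp (h ▸ Subgroup.normalCore_le H)) hne
  haveI : FaithfulSMul G (G ⧸ H) := by
    refine ⟨fun {g g'} h => ?_⟩
    have h1 : g⁻¹ * g' ∈ (MulAction.toPermHom G (G ⧸ H)).ker := by
      rw [MonoidHom.mem_ker]
      ext p
      simp [mul_smul, ← h p]
    rw [← Subgroup.normalCore_eq_ker, hcore, Subgroup.mem_bot] at h1
    exact inv_mul_eq_one.mp h1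
  haveI : Fintype (G ⧸ H) := Fintype.ofFinite _
  have horb : ∀ (z : G) (k : ℕ), Nat.card H = k * Nat.card (H ⊓ H.map (MulAut.conj z).toMonoidHom : Subgroup G) →
      (MulAction.orbit (MulAction.stabilizer G ((1 : G) : G ⧸ H)) (z : G ⧸ H)).ncard = k := by
    intro z k hk
    rw [MulAction.stabilizer_quotient, ← MulAction.index_stabilizer]
    have hst : MulAction.stabilizer H (z : G ⧸ H) =
        (H ⊓ H.map (MulAut.conj z).toMonoidHom).subgroupOf H := by
      ext h
      rw [MulAction.mem_stabilizer_iff, Subgroup.mem_subgroupOf, Subgroup.mem_inf]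
      change ((((h : G) * z : G)) : G ⧸ H) = (z : G ⧸ H) ↔ _
      simp only [h.2, true_and, Subgroup.mem_map_equiv, MulAut.conj_symm_apply]
      rw [eq_comm, QuotientGroup.eq, ← mul_assoc]
    rw [hst]
    have := ((H ⊓ H.map (MulAut.conj z).toMonoidHom).subgroupOf H).card_mul_index
    rw [Nat.card_congr (Subgroup.subgroupOfEquivOfLe inf_le_left).toEquiv, hk, mul_comm k] at this
    exact Nat.eq_of_mul_eq_mul_left Nat.card_pos this
  exact isoM22_of_rank_three hG (by rw [← Nat.card_eq_fintype_card]; exact hH) ((1 : G) : G ⧸ H) (x : G ⧸ H) (y : G ⧸ H)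
    (horb x 16 hx) (horb y 60 hy)

end CfsgLib.MathieuTwentyTwo
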