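import Cfsg.Agent.Lib.MathieuTwentyTwo.Cosets
import Cfsg.Agent.Lib.MathieuTwentyTwo.RankThree

/-!
Suborbits of lengths 16 and 60, and the recognition from the local data.
-/

set_option autoImplicit false

namespace CfsgLib.MathieuTwentyTwo.NseRoute

open Subgroup CfsgLib.Recog.OrderCounts

universe u

variable {G : Type u} [Group G] [Finite G]

/-- Conjugate of a subgroup. -/
abbrev cjg (K : Subgroup G) (a : G) : Subgroup G := K.map (MulAut.conj a).toMonoidHom

omit [Finite G] in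
theorem card_cjg (K : Subgroup G) (a : G) : Nat.card (cjg K a) = Nat.card K :=
  Subgroup.card_map_of_injective (MulAut.conj a).injective

omit [Finite G] in
theorem cjg_cjg (K : Subgroup G) (a b : G) : cjg (cjg K b) a = cjg K (a * b) := by
  ext u
  simp [mem_map_conj, mul_assoc]

omit [Finite G] in
theorem cjg_one (K : Subgroup G) : cjg K 1 = K := by
  ext u
  simp [mem_map_conj]

omit [Finite G] in
theorem cjg_inf (K L : Subgroup G) (a : G) : cjg (K ⊓ L) a = cjg K a ⊓ cjg L a :=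
  Subgroup.map_inf K L _ (MulAut.conj a).injective

theorem two_pow_four {k : ℕ} (hk : k ≤ 4) (h4 : 4 ≤ 2 ^ k) (h16 : 2 ^ k ≠ 16) : k = 2 ∨ k = 3 := by
  revert h4 h16
  interval_cases k <;> norm_num

theorem finish_arith {m p q : ℕ} (hm : m = 96 ∨ m = 128 ∨ m = 192 ∨ m = 384) (hp : p = 4 ∨ p = 8)
    (hq : q = 4 ∨ q = 8) (h1 : m ∣ p * 360) (h2 : m ∣ q * 360) :
    m = 96 ∨ (m = 192 ∧ p = 8 ∧ q = 8) := by
  rcases hm with rfl | rfl | rfl | rfl <;> rcases hp with rfl | rfl <;> rcases hq with rfl | rfl <;>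
    omega

namespace Sixteen

variable (h : Local G) {t x : G} {R : Subgroup G} (S : Sixteen t x R)
include h S

theorem eq_one_of_inter {a u : G} (ha : a ∉ normalizer (eOf R x : Set G)) (hu : u ∈ eOf R x)
    (hu' : u ∈ cjg (eOf R x) a) : u = 1 := by
  by_contra hne
  rw [mem_map_conj] at hu'
  refine ha (S.mem_normalizer_of_conj h hu' (fun e => hne ?_) (by simpa [mul_assoc] using hu))
  have := congrArg (fun w => a * w * a⁻¹) e
  simpa [mul_assoc] using this

theorem four_le_inter {a : G} {d : G}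
    (hd : d ∈ eOf R x ⊓ cjg (normalizer (eOf R x : Set G)) a) (hd1 : d ≠ 1) :
    4 ≤ Nat.card (cjg (eOf R x) a ⊓ normalizer (eOf R x : Set G) : Subgroup G) := by
  have hsq : ∀ v ∈ cjg (eOf R x) a, v * v = 1 := by
    rintro _ ⟨v, hv, rfl⟩
    rw [← map_mul, S.sq v hv, map_one]
  have hcomm : ∀ v ∈ cjg (eOf R x) a, ∀ w ∈ cjg (eOf R x) a, Commute v w := by
    rintro _ ⟨v, hv, rfl⟩ _ ⟨w, hw, rfl⟩
    exact (S.comm v hv w hw).map (MulAut.conj a).toMonoidHom
  have hn : ∀ v ∈ cjg (eOf R x) a, d * v * d⁻¹ ∈ cjg (eOf R x) a := by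
    rintro _ ⟨v, hv, rfl⟩
    obtain ⟨k, hk, hkd⟩ := hd.2
    refine ⟨k * v * k⁻¹, conj_mem_of_mem_normalizer hk hv, ?_⟩
    rw [← hkd]
    simp [mul_assoc]
  have hle := card_le_sq_fixed hsq hcomm (S.sq d hd.1) hn
  rw [card_cjg, S.card] at hle
  have h4 : 4 ≤ Nat.card (cjg (eOf R x) a ⊓ centralizer ({d} : Set G) : Subgroup G) := by
    by_contra hlt
    push Not at hlt
    have := Nat.mul_le_mul (Nat.le_of_lt_succ hlt) (Nat.le_of_lt_succ hlt)
    omega
  exact h4.trans (Nat.le_of_dvd Nat.card_pos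
    (Subgroup.card_dvd_of_le (inf_le_inf_left _ (S.centralizer_le h hd.1 hd1))))

theorem card_inf_ge {a : G} : 75 ≤ Nat.card
    (normalizer (eOf R x : Set G) ⊓ cjg (normalizer (eOf R x : Set G)) a : Subgroup G) := by
  have := card_mul_card_le (normalizer (eOf R x : Set G)) (cjg (normalizer (eOf R x : Set G)) a)
  rw [card_cjg, S.card_normalizer, h.card] at this
  omega

theorem not_twentyfive_dvd : ¬ 5 * 5 ∣ Nat.card G := by
  have := S.ht
  rw [h.card]; norm_num

/-- A five-normaliser leaves the configuration, with a suborbit of length 16. -/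
theorem exists_orbit_sixteen : ∃ f g : G, f ∈ normalizer (eOf R x : Set G) ∧ orderOf f = 5 ∧
    g ∉ normalizer (eOf R x : Set G) ∧ g ∈ normalizer ((zpowers f : Subgroup G) : Set G) ∧
    (∀ n ∈ normalizer ((zpowers f : Subgroup G) : Set G), n ∈ normalizer (eOf R x : Set G) ∨
      g⁻¹ * n ∈ normalizer (eOf R x : Set G)) ∧
    Nat.card (normalizer (eOf R x : Set G) ⊓ cjg (normalizer (eOf R x : Set G)) g : Subgroup G) = 360 := by
  classical
  have : Fact (Nat.Prime 5) := ⟨Nat.prime_five⟩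
  set E := eOf R x with hE
  set H := normalizer (E : Set G) with hH
  have hd25 := S.not_twentyfive_dvd h
  obtain ⟨⟨f, hfH⟩, hfo⟩ := exists_prime_orderOf_dvd_card' (G := H) 5
    (by rw [S.card_normalizer]; norm_num)
  rw [Subgroup.orderOf_mk] at hfo
  set N := normalizer ((zpowers f : Subgroup G) : Set G) with hN
  have hN20 : Nat.card N = 20 := h.normalizer_five hfo
  have hfN : f ∈ N := Subgroup.le_normalizer (mem_zpowers f)
  obtain ⟨n, hn1, hn⟩ := exists_mod_five (M := H) hfH hfo hd25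
  rw [S.card_normalizer] at hn
  have hNH : Nat.card (H ⊓ N : Subgroup G) = 10 := by
    have h5 : 5 ∣ Nat.card (H ⊓ N : Subgroup G) := hfo ▸ Subgroup.orderOf_dvd_natCard _ ⟨hfH, hfN⟩
    have h20 : Nat.card (H ⊓ N : Subgroup G) ∣ 20 := hN20 ▸ Subgroup.card_dvd_of_le inf_le_right
    generalize Nat.card (H ⊓ N : Subgroup G) = c at h5 h20 hn ⊢
    obtain ⟨k, rfl⟩ := h5
    have hk : k ∣ 4 := Nat.dvd_of_mul_dvd_mul_left (k := 5) (by norm_num) (by simpa using h20)
    have := Nat.le_of_dvd (by norm_num) hk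
    interval_cases k <;> omega
  obtain ⟨g, hgN, hgH⟩ : ∃ g ∈ N, g ∉ H := by
    by_contra hc
    push Not at hc
    rw [inf_eq_right.2 (fun a ha => hc a ha : N ≤ H), hN20] at hNH
    omega
  set K := (H ⊓ N).subgroupOf N with hK
  have hKidx : K.index = 2 := by
    have e := K.card_mul_index
    rw [Nat.card_congr (Subgroup.subgroupOfEquivOfLe (inf_le_right : H ⊓ N ≤ N)).toEquiv, hNH, hN20] at e
    omega
  have hKn : K.Normal := Subgroup.normal_of_index_eq_two hKidx
  have hdich : ∀ a ∈ N, a ∈ H ∨ g⁻¹ * a ∈ H := by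
    intro a ha
    by_cases haH : a ∈ H
    · exact Or.inl haH
    · refine Or.inr ?_
      have hm : (⟨g, hgN⟩⁻¹ * ⟨a, ha⟩ : N) ∈ K := by
        rw [Subgroup.mul_mem_iff_of_index_two hKidx]
        refine ⟨fun h1 => absurd (inv_mem_iff.1 h1).1 hgH, fun h1 => absurd h1.1 haH⟩
      exact hm.1
  have hg2 : g * g ∈ H := by
    rcases hdich (g * g) (mul_mem hgN hgN) with e | e
    · exact e
    · exact absurd (by simpa using e) hgH
  have hnorm : ∀ a ∈ H, a ∈ N → g⁻¹ * a * g ∈ H := by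
    intro a ha haN
    have := hKn.conj_mem ⟨a, haN⟩ ⟨ha, haN⟩ ⟨g, hgN⟩⁻¹
    have := this.1
    simpa using this
  set M := H ⊓ cjg H g with hM
  have hNM : H ⊓ N ≤ M := fun a ha => ⟨ha.1, mem_map_conj.2 (hnorm a ha.1 ha.2)⟩
  have hfM : f ∈ M := hNM ⟨hfH, hfN⟩
  obtain ⟨m, hm1, hm⟩ := exists_mod_five (M := M) hfM hfo hd25
  have hMN : M ⊓ N = H ⊓ N := le_antisymm (inf_le_inf_right _ inf_le_left) (le_inf hNM inf_le_right)
  rw [← hN, hMN, hNH] at hm
  -- the elementary group meets the conjugate trivially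
  have hD : Nat.card (E ⊓ M : Subgroup G) = 1 := by
    set D := E ⊓ M with hDdef
    have hd16 : Nat.card D ∣ 2 ^ 4 := by
      rw [show (2 ^ 4 : ℕ) = 16 by norm_num, ← S.card]
      exact Subgroup.card_dvd_of_le inf_le_left
    have h51 : 5 ∣ Nat.card D - 1 := by
      by_contra h5
      obtain ⟨v, ⟨hv, hv1⟩, hfv⟩ := exists_commute_of_not_dvd Nat.prime_five hfo ((D : Set G) \ {1})
        (fun v hv => ⟨⟨conj_mem_of_mem_normalizer hfH hv.1.1, M.mul_mem (M.mul_mem hfM hv.1.2) (M.inv_mem hfM)⟩,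
          fun e => hv.2 (by simpa using e)⟩) (by
          rw [Set.ncard_sdiff_singleton_of_mem (one_mem _), ← Nat.card_coe_set_eq]
          exact h5)
      exact h.five_no_commute_two hfo hv1 (S.sq v hv.1) hfv
    obtain ⟨k, hk, ek⟩ := (Nat.dvd_prime_pow Nat.prime_two).1 hd16
    rw [ek] at h51 ⊢
    revert h51
    interval_cases k <;> norm_num
    exfalso
    -- the conjugates normalise each other
    have hEM : E ≤ M := inf_eq_left.1 (Subgroup.eq_of_le_of_card_ge inf_le_left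
      (by rw [← hDdef, ek, S.card]; norm_num))
    have hE'H : ∀ e ∈ E, g * e * g⁻¹ ∈ H := by
      intro e he
      have h1 : g⁻¹ * e * g ∈ H := mem_map_conj.1 (hEM he).2
      have := mul_mem (mul_mem hg2 h1) (inv_mem hg2)
      simpa [mul_assoc] using this
    refine hgH ?_
    obtain ⟨v, hv, hv1⟩ := h.exists_ne_one_fourOf S.hx
    have hvE := h.fourOf_le_eOf S.toSetting hv
    refine S.mem_normalizer_of_conj h hvE hv1 (S.cent (Subgroup.mem_centralizer_iff.2 fun e he => ?_))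
    set u := g * v * g⁻¹ with hu
    have hc1 : e * u * e⁻¹ * u⁻¹ ∈ E := by
      have : e * u * e⁻¹ * u⁻¹ = e * (u * e⁻¹ * u⁻¹) := by group
      rw [this]
      exact mul_mem he (conj_mem_of_mem_normalizer (hE'H v hvE) (inv_mem he))
    have hc2 : e * u * e⁻¹ * u⁻¹ ∈ cjg E g := by
      rw [mem_map_conj]
      have hh : g⁻¹ * e * g ∈ H := mem_map_conj.1 (hEM he).2
      have := mul_mem (conj_mem_of_mem_normalizer hh hvE) (inv_mem hvE)
      simpa [hu, mul_assoc] using this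
    have h1 := S.eq_one_of_inter h hgH hc1 hc2
    rw [mul_inv_eq_one, mul_inv_eq_iff_eq_mul] at h1
    exact h1
  refine ⟨f, g, hfH, hfo, hgH, hgN, hdich, ?_⟩
  have hd360 := card_dvd_inf_mul E M inf_le_left
  rw [hD, S.card_normalizer, S.card, hm] at hd360
  have h75 : 75 ≤ m * 10 := hm ▸ S.card_inf_ge h
  have hm36 : m ∣ 36 := Nat.dvd_of_mul_dvd_mul_right (k := 10) (by norm_num) (by simpa using hd360)
  have := Nat.le_of_dvd (by norm_num) hm36
  rw [hm]
  interval_cases m <;> omega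

set_option maxHeartbeats 1000000 in
theorem card_inter_ninetysix {f g a : G} (hfH : f ∈ normalizer (eOf R x : Set G)) (hfo : orderOf f = 5)
    (hdich : ∀ n ∈ normalizer ((zpowers f : Subgroup G) : Set G), n ∈ normalizer (eOf R x : Set G) ∨
      g⁻¹ * n ∈ normalizer (eOf R x : Set G))
    (ha : a ∉ normalizer (eOf R x : Set G))
    (hag : ¬ ∃ p ∈ normalizer (eOf R x : Set G), ∃ q ∈ normalizer (eOf R x : Set G), a = p * g * q) :
    Nat.card (normalizer (eOf R x : Set G) ⊓ cjg (normalizer (eOf R x : Set G)) a : Subgroup G) = 96 := by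
  classical
  have : Fact (Nat.Prime 5) := ⟨Nat.prime_five⟩
  have : Fact (Nat.Prime 3) := ⟨Nat.prime_three⟩
  have : Fact (Nat.Prime 2) := ⟨Nat.prime_two⟩
  set E := eOf R x with hE
  set H := normalizer (E : Set G) with hH
  set M := H ⊓ cjg H a with hM
  have hd25 := S.not_twentyfive_dvd h
  have hM75 : 75 ≤ Nat.card M := S.card_inf_ge h
  -- no element of order five
  have h5M : ¬ 5 ∣ Nat.card M := by
    intro hd
    obtain ⟨⟨f', hf'⟩, hf'o⟩ := exists_prime_orderOf_dvd_card' 5 hd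
    rw [Subgroup.orderOf_mk] at hf'o
    have hf'a : a⁻¹ * f' * a ∈ H := mem_map_conj.1 hf'.2
    have hf'ao : orderOf (a⁻¹ * f' * a) = 5 := by
      rw [← hf'o, ← orderOf_conj a⁻¹ f', inv_inv]
    obtain ⟨p, hp, hpf⟩ := exists_conj_five hd25 hfH hfo hf'.1 hf'o
    obtain ⟨q, hq, hqf⟩ := exists_conj_five hd25 hfH hfo hf'a hf'ao
    set w := p * a * q⁻¹ with hw
    have hz1 : zpowers (p * f' * p⁻¹) = zpowers f := Subgroup.eq_of_le_of_card_ge (zpowers_le.2 hpf)
      (by rw [Nat.card_zpowers, Nat.card_zpowers, orderOf_conj, hf'o, hfo])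
    have hwN : w⁻¹ ∈ normalizer ((zpowers f : Subgroup G) : Set G) := by
      refine mem_normalizer_of_conj_mem fun b hb => ?_
      rw [← hz1, Subgroup.mem_zpowers_iff] at hb
      obtain ⟨i, rfl⟩ := hb
      have e : w⁻¹ * (p * f' * p⁻¹) * w⁻¹⁻¹ = q * (a⁻¹ * f' * a) * q⁻¹ := by rw [hw]; group
      rw [← conj_zpow, e]
      exact zpow_mem hqf i
    have hback : a = p⁻¹ * w * q := by rw [hw]; group
    rcases hdich w (inv_mem_iff.1 hwN) with e | e
    · refine ha ?_
      rw [hback]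
      exact mul_mem (mul_mem (inv_mem hp) e) hq
    · exact hag ⟨p⁻¹, inv_mem hp, g⁻¹ * w * q, mul_mem e hq, by rw [hback]; group⟩
  set D := E ⊓ cjg H a with hD
  set D' := cjg E a ⊓ H with hD'
  have hEMD : E ⊓ M = D := by
    rw [hD, hM, ← inf_assoc, inf_eq_left.2 (Subgroup.le_normalizer : E ≤ H)]
  have hMD : Nat.card M ∣ Nat.card D * 360 := by
    have := card_dvd_inf_mul E M inf_le_left
    rwa [hEMD, S.card_normalizer, S.card, show (5760 / 16 : ℕ) = 360 by norm_num] at this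
  -- the other side
  have hback : cjg (cjg H a) a⁻¹ = H := by rw [cjg_cjg, inv_mul_cancel, cjg_one]
  have hDback : Nat.card (E ⊓ cjg H a⁻¹ : Subgroup G) = Nat.card D' := by
    rw [← card_cjg (E ⊓ cjg H a⁻¹) a, cjg_inf, cjg_cjg, mul_inv_cancel, cjg_one]
  have hD'back : Nat.card (cjg E a⁻¹ ⊓ H : Subgroup G) = Nat.card D := by
    rw [← card_cjg (cjg E a⁻¹ ⊓ H) a, cjg_inf, cjg_cjg, mul_inv_cancel, cjg_one]
  have hMD' : Nat.card M ∣ Nat.card D' * 360 := by
    have e : Nat.card (H ⊓ cjg H a⁻¹ : Subgroup G) = Nat.card M := by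
      rw [← card_cjg (H ⊓ cjg H a⁻¹) a, cjg_inf, cjg_cjg, mul_inv_cancel, cjg_one, inf_comm]
    have := card_dvd_inf_mul E (H ⊓ cjg H a⁻¹) inf_le_left
    rwa [e, ← inf_assoc, inf_eq_left.2 (Subgroup.le_normalizer : E ≤ H), hDback, S.card_normalizer,
      S.card, show (5760 / 16 : ℕ) = 360 by norm_num] at this
  have hd5760 : Nat.card M ∣ 5760 := S.card_normalizer ▸ Subgroup.card_dvd_of_le inf_le_left
  have hDne : ∃ d ∈ D, d ≠ 1 := by
    by_contra hc
    push Not at hc
    rw [(Subgroup.eq_bot_iff_forall D).2 hc, Subgroup.card_bot, one_mul] at hMD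
    have h72 : Nat.card M ∣ 72 := ((Nat.prime_five.coprime_iff_not_dvd.2 h5M).symm).dvd_of_dvd_mul_right
      (show Nat.card M ∣ 72 * 5 from hMD)
    have := Nat.le_of_dvd (by norm_num) h72
    omega
  obtain ⟨d, hdD, hd1⟩ := hDne
  have hD'4 : 4 ≤ Nat.card D' := S.four_le_inter h hdD hd1
  obtain ⟨d', hd'D, hd'1⟩ : ∃ d' ∈ E ⊓ cjg H a⁻¹, d' ≠ 1 := by
    by_contra hc
    push Not at hc
    rw [← hDback, (Subgroup.eq_bot_iff_forall (E ⊓ cjg H a⁻¹)).2 hc, Subgroup.card_bot] at hD'4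
    omega
  have hD4 : 4 ≤ Nat.card D := hD'back ▸ S.four_le_inter h hd'D hd'1
  -- the two sides commute
  have hcomm : ∀ u ∈ D, ∀ v ∈ D', Commute u v := by
    intro u hu v hv
    have hc1 : u * v * u⁻¹ * v⁻¹ ∈ E := by
      rw [show u * v * u⁻¹ * v⁻¹ = u * (v * u⁻¹ * v⁻¹) by group]
      exact mul_mem hu.1 (conj_mem_of_mem_normalizer hv.2 (inv_mem hu.1))
    have hc2 : u * v * u⁻¹ * v⁻¹ ∈ cjg E a := by
      obtain ⟨k, hk, rfl⟩ := hu.2
      obtain ⟨b, hb, rfl⟩ := hv.1
      exact ⟨k * b * k⁻¹ * b⁻¹, mul_mem (conj_mem_of_mem_normalizer hk hb) (inv_mem hb), by simp [mul_assoc]⟩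
    have h1 := S.eq_one_of_inter h ha hc1 hc2
    rw [mul_inv_eq_one, mul_inv_eq_iff_eq_mul] at h1
    exact h1
  have hD'E : ∀ v ∈ D', v ∈ E → v = 1 := fun v hv hvE => S.eq_one_of_inter h ha hvE hv.1
  have hd16 : Nat.card D ∣ 2 ^ 4 := by
    rw [show (2 ^ 4 : ℕ) = 16 by norm_num, ← S.card]
    exact Subgroup.card_dvd_of_le inf_le_left
  have hd'16 : Nat.card D' ∣ 2 ^ 4 := by
    rw [show (2 ^ 4 : ℕ) = 16 by norm_num, ← S.card, ← card_cjg E a]
    exact Subgroup.card_dvd_of_le inf_le_left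
  have hD16 : Nat.card D ≠ 16 := by
    intro e
    have hEq : D = E := Subgroup.eq_of_le_of_card_ge inf_le_left (by rw [e, S.card])
    have hle : D' ≤ E := fun v hv => S.cent (Subgroup.mem_centralizer_iff.2 fun u hu =>
      (hcomm u (hEq.symm ▸ hu) v hv).eq)
    rw [(Subgroup.eq_bot_iff_forall D').2 (fun v hv => hD'E v hv (hle hv)), Subgroup.card_bot] at hD'4
    omega
  have hD'16 : Nat.card D' ≠ 16 := by
    intro e
    have hEq : D' = cjg E a := Subgroup.eq_of_le_of_card_ge inf_le_left (by rw [e, card_cjg, S.card])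
    -- then `D` centralises the conjugate, which is self-centralising
    have hbot : D = ⊥ := (Subgroup.eq_bot_iff_forall D).2 fun u hu => by
      refine S.eq_one_of_inter h ha hu.1 (mem_map_conj.2 (S.cent (Subgroup.mem_centralizer_iff.2 fun w hw => ?_)))
      have hm : a * w * a⁻¹ ∈ D' := hEq.symm ▸ mem_map_conj.2 (by simpa [mul_assoc] using hw)
      have := ((hcomm u hu _ hm).map (MulAut.conj a⁻¹).toMonoidHom).eq
      simpa [mul_assoc] using this.symm
    rw [hbot, Subgroup.card_bot] at hD4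
    omega
  have h9M : ¬ 9 ∣ Nat.card M := by
    intro h9
    obtain ⟨P', hP'⟩ := Sylow.exists_subgroup_card_pow_prime (G := M) 3 (n := 2) (by simpa using h9)
    set P := P'.map M.subtype with hPdef
    have hPM : P ≤ M := Subgroup.map_subtype_le _
    have hPc : Nat.card P = 9 := by
      rw [hPdef, Subgroup.card_map_of_injective M.subtype_injective, hP']; norm_num
    have hPp : IsPGroup 3 P := IsPGroup.of_card (n := 2) (by rw [hPc]; norm_num)
    have hPD : ∀ z ∈ P, ∀ v ∈ D, z * v * z⁻¹ ∈ D := fun z hz v hv =>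
      ⟨conj_mem_of_mem_normalizer (hPM hz).1 hv.1,
        (cjg H a).mul_mem ((cjg H a).mul_mem (hPM hz).2 hv.2) ((cjg H a).inv_mem (hPM hz).2)⟩
    have hfix : ∀ v ∈ D, (∀ z ∈ P, z * v * z⁻¹ = v) → v = 1 := by
      intro v hv hall
      by_contra hv1
      have hle : P ≤ centralizer ({v} : Set G) := fun z hz =>
        mem_centralizer_singleton_iff.2 (mul_inv_eq_iff_eq_mul.1 (hall z hz))
      have := Subgroup.card_dvd_of_le hle
      rw [hPc, h.card_centralizer_involution (orderOf_eq_two (S.sq v hv.1) hv1)] at this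
      norm_num at this
    have hD4' : Nat.card D = 4 := by
      have h3 : 3 ∣ Nat.card D - 1 := by
        by_contra h3
        obtain ⟨v, hv, hvfix⟩ := exists_fixed_of_isPGroup hPp ((D : Set G) \ {1})
          (fun z hz v hv => ⟨hPD z hz v hv.1, fun e => hv.2 (by simpa using e)⟩) (by
            rw [Set.ncard_sdiff_singleton_of_mem (one_mem _), ← Nat.card_coe_set_eq]; exact h3)
        exact hv.2 (hfix v hv.1 hvfix)
      obtain ⟨k, hk, ek⟩ := (Nat.dvd_prime_pow Nat.prime_two).1 hd16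
      rw [ek] at h3 hD4 hD16 ⊢
      rcases two_pow_four hk hD4 hD16 with rfl | rfl
      · norm_num
      · norm_num at h3
    -- an element of `P` fixing `D`
    set T : Set G := (D : Set G) \ {1} with hT
    have hTc : T.ncard = 3 := by
      rw [hT, Set.ncard_sdiff_singleton_of_mem (one_mem _), ← Nat.card_coe_set_eq]
      exact congrArg (· - 1) hD4'
    have hTinv : ∀ z ∈ P, ∀ v ∈ T, z * v * z⁻¹ ∈ T := fun z hz v hv =>
      ⟨hPD z hz v hv.1, fun e => hv.2 (by simpa using e)⟩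
    have hdT : d ∈ T := ⟨hdD, hd1⟩
    have hnot : ¬ Function.Injective (fun z : P => (⟨(z : G) * d * (z : G)⁻¹, hTinv z z.2 d hdT⟩ : T)) := by
      intro hinj
      have := Nat.card_le_card_of_injective _ hinj
      rw [Nat.card_coe_set_eq, hTc, hPc] at this
      omega
    rw [Function.not_injective_iff] at hnot
    obtain ⟨z1, z2, e, hne⟩ := hnot
    simp only [Subtype.mk.injEq] at e
    set z : G := (z2 : G)⁻¹ * z1 with hzdef
    have hzP : z ∈ P := mul_mem (inv_mem z2.2) z1.2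
    have hz1 : z ≠ 1 := fun e1 => hne (Subtype.ext (by
      rw [hzdef, inv_mul_eq_one] at e1
      exact e1.symm))
    have hzo : orderOf z = 3 := by
      obtain ⟨Q, hQ⟩ := hPp.exists_le_sylow
      exact h.orderOf_mem_sylow_three Q (hQ hzP) hz1
    have hzd : Commute z d := mul_inv_eq_iff_eq_mul.1 (by
      calc z * d * z⁻¹ = (z2 : G)⁻¹ * ((z1 : G) * d * (z1 : G)⁻¹) * z2 := by rw [hzdef]; group
        _ = d := by rw [e]; group)
    obtain ⟨v, hvT, hzv⟩ := exists_commute_of_not_dvd Nat.prime_three hzo (T \ {d}) (by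
      rintro v ⟨hv, hvd⟩
      refine ⟨hTinv z hzP v hv, fun e' => hvd ?_⟩
      have e2 : z⁻¹ * d * z = d := by rw [mul_assoc, ← hzd.eq, inv_mul_cancel_left]
      have := congrArg (fun w => z⁻¹ * w * z) (Set.mem_singleton_iff.1 e')
      simp only [e2] at this
      exact Set.mem_singleton_iff.2 (Eq.trans (by group) this)) (by rw [Set.ncard_sdiff_singleton_of_mem hdT, hTc]; norm_num)
    have hall : ∀ u ∈ D, Commute z u :=
      commute_of_two hD4' hdD hvT.1.1 hd1 hvT.1.2 (fun e' => hvT.2 e'.symm) hzd hzv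
    have hDle : D ≤ fourOf z := fun u hu => (h.mem_fourOf hzo).2 ⟨hall u hu, S.sq u hu.1⟩
    have hDeq : D = fourOf z := Subgroup.eq_of_le_of_card_ge hDle (by rw [hD4', h.card_fourOf hzo])
    have hD'p : IsPGroup 2 D' :=
      ((S.core.isPGroup.to_le (inf_le_left : E ≤ R)).map _).to_le (inf_le_left : D' ≤ cjg E a)
    have hzD' : z ∈ normalizer (D' : Set G) := mem_normalizer_of_conj_mem fun v hv => by
      refine ⟨?_, H.mul_mem (H.mul_mem (hPM hzP).1 hv.2) (H.inv_mem (hPM hzP).1)⟩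
      obtain ⟨k, hk, hkz⟩ := (hPM hzP).2
      obtain ⟨b, hb, hbv⟩ := hv.1
      refine ⟨k * b * k⁻¹, conj_mem_of_mem_normalizer hk hb, ?_⟩
      rw [← hkz, ← hbv]; simp [mul_assoc]
    have hle := S.le_of_four h hdD.1 hd1 hzo (hDeq ▸ hdD) hD'p
      (fun u hu v hv => hcomm u (hDeq.symm ▸ hu) v hv) hzD'
    rw [(Subgroup.eq_bot_iff_forall D').2 (fun v hv => hD'E v hv (hle hv)), Subgroup.card_bot] at hD'4
    omega
  have h384 : Nat.card M ∣ 384 := by
    have hd : Nat.card M ∣ 1152 :=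
      ((Nat.prime_five.coprime_iff_not_dvd.2 h5M).symm).dvd_of_dvd_mul_right
        (show Nat.card M ∣ 1152 * 5 from hd5760)
    by_cases h3 : 3 ∣ Nat.card M
    · obtain ⟨k, hk⟩ := h3
      rw [hk] at h9M hd ⊢
      have hk3 : ¬ 3 ∣ k := fun ⟨j, hj⟩ => h9M ⟨j, by rw [hj]; ring⟩
      have hk384 : k ∣ 384 := Nat.dvd_of_mul_dvd_mul_left (k := 3) (by norm_num) (by simpa using hd)
      have : k ∣ 128 := ((Nat.prime_three.coprime_iff_not_dvd.2 hk3).symm).dvd_of_dvd_mul_right
        (show k ∣ 128 * 3 from hk384)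
      obtain ⟨j, hj⟩ := this
      exact ⟨j, by rw [mul_assoc, ← hj]; norm_num⟩
    · exact (((Nat.prime_three.coprime_iff_not_dvd.2 h3).symm.pow_right 2).dvd_of_dvd_mul_right
        (show Nat.card M ∣ 128 * 3 ^ 2 from hd)).trans (by norm_num)
  obtain ⟨j, hj, eD⟩ := (Nat.dvd_prime_pow Nat.prime_two).1 hd16
  obtain ⟨j', hj', eD'⟩ := (Nat.dvd_prime_pow Nat.prime_two).1 hd'16
  -- the order is 96 or 192, the second only with both sides of order eight
  have hfinish : Nat.card M = 96 ∨ (Nat.card M = 192 ∧ Nat.card D = 8 ∧ Nat.card D' = 8) := by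
    have hcases : Nat.card M = 96 ∨ Nat.card M = 128 ∨ Nat.card M = 192 ∨ Nat.card M = 384 := by
      obtain ⟨k, hk⟩ := h384
      have hk5 : k ≤ 5 := by
        by_contra hk6
        push Not at hk6
        have := Nat.mul_le_mul hM75 hk6
        omega
      interval_cases k <;> omega
    refine finish_arith hcases ?_ ?_ hMD hMD'
    · rw [eD] at hD4 hD16 ⊢
      rcases two_pow_four hj hD4 hD16 with rfl | rfl <;> norm_num
    · rw [eD'] at hD'4 hD'16 ⊢
      rcases two_pow_four hj' hD'4 hD'16 with rfl | rfl <;> norm_num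
  rcases hfinish with e | ⟨-, e8, e8'⟩
  · exact e
  exfalso
  -- a Sylow 2-subgroup of a centraliser abelian modulo `E`
  obtain ⟨c, hcH, hcd⟩ := S.fused d hdD.1 hd1
  set T := cjg (E ⊔ D') c⁻¹ with hT
  have hD'H : D' ≤ normalizer (E : Set G) := inf_le_right
  have hmemsup : ∀ w ∈ E ⊔ D', ∃ u ∈ E, ∃ v ∈ D', w = u * v := by
    intro w hw
    rw [← SetLike.mem_coe, Subgroup.coe_mul_of_right_le_normalizer_left E D' hD'H] at hw
    obtain ⟨u, hu, v, hv, rfl⟩ := Set.mem_mul.1 hw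
    exact ⟨u, hu, v, hv, rfl⟩
  have hTC : T ≤ centralizer ({t} : Set G) := by
    rintro _ ⟨w, hw, rfl⟩
    obtain ⟨u, hu, v, hv, rfl⟩ := hmemsup w hw
    have hc' : Commute (u * v) d := (S.comm u hu d hdD.1).mul_left (hcomm d hdD v hv).symm
    have := hc'.map (MulAut.conj c⁻¹).toMonoidHom
    rw [← hcd] at this
    exact mem_centralizer_singleton_iff.2 (by simpa [mul_assoc] using this.eq)
  have hTp : IsPGroup 2 (E ⊔ D' : Subgroup G) :=
    (S.core.isPGroup.to_le (inf_le_left : E ≤ R)).to_sup_of_normal_left'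
      (((S.core.isPGroup.to_le (inf_le_left : E ≤ R)).map _).to_le (inf_le_left : D' ≤ cjg E a)) hD'H
  have hT128 : 128 ≤ Nat.card (E ⊔ D' : Subgroup G) := by
    have hinj : Function.Injective (fun q : E × D' => (⟨q.1.1 * q.2.1,
        mul_mem (le_sup_left (b := D') q.1.2) (le_sup_right (a := E) q.2.2)⟩ : (E ⊔ D' : Subgroup G))) := by
      rintro ⟨u, v⟩ ⟨u', v'⟩ e
      simp only [Subtype.mk.injEq] at e
      have hm : (v : G) * (v' : G)⁻¹ = (u : G)⁻¹ * u' := by
        rw [eq_inv_mul_iff_mul_eq, ← mul_assoc, e, mul_inv_cancel_right]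
      have h1 : (v : G) * (v' : G)⁻¹ = 1 :=
        hD'E _ (mul_mem v.2 (inv_mem v'.2)) (hm ▸ mul_mem (inv_mem u.2) u'.2)
      have hv : v = v' := Subtype.ext (mul_inv_eq_one.1 h1)
      subst hv
      exact Prod.ext (Subtype.ext (mul_right_cancel e)) rfl
    have := Nat.card_le_card_of_injective _ hinj
    rwa [Nat.card_prod, S.card, e8'] at this
  have hTc : Nat.card T = 128 := by
    rw [hT, card_cjg]
    obtain ⟨k, hk⟩ := IsPGroup.iff_card.1 hTp
    have hd := Subgroup.card_dvd_of_le hTC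
    rw [hT, card_cjg, hk, h.card_centralizer_involution S.ht, show (384 : ℕ) = 2 ^ 7 * 3 by norm_num] at hd
    have hd7 : 2 ^ k ∣ 2 ^ 7 := (Nat.Coprime.pow_left k (by norm_num : Nat.Coprime 2 3)).dvd_of_dvd_mul_right hd
    have := Nat.le_of_dvd (by norm_num) hd7
    rw [hk] at hT128 ⊢
    omega
  refine S.no_abelian_sylow h T hTC hTc ?_
  rintro _ ⟨w, hw, rfl⟩ _ ⟨w', hw', rfl⟩
  obtain ⟨u, hu, v, hv, rfl⟩ := hmemsup w hw
  obtain ⟨u', hu', v', hv', rfl⟩ := hmemsup w' hw'
  have hvv : Commute v v' := by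
    obtain ⟨b, hb, rfl⟩ := hv.1
    obtain ⟨b', hb', rfl⟩ := hv'.1
    exact (S.comm b hb b' hb').map (MulAut.conj a).toMonoidHom
  have hm : u * v * (u' * v') * (u * v)⁻¹ * (u' * v')⁻¹ ∈ E := by
    have : u * v * (u' * v') * (u * v)⁻¹ * (u' * v')⁻¹ =
        u * (v * u' * v⁻¹) * ((v * v') * v⁻¹ * v'⁻¹) * (v' * u⁻¹ * v'⁻¹) * u'⁻¹ := by group
    rw [this, hvv.eq, mul_inv_cancel_right, mul_inv_cancel, mul_one]
    exact mul_mem (mul_mem (mul_mem hu (conj_mem_of_mem_normalizer hv.2 hu'))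
      (conj_mem_of_mem_normalizer hv'.2 (inv_mem hu))) (inv_mem hu')
  have := conj_mem_of_mem_normalizer (inv_mem hcH) hm
  simpa [mul_assoc] using this

end Sixteen

namespace Local

variable (h : Local G)
include h

/-- The local data determine the group. -/
theorem isoM22 : Cfsg.Spor.IsoM22 G := by
  classical
  have := h.isSimple
  obtain ⟨t, x, R, S⟩ := h.exists_sixteen
  obtain ⟨f, g, hfH, hfo, hgH, hgN, hdich, h360⟩ := S.exists_orbit_sixteen h
  set H := normalizer (eOf R x : Set G) with hH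
  obtain ⟨a, ha, hag⟩ : ∃ a, a ∉ H ∧ ¬ ∃ p ∈ H, ∃ q ∈ H, a = p * g * q := by
    by_contra hc
    push Not at hc
    set M := (H ⊓ cjg H g).subgroupOf H with hM
    have hMi : M.index = 16 := by
      have e := M.card_mul_index
      rw [Nat.card_congr (Subgroup.subgroupOfEquivOfLe (inf_le_left : H ⊓ cjg H g ≤ H)).toEquiv, h360,
        S.card_normalizer] at e
      omega
    have hsurj : Function.Surjective (fun q : Option (H ⧸ M) × H =>
        (match q.1 with | none => (q.2 : G) | some c => ((c.out : H) : G) * g * q.2)) := by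
      intro a
      by_cases haH : a ∈ H
      · exact ⟨(none, ⟨a, haH⟩), rfl⟩
      obtain ⟨p, hp, q, hq, rfl⟩ := hc a haH
      obtain ⟨⟨m, hm⟩, hout⟩ := QuotientGroup.mk_out_eq_mul M ⟨p, hp⟩
      have hm' : g⁻¹ * (m : G)⁻¹ * g ∈ H := mem_map_conj.1 (inv_mem (Subgroup.mem_subgroupOf.1 hm).2)
      refine ⟨(some ((⟨p, hp⟩ : H) : H ⧸ M), ⟨g⁻¹ * (m : G)⁻¹ * g * q, mul_mem hm' hq⟩), ?_⟩
      show (((QuotientGroup.mk (⟨p, hp⟩ : H) : H ⧸ M).out : H) : G) * g * (g⁻¹ * (m : G)⁻¹ * g * q) = _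
      rw [hout]
      simp [mul_assoc]
    have hle := Nat.card_le_card_of_surjective _ hsurj
    rw [Nat.card_prod, Finite.card_option, ← Subgroup.index_eq_card, hMi, h.card, S.card_normalizer] at hle
    omega
  have h96 := S.card_inter_ninetysix h hfH hfo hdich ha hag
  refine CfsgLib.MathieuTwentyTwo.isoM22_of_subgroup h.card H (S.index_normalizer h) g a ?_ ?_
  · rw [S.card_normalizer]
    exact (congrArg (16 * ·) h360).symm
  · rw [S.card_normalizer]
    exact (congrArg (60 * ·) h96).symm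

end Local

end CfsgLib.MathieuTwentyTwo.NseRoute
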