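import Cfsg.Agent.Lib.MathieuTwentyTwo.CaseA

/-!
The elementary group of order 16 with normaliser of index 77.
-/

set_option autoImplicit false

namespace CfsgLib.MathieuTwentyTwo.NseRoute

open Subgroup CfsgLib.Recog.OrderCounts

universe u

variable {G : Type u} [Group G] [Finite G]

/-- The configuration around the elementary group of order 16. -/
structure Sixteen (t x : G) (R : Subgroup G) : Prop extends Setting t x R where
  card : Nat.card (eOf R x) = 16
  sq : ∀ e ∈ eOf R x, e * e = 1
  comm : ∀ e ∈ eOf R x, ∀ f ∈ eOf R x, Commute e f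
  cent : centralizer (eOf R x : Set G) ≤ eOf R x
  le_normalizer : centralizer ({t} : Set G) ≤ normalizer (eOf R x : Set G)
  card_normalizer : Nat.card (normalizer (eOf R x : Set G)) = 5760
  fused : ∀ e ∈ eOf R x, e ≠ 1 → ∃ g ∈ normalizer (eOf R x : Set G), g * t * g⁻¹ = e

omit [Finite G] in
theorem commute_of_two {V : Subgroup G} {r a b : G} (hc : Nat.card V = 4) (ha : a ∈ V) (hb : b ∈ V)
    (ha1 : a ≠ 1) (hb1 : b ≠ 1) (hab : a ≠ b) (hra : Commute r a) (hrb : Commute r b) :
    ∀ v ∈ V, Commute r v := by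
  have : Finite V := Nat.finite_of_card_ne_zero (by omega)
  have hle : ({1, a, b} : Set G) ⊆ ((V ⊓ centralizer ({r} : Set G) : Subgroup G) : Set G) := by
    rintro w (rfl | rfl | rfl)
    exacts [one_mem _, ⟨ha, mem_centralizer_singleton_iff.2 hra.eq.symm⟩,
      ⟨hb, mem_centralizer_singleton_iff.2 hrb.eq.symm⟩]
  have hfin : ((V ⊓ centralizer ({r} : Set G) : Subgroup G) : Set G).Finite :=
    (Set.toFinite (V : Set G)).subset (fun w hw => hw.1)
  have h3 := Set.ncard_le_ncard hle hfin
  rw [Set.ncard_insert_of_notMem (by simp [ha1.symm, hb1.symm]) (Set.toFinite _), Set.ncard_pair hab,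
    ← Nat.card_coe_set_eq] at h3
  have hd := Subgroup.card_dvd_of_le (inf_le_left : V ⊓ centralizer ({r} : Set G) ≤ V)
  rw [hc] at hd
  have h4 : Nat.card (V ⊓ centralizer ({r} : Set G) : Subgroup G) = 4 := by
    have h3' : 3 ≤ Nat.card (V ⊓ centralizer ({r} : Set G) : Subgroup G) := h3
    have := Nat.le_of_dvd (by norm_num) hd
    rcases (Nat.dvd_prime_pow Nat.prime_two).1 (show Nat.card (V ⊓ centralizer ({r} : Set G) : Subgroup G) ∣ 2 ^ 2 by
      simpa using hd) with ⟨k, hk, e⟩
    interval_cases k <;> omega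
  intro v hv
  have := inf_eq_left.1 (Subgroup.eq_of_le_of_card_ge (inf_le_left : V ⊓ centralizer ({r} : Set G) ≤ V)
    (by rw [h4, hc])) hv
  exact (mem_centralizer_singleton_iff.1 this).symm

namespace Local

variable (h : Local G)
include h

set_option maxHeartbeats 1000000 in
theorem exists_sixteen : ∃ t x : G, ∃ R, Sixteen t x R := by
  classical
  have hex : ∃ t x : G, ∃ R, Setting t x R ∧ Nat.card (eOf R x) = 16 := by
    by_contra hc
    push Not at hc
    refine h.not_central_case fun t x R S r hr v hv => ?_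
    have e64 : Nat.card (eOf R x) = 64 := (h.card_eOf S).resolve_left (hc t x R S)
    have e : eOf R x = R := Subgroup.eq_of_le_of_card_ge inf_le_left (by rw [e64, S.core.card])
    exact (mem_eOf.1 (e.symm ▸ hr : r ∈ eOf R x)).2 v hv
  obtain ⟨t, x, R, S, h16⟩ := hex
  refine ⟨t, x, R, ?_⟩
  set E := eOf R x with hE
  have hVE := h.fourOf_le_eOf S
  have hxE := h.x_mem_normalizer_eOf S
  obtain ⟨y, p⟩ := h.exists_pair S.hx
  have hyE := h.mem_normalizer_eOf S p.comm
  have hEp : IsPGroup 2 E := S.core.isPGroup.to_le inf_le_left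
  obtain ⟨z, pz, hzP, hzE⟩ := h.exists_line_sub p hEp hVE hxE hyE (by rw [h16]; norm_num)
  have hcz : ∀ v ∈ fourOf z, ∀ e ∈ E, Commute v e := by
    set B := E ⊓ centralizer (fourOf z : Set G) with hB
    have hBV : fourOf x ≤ B := le_inf hVE fun v hv => Subgroup.mem_centralizer_iff.2 fun w hw =>
      (((mem_eOf.1 (hzE hw)).2 v hv).eq).symm
    have hBz : fourOf z ≤ B := le_inf hzE fun v hv => Subgroup.mem_centralizer_iff.2 fun w hw =>
      (h.fourOf_comm pz.oy hw hv).eq
    have hne : B ≠ fourOf x := fun e => by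
      obtain ⟨v, hv, hv1⟩ := h.exists_ne_one_fourOf pz.oy
      exact hv1 (h.eq_one_of_mem_both pz (e ▸ hBz hv) hv)
    have hxB : x ∈ normalizer (B : Set G) := mem_normalizer_of_conj_mem fun b hb => by
      refine ⟨conj_mem_of_mem_normalizer hxE hb.1, Subgroup.mem_centralizer_iff.2 fun w hw => ?_⟩
      have hw' : x⁻¹ * w * x⁻¹⁻¹ ∈ fourOf z := h.conj_mem_fourOf pz.oy pz.comm.symm.inv_left hw
      have := congrArg (fun q => x * q * x⁻¹) (Subgroup.mem_centralizer_iff.1 hb.2 _ hw')
      simpa [mul_assoc] using this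
    have hBc : Nat.card B = 16 := by
      have hle := Nat.le_of_dvd Nat.card_pos (Subgroup.card_dvd_of_le (inf_le_left : B ≤ E))
      rcases h.card_sub_core S S.hx ((inf_le_left : B ≤ E).trans inf_le_left) hBV hne hxB with e | e
      · exact e
      · rw [h16] at hle; omega
    intro v hv e he
    have : B = E := Subgroup.eq_of_le_of_card_ge inf_le_left (by rw [hBc, h16])
    exact Subgroup.mem_centralizer_iff.1 ((this.symm ▸ he : e ∈ B)).2 v hv
  have helem := h.elementary_of_two S pz inf_le_left h16 hVE hzE (fun v hv e he => (mem_eOf.1 he).2 v hv)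
    hcz hxE
  have ht4 : t ∈ fourOf x := h.mem_fourOf_of_involution S.hx S.ht S.hc
  have ht1 : t ≠ 1 := fun e => by have := S.ht; rw [e, orderOf_one] at this; omega
  have hcent : centralizer (E : Set G) ≤ E := by
    have hcomm : ∀ v ∈ fourOf x, ∀ c ∈ centralizer (E : Set G), Commute v c := fun v hv c hc =>
      Subgroup.mem_centralizer_iff.1 hc v (hVE hv)
    have hle : centralizer (E : Set G) ≤ centralizer ({t} : Set G) := fun c hc =>
      mem_centralizer_singleton_iff.2 (hcomm t ht4 c hc).eq.symm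
    have h3 : ¬ 3 ∣ Nat.card (centralizer (E : Set G)) := by
      intro hd
      have : Fact (Nat.Prime 3) := ⟨Nat.prime_three⟩
      obtain ⟨⟨a, ha⟩, hao⟩ := exists_prime_orderOf_dvd_card' 3 hd
      rw [Subgroup.orderOf_mk] at hao
      have hEa : E ≤ fourOf a := fun e he =>
        (h.mem_fourOf hao).2 ⟨(Subgroup.mem_centralizer_iff.1 ha e he).symm, (helem e he).1⟩
      have := Nat.le_of_dvd Nat.card_pos (Subgroup.card_dvd_of_le hEa)
      rw [h16, h.card_fourOf hao] at this
      omega
    have hd2 : Nat.card (centralizer (E : Set G)) ∣ 2 ^ 7 := by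
      have hd := Subgroup.card_dvd_of_le hle
      rw [h.card_centralizer_involution S.ht, show (384 : ℕ) = 2 ^ 7 * 3 by norm_num] at hd
      exact (Nat.Prime.coprime_iff_not_dvd Nat.prime_three).2 h3 |>.symm.dvd_of_dvd_mul_right hd
    obtain ⟨k, -, hk⟩ := (Nat.dvd_prime_pow Nat.prime_two).1 hd2
    refine h.le_eOf S (IsPGroup.of_card hk) hcomm fun c hc => ?_
    refine Subgroup.mem_centralizer_iff.2 fun e he => ?_
    have he' := conj_mem_of_mem_normalizer (inv_mem hxE) he
    have := congrArg (fun q => x * q * x⁻¹) (Subgroup.mem_centralizer_iff.1 hc _ he')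
    simpa [mul_assoc] using this
  set H := normalizer (E : Set G) with hH
  have hRH : R ≤ H := h.core_le_normalizer S S.hx S.x_mem_normalizer inf_le_left h16 hVE hxE
  have hCH : centralizer ({t} : Set G) ≤ H := by
    intro g hg
    have hgt : Commute g t := mem_centralizer_singleton_iff.1 hg
    obtain ⟨r, hr, e⟩ := h.three_conj S (z := g * x * g⁻¹) (by rw [orderOf_conj, S.hx])
      ((hgt.mul_left S.hc).mul_left hgt.inv_left)
    set n := r⁻¹ * g with hn
    have hnC : n ∈ centralizer ({t} : Set G) := mul_mem (inv_mem (S.core.le hr)) hg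
    have hnx : n * x * n⁻¹ = x ∨ n * x * n⁻¹ = x⁻¹ := by
      rcases e with e | e
      · exact Or.inl (by rw [hn, show r⁻¹ * g * x * (r⁻¹ * g)⁻¹ = r⁻¹ * (g * x * g⁻¹) * r by group, e]; group)
      · exact Or.inr (by rw [hn, show r⁻¹ * g * x * (r⁻¹ * g)⁻¹ = r⁻¹ * (g * x * g⁻¹) * r by group, e]; group)
    have hnV : ∀ v ∈ fourOf x, n⁻¹ * v * n ∈ fourOf x := by
      intro v hv
      rw [← h.mem_fourOf_conj S.hx n v]
      rcases hnx with e | e <;> rw [e]
      · exact hv
      · rwa [h.fourOf_inv S.hx]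
    have hnE : n ∈ H := mem_normalizer_of_conj_mem fun b hb => by
      rw [hE, mem_eOf] at hb ⊢
      refine ⟨S.core.conj_mem n hnC b hb.1, fun v hv => ?_⟩
      have := (hb.2 _ (hnV v hv)).map (MulAut.conj n).toMonoidHom
      simpa [mul_assoc] using this
    have : g = r * n := by rw [hn, mul_inv_cancel_left]
    rw [this]; exact mul_mem (hRH hr) hnE
  set O : Set G := (fun g => g * t * g⁻¹) '' (H : Set G) with hO
  have hOsub : O ⊆ (E : Set G) \ {1} := by
    rintro _ ⟨g, hg, rfl⟩
    exact ⟨conj_mem_of_mem_normalizer hg (hVE ht4), fun e => ht1 (by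
      simpa using (show g * t * g⁻¹ = 1 from e))⟩
  have hEc : ((E : Set G) \ {1}).ncard = 15 := by
    rw [Set.ncard_sdiff_singleton_of_mem (one_mem _), ← Nat.card_coe_set_eq]
    exact congrArg (· - 1) h16
  have hO9 : 9 ≤ O.ncard := by
    set u := y * t * y⁻¹ with hu
    have hu4 : u ∈ fourOf x := h.conj_mem_fourOf S.hx p.comm ht4
    have hut : u ≠ t := fun e => p.moves t ht4 ht1 (mul_inv_eq_iff_eq_mul.1 e)
    have hu1 : u ≠ 1 := fun e => ht1 (by simpa [hu] using e)
    have htu4 : t * u ∈ fourOf x := mul_mem ht4 hu4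
    have ht2 := pow_two_eq_one_of_orderOf S.ht
    have htu1 : t * u ≠ 1 := fun e => hut (mul_left_cancel (e.trans ht2.symm))
    have htut : t * u ≠ t := fun e => hu1 (mul_left_cancel (a := t) (by rw [e, mul_one]))
    have htuu : t * u ≠ u := fun e => ht1 (mul_right_cancel (b := u) (by rw [e, one_mul]))
    have hfour : ∀ w ∈ fourOf x, w ≠ 1 → w ≠ t →
        ((fun r => r * w * r⁻¹) '' (R : Set G)).ncard = 4 := by
      intro w hw hw1 hwt
      have e := ncard_conj_image R w
      have hI : R ⊓ centralizer ({w} : Set G) = E := by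
        refine le_antisymm (fun r hr => mem_eOf.2 ⟨hr.1, fun v hv => ?_⟩) fun r hr =>
          ⟨(mem_eOf.1 hr).1, mem_centralizer_singleton_iff.2 ((mem_eOf.1 hr).2 w hw).eq.symm⟩
        exact (commute_of_two (h.card_fourOf S.hx) ht4 hw ht1 hw1 hwt.symm
          (mem_centralizer_singleton_iff.1 (S.core.le hr.1)) (mem_centralizer_singleton_iff.1 hr.2)
          v hv).symm
      rw [hI, h16, S.core.card] at e
      omega
    have hsub : insert t ((fun r => r * u * r⁻¹) '' (R : Set G) ∪
        (fun r => r * (t * u) * r⁻¹) '' (R : Set G)) ⊆ O := by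
      have key : ∀ w ∈ fourOf x, w ≠ 1 → ∀ r ∈ R, r * w * r⁻¹ ∈ O := by
        intro w hw hw1 r hr
        obtain ⟨i, hi⟩ := h.pair_orbit p ht4 ht1 hw hw1
        exact ⟨r * y ^ i, mul_mem (hRH hr) (pow_mem hyE i), by rw [← hi]; group⟩
      rintro w (rfl | ⟨r, hr, rfl⟩ | ⟨r, hr, rfl⟩)
      · exact ⟨1, one_mem _, by simp⟩
      · exact key u hu4 hu1 r hr
      · exact key (t * u) htu4 htu1 r hr
    have hle := Set.ncard_le_ncard hsub (Set.toFinite _)
    rw [Set.ncard_insert_of_notMem ?_ (Set.toFinite _), Set.ncard_union_eq ?_ (Set.toFinite _) (Set.toFinite _),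
      hfour u hu4 hu1 hut, hfour _ htu4 htu1 htut] at hle
    · exact hle
    · rw [Set.disjoint_left]
      rintro _ ⟨r, hr, rfl⟩ ⟨r', hr', e⟩
      simp only at e
      refine htuu (h.no_swap S.hx S.core.isPGroup S.x_mem_normalizer (mul_mem (inv_mem hr) hr') htu4 hu4 ?_)
      calc r⁻¹ * r' * (t * u) * (r⁻¹ * r')⁻¹ = r⁻¹ * (r' * (t * u) * r'⁻¹) * r := by group
        _ = u := by rw [e]; group
    · rintro (⟨r, hr, e⟩ | ⟨r, hr, e⟩)
      · exact hut (h.no_swap S.hx S.core.isPGroup S.x_mem_normalizer hr hu4 ht4 e)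
      · exact htut (h.no_swap S.hx S.core.isPGroup S.x_mem_normalizer hr htu4 ht4 e)
  have hHc : Nat.card H = O.ncard * 384 := by
    have e := ncard_conj_image H t
    rw [inf_eq_right.2 hCH, h.card_centralizer_involution S.ht] at e
    exact e.symm
  have hO15 : O.ncard = 15 := by
    have hle := Set.ncard_le_ncard hOsub (Set.toFinite _)
    rw [hEc] at hle
    have hd : O.ncard ∣ 1155 := by
      have hd := card_subgroup_dvd_card H
      rw [hHc, h.card, show (443520 : ℕ) = 1155 * 384 by norm_num] at hd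
      exact Nat.dvd_of_mul_dvd_mul_right (by norm_num) hd
    have h11 : O.ncard ≠ 11 := by
      intro e11
      have : Fact (Nat.Prime 11) := ⟨by norm_num⟩
      obtain ⟨⟨f, hf⟩, hfo⟩ := exists_prime_orderOf_dvd_card' (G := H) 11
        (by rw [hHc, e11]; exact dvd_mul_right 11 384)
      rw [Subgroup.orderOf_mk] at hfo
      obtain ⟨a, ⟨ha, ha1⟩, hfa⟩ := exists_commute_of_not_dvd (by norm_num : Nat.Prime 11) hfo
        ((E : Set G) \ {1}) (fun a ha => ⟨conj_mem_of_mem_normalizer hf ha.1,
          fun e => ha.2 (by simpa using e)⟩) (by rw [hEc]; norm_num)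
      have hd2 : orderOf a ∣ 11 := by
        rw [← h.centralizer_eleven hfo]
        exact Subgroup.orderOf_dvd_natCard _ (mem_centralizer_singleton_iff.2 hfa.eq.symm)
      rw [orderOf_eq_two (helem a ha).1 ha1] at hd2
      norm_num at hd2
    generalize O.ncard = k at hle hO9 hd h11 ⊢
    revert hd h11
    interval_cases k <;> norm_num
  exact ⟨S, h16, fun e he => (helem e he).1, fun e he f hf => (helem e he).2 f hf, hcent, hCH,
    by rw [hHc, hO15], fun e he he1 => by
      have heq : O = (E : Set G) \ {1} :=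
        Set.eq_of_subset_of_ncard_le hOsub (by rw [hEc, hO15]) (Set.toFinite _)
      obtain ⟨g, hg, e'⟩ := (heq.symm ▸ (⟨he, he1⟩ : e ∈ (E : Set G) \ {1}) : e ∈ O)
      exact ⟨g, hg, e'⟩⟩

end Local

end CfsgLib.MathieuTwentyTwo.NseRoute
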