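import Cfsg.Agent.Lib.MathieuTwentyTwo.Counts

/-!
The element orders of a group of order 443520 with the order counts of the Mathieu group of degree 22:
`1, 2, 3, 4, 5, 6, 7, 8, 11`, with 36960 elements of order 6.
-/

set_option autoImplicit false
set_option maxHeartbeats 1000000
set_option linter.unusedSimpArgs false

namespace CfsgLib.MathieuTwentyTwo.NseRoute

open Subgroup CfsgLib.Recog.OrderCounts

universe u

variable {G : Type u} [Group G] [Finite G]

/-- Powers of two that may be element orders. -/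
def twoOrders : Finset ℕ := {4, 8, 16, 32, 64, 128}

/-- Composite orders divisible by three that may be element orders. -/
def threeOrders : Finset ℕ := {6, 9, 12, 18, 24, 36, 48, 72, 96, 144, 192, 288, 384, 576, 1152}

/-- A sum of the possible values is a combination of them. -/
theorem exists_comb {f : ℕ → ℕ} (s : Finset ℕ)
    (hs : ∀ n ∈ s, f n = 0 ∨ f n = 12320 ∨ f n = 36960 ∨ f n = 41580 ∨ f n = 55440) :
    ∃ a b c d : ℕ, ∑ n ∈ s, f n = 12320 * a + 36960 * b + 41580 * c + 55440 * d := by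
  classical
  induction s using Finset.induction_on with
  | empty => exact ⟨0, 0, 0, 0, by simp⟩
  | @insert x s hx ih =>
    obtain ⟨a, b, c, d, he⟩ := ih fun n hn => hs n (Finset.mem_insert_of_mem hn)
    rw [Finset.sum_insert hx, he]
    rcases hs x (Finset.mem_insert_self x s) with e | e | e | e | e <;> rw [e]
    · exact ⟨a, b, c, d, by ring⟩
    · exact ⟨a + 1, b, c, d, by ring⟩
    · exact ⟨a, b + 1, c, d, by ring⟩
    · exact ⟨a, b, c + 1, d, by ring⟩
    · exact ⟨a, b, c, d + 1, by ring⟩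

namespace Nse

variable (h : Nse G)
include h

theorem cnt_two_orders {n : ℕ} (hn : n ∈ twoOrders) :
    cntOrd G n = 0 ∨ cntOrd G n = 12320 ∨ cntOrd G n = 36960 ∨ cntOrd G n = 41580 ∨
      cntOrd G n = 55440 := by
  simp only [twoOrders, Finset.mem_insert, Finset.mem_singleton] at hn
  exact h.cnt_small (by rcases hn with rfl | rfl | rfl | rfl | rfl | rfl <;> norm_num)
    (by omega)

theorem cnt_three_orders {n : ℕ} (hn : n ∈ threeOrders) :
    cntOrd G n = 0 ∨ cntOrd G n = 12320 ∨ cntOrd G n = 36960 ∨ cntOrd G n = 41580 ∨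
      cntOrd G n = 55440 := by
  simp only [threeOrders, Finset.mem_insert, Finset.mem_singleton] at hn
  exact h.cnt_small (by
      rcases hn with rfl | rfl | rfl | rfl | rfl | rfl | rfl | rfl | rfl | rfl | rfl | rfl | rfl |
        rfl | rfl <;> norm_num)
    (by omega)

theorem total : 1 + 1155 + 12320 + 88704 + cntOrd G 10 + 126720 + 80640 +
    ∑ n ∈ twoOrders, cntOrd G n + ∑ n ∈ threeOrders, cntOrd G n = 443520 := by
  classical
  have hD : ∀ g : G, orderOf g ∈
      ({1, 2, 3, 5, 10, 7, 11} : Finset ℕ) ∪ (twoOrders ∪ threeOrders) := by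
    intro g
    rcases h.orderOf_cases g with e | e | e | e | e
    · simp [e]
    · simp [e]
    · simp [e]
    · simp [e]
    · have key : ∀ o ∈ Nat.divisors 1152, o ∈
          ({1, 2, 3, 5, 10, 7, 11} : Finset ℕ) ∪ (twoOrders ∪ threeOrders) := by decide +kernel
      exact key _ (Nat.mem_divisors.2 ⟨e, by norm_num⟩)
  have e := card_eq_sum (G := G) hD
  rw [Finset.sum_union (by decide), Finset.sum_union (by decide), h.card] at e
  simp [Finset.sum_insert, Finset.mem_insert, Finset.mem_singleton, Finset.sum_singleton,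
    OfNat.one_ne_ofNat, or_self, not_false_eq_true, cntOrd_one, h.cnt_two,
    h.cnt_three, h.cnt_five, h.cnt_seven, h.cnt_eleven] at e
  omega

theorem cnt_ten : cntOrd G 10 = 0 := by
  have : Fact (Nat.Prime 5) := ⟨by norm_num⟩
  by_contra hne
  have hd : 22176 ∣ cntOrd G 10 := h.card_sylow_five ▸ card_sylow_dvd_cntOrd
    (card_sylow_eq_prime (G := G) (by rw [h.card]; norm_num) (h.not_sq_dvd (by simp))) (by norm_num)
  obtain ⟨a, b, c, d, e2⟩ := exists_comb (f := cntOrd G) twoOrders fun n hn => h.cnt_two_orders hn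
  obtain ⟨a', b', c', d', e3⟩ := exists_comb (f := cntOrd G) threeOrders fun n hn => h.cnt_three_orders hn
  have ht := h.total
  rcases h.cnt_value hne with e | e | e | e | e | e | e | e | e <;> omega

theorem centralizer_five {y : G} (hy : orderOf y = 5) :
    Nat.card (centralizer ({y} : Set G)) = 5 := by
  have h10 := h.centralizer_five_dvd hy
  have h5 : 5 ∣ Nat.card (centralizer ({y} : Set G)) :=
    hy ▸ orderOf_dvd_card_centralizer (mem_centralizer_singleton_iff.2 rfl)
  obtain ⟨k, hk⟩ := h5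
  have hle := Nat.le_of_dvd (by norm_num) h10
  rw [hk] at h10 hle
  have hk2 : k ≤ 2 := by omega
  have hpos : 0 < Nat.card (centralizer ({y} : Set G)) := Nat.card_pos
  interval_cases k
  · omega
  · omega
  · exfalso
    have : Fact (Nat.Prime 2) := ⟨Nat.prime_two⟩
    obtain ⟨⟨s, hs⟩, hso⟩ := exists_prime_orderOf_dvd_card' 2
      (show 2 ∣ Nat.card (centralizer ({y} : Set G)) by omega)
    rw [Subgroup.orderOf_mk] at hso
    have hc : Commute s y := mem_centralizer_singleton_iff.1 hs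
    have e : orderOf (s * y) = 10 := by
      rw [hc.orderOf_mul_eq_mul_orderOf_of_coprime (by rw [hso, hy]; norm_num), hso, hy]
    exact (cntOrd_ne_zero_iff 10).2 ⟨_, e⟩ h.cnt_ten

theorem sum_two_three : ∑ n ∈ twoOrders, cntOrd G n = 97020 ∧
    ∑ n ∈ threeOrders, cntOrd G n = 36960 := by
  classical
  obtain ⟨a, b, c, d, e2⟩ := exists_comb (f := cntOrd G) twoOrders fun n hn => h.cnt_two_orders hn
  have ht := h.total
  rw [h.cnt_ten] at ht
  have h128 := dvd_sum_cntOrd (G := G) (n := 128) (by rw [h.card]; norm_num)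
  rw [show (128 : ℕ).divisors = {1, 2} ∪ twoOrders by decide +kernel,
    Finset.sum_union (by decide)] at h128
  simp [Finset.sum_insert, cntOrd_one, h.cnt_two] at h128
  generalize hS : ∑ n ∈ twoOrders, cntOrd G n = S at *
  generalize ∑ n ∈ threeOrders, cntOrd G n = T at *
  have hP : ∃ P, S = 385 * P ∧ P = 32 * a + 96 * b + 108 * c + 144 * d :=
    ⟨_, by omega, rfl⟩
  obtain ⟨P, hSP, hP⟩ := hP
  have hP' : P = 124 ∨ P = 252 := by
    clear e2 hS hP
    omega
  rcases hP' with rfl | rfl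
  · exfalso
    clear h128 ht hSP hS e2
    omega
  · clear h128 hP e2 hS
    omega

theorem cnt_six : cntOrd G 6 = 36960 ∧
    ∀ n ∈ threeOrders, n ≠ 6 → cntOrd G n = 0 := by
  classical
  obtain ⟨-, hS⟩ := h.sum_two_three
  have hsplit : cntOrd G 6 + ∑ n ∈ threeOrders.erase 6, cntOrd G n = 36960 :=
    (Finset.add_sum_erase _ _ (by decide)).trans hS
  have h6 := dvd_sum_cntOrd (G := G) (n := 6) (by rw [h.card]; norm_num)
  rw [show (6 : ℕ).divisors = {1, 2, 3, 6} by decide] at h6
  simp [Finset.sum_insert, Finset.mem_insert, Finset.mem_singleton, OfNat.one_ne_ofNat,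
    or_self, not_false_eq_true, Finset.sum_singleton, cntOrd_one,
    h.cnt_three, h.cnt_two] at h6
  have hz : ∀ n ∈ threeOrders, cntOrd G n ≠ 0 → cntOrd G 6 ≠ 0 ∨ cntOrd G 9 ≠ 0 := by
    intro n hn hne
    have key : ∀ m ∈ threeOrders, 6 ∣ m ∨ 9 ∣ m := by decide +kernel
    exact (key n hn).imp (fun e => cntOrd_ne_zero_of_dvd e hne) (fun e => cntOrd_ne_zero_of_dvd e hne)
  have h9 : cntOrd G 9 = 0 := by
    have hle : cntOrd G 9 ≤ 36960 := hS ▸ Finset.single_le_sum (f := cntOrd G)
      (fun _ _ => Nat.zero_le _) (by decide : 9 ∈ threeOrders)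
    have h9' := dvd_sum_cntOrd (G := G) (n := 9) (by rw [h.card]; norm_num)
    rw [show (9 : ℕ).divisors = {1, 3, 9} by decide] at h9'
    simp [Finset.sum_insert, Finset.mem_insert, Finset.mem_singleton, OfNat.one_ne_ofNat,
      or_self, not_false_eq_true, Finset.sum_singleton, cntOrd_one,
      h.cnt_three] at h9'
    rcases h.cnt_three_orders (n := 9) (by decide) with e | e | e | e | e <;> omega
  have h6ne : cntOrd G 6 ≠ 0 := by
    intro e0
    have : ∑ n ∈ threeOrders, cntOrd G n = 0 := Finset.sum_eq_zero fun n hn => by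
      by_contra hne
      exact (hz n hn hne).elim (fun e => e e0) (fun e => e h9)
    omega
  have h6v : cntOrd G 6 = 36960 := by
    rcases h.cnt_three_orders (n := 6) (by decide) with e | e | e | e | e <;> omega
  refine ⟨h6v, fun n hn hn6 => ?_⟩
  have h0 : ∑ m ∈ threeOrders.erase 6, cntOrd G m = 0 := by omega
  exact Finset.sum_eq_zero_iff.1 h0 n (Finset.mem_erase.2 ⟨hn6, hn⟩)

theorem cnt_four_eight : cntOrd G 8 ≠ 0 ∧
    ∀ n ∈ twoOrders, n ≠ 4 → n ≠ 8 → cntOrd G n = 0 := by
  classical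
  obtain ⟨hS, -⟩ := h.sum_two_three
  obtain ⟨a, b, c, d, e⟩ := exists_comb (f := cntOrd G) ({32, 64, 128} : Finset ℕ) fun n hn =>
    h.cnt_two_orders (by revert hn; revert n; decide)
  simp only [twoOrders] at hS
  rw [show ({4, 8, 16, 32, 64, 128} : Finset ℕ) = {4, 8, 16} ∪ {32, 64, 128} by decide,
    Finset.sum_union (by decide)] at hS
  simp [Finset.sum_insert, Finset.mem_insert, Finset.mem_singleton,
    or_self, not_false_eq_true, Finset.sum_singleton] at hS e
  have h4 := h.cnt_two_orders (n := 4) (by decide)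
  have h8 := h.cnt_two_orders (n := 8) (by decide)
  have h16 := h.cnt_two_orders (n := 16) (by decide)
  have c84 : cntOrd G 8 ≠ 0 → cntOrd G 4 ≠ 0 := cntOrd_ne_zero_of_dvd (by norm_num)
  have c168 : cntOrd G 16 ≠ 0 → cntOrd G 8 ≠ 0 := cntOrd_ne_zero_of_dvd (by norm_num)
  have c3216 : cntOrd G 32 ≠ 0 → cntOrd G 16 ≠ 0 := cntOrd_ne_zero_of_dvd (by norm_num)
  have c6432 : cntOrd G 64 ≠ 0 → cntOrd G 32 ≠ 0 := cntOrd_ne_zero_of_dvd (by norm_num)
  have c12864 : cntOrd G 128 ≠ 0 → cntOrd G 64 ≠ 0 := cntOrd_ne_zero_of_dvd (by norm_num)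
  have h8ne : cntOrd G 8 ≠ 0 := by
    intro e0; omega
  refine ⟨h8ne, fun n hn hn4 hn8 => ?_⟩
  have h16' : cntOrd G 16 = 0 := by
    by_contra hne
    have := c84 h8ne
    omega
  simp only [twoOrders, Finset.mem_insert, Finset.mem_singleton] at hn
  rcases hn with rfl | rfl | rfl | rfl | rfl | rfl <;> omega

/-- The element orders. -/
theorem orderOf_mem (g : G) : orderOf g ∈ ({1, 2, 3, 4, 5, 6, 7, 8, 11} : Finset ℕ) := by
  have hne : cntOrd G (orderOf g) ≠ 0 := (cntOrd_ne_zero_iff _).2 ⟨g, rfl⟩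
  rcases h.orderOf_cases g with e | e | e | e | e
  · simp [e]
  · exact absurd h.cnt_ten (e ▸ hne)
  · simp [e]
  · simp [e]
  · have key : ∀ o ∈ Nat.divisors 1152, o ∈ ({1, 2, 3, 4, 5, 6, 7, 8, 11} : Finset ℕ) ∨
        (o ∈ twoOrders ∧ o ≠ 4 ∧ o ≠ 8) ∨ (o ∈ threeOrders ∧ o ≠ 6) := by decide +kernel
    rcases key _ (Nat.mem_divisors.2 ⟨e, by norm_num⟩) with e' | ⟨e', h4, h8⟩ | ⟨e', h6⟩
    · exact e'
    · exact absurd (h.cnt_four_eight.2 _ e' h4 h8) hne
    · exact absurd (h.cnt_six.2 _ e' h6) hne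

end Nse

end CfsgLib.MathieuTwentyTwo.NseRoute
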